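import Cfsg.Agent.Mrg.Omega.BTwo.Str
import Mathlib.LinearAlgebra.BilinearForm.Orthogonal
import Cfsg.Agent.Mrg.Omega.BTwo.QuadGrp
import Cfsg.Agent.Mrg.Omega.Lie.TorD
import Cfsg.Agent.Mrg.Omega.BTwo.Conj
import Mathlib

-- merged: Cfsg.Agent.Mrg.Omega.Lie.Nodes.Sigma
section

section


/-!
# NODE LIE, TEXT NODES (#14331) (L): `Σ = W_N y_2` is normalised by `X` and by `P^`

`S` is the preimage `W_N` of `N` in `W`, `n ∈ X` swaps `R i` and `R j`, `Σ = S ⊔ S ^ n`.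

* `W_norm`, `n_norm`, `X_norm`: `[W, S ^ n] ≤ S` implies that `W`, `n` and `X = ⟨W, W ^ n⟩` normalise `Σ`.
* `P_norm`: `[P, S ^ n] ≤ W`, `P ≤ C(R)`, the double centraliser condition and "linear = semilinear" imply
  that `P` normalises `Σ`.
-/

set_option autoImplicit false

namespace Cfsg.Agent.Omega.Lie.Nodes

open Subgroup Cfsg.Agent.Omega.BTwo

universe u v w

variable {G : Type u} [Group G]

/-- `K` normalises `S ⊔ T` if it moves elements of `S`, `T` inside modulo `S ⊔ T` -/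
theorem le_normalizer_sup {K S T : Subgroup G}
    (hS : ∀ k ∈ K, ∀ s ∈ S, k * s * k⁻¹ ∈ S ⊔ T) (hT : ∀ k ∈ K, ∀ s ∈ T, k * s * k⁻¹ ∈ S ⊔ T) :
    K ≤ normalizer ((S ⊔ T : Subgroup G) : Set G) := by
  have key : ∀ k ∈ K, ∀ x ∈ S ⊔ T, k * x * k⁻¹ ∈ S ⊔ T := by
    intro k hk
    have h : S ⊔ T ≤ (S ⊔ T).comap (MulAut.conj k).toMonoidHom :=
      sup_le (fun s hs => hS k hk s hs) (fun s hs => hT k hk s hs)
    exact fun x hx => h hx
  intro k hk
  rw [mem_normalizer_iff]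
  intro x
  refine ⟨fun hx => key k hk x hx, fun hx => ?_⟩
  have := key k⁻¹ (inv_mem hk) _ hx
  rwa [inv_inv, show k⁻¹ * (k * x * k⁻¹) * k = x by group] at this

/-! ### `X` normalises `Σ` -/

section X

variable {R W S : Subgroup G} {n : G}

theorem W_norm (hRS : R ≤ S) (hSW : S ≤ W) (hW : ∀ x ∈ W, ∀ y ∈ W, x * y * x⁻¹ * y⁻¹ ∈ R)
    (key : ∀ w ∈ W, ∀ x ∈ cj n S, w * x * w⁻¹ * x⁻¹ ∈ S) :
    W ≤ normalizer ((S ⊔ cj n S : Subgroup G) : Set G) := by
  refine le_normalizer_sup (fun w hw s hs => ?_) (fun w hw s hs => ?_)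
  · have h := mul_mem (hRS (hW w hw s (hSW hs))) hs
    rw [inv_mul_cancel_right] at h
    exact (le_sup_left : S ≤ _) h
  · have h := mul_mem ((le_sup_left : S ≤ S ⊔ cj n S) (key w hw s hs)) ((le_sup_right : cj n S ≤ S ⊔ cj n S) hs)
    rwa [inv_mul_cancel_right] at h

theorem cj_sigma (hnn : cj n (cj n S) = S) : cj n (S ⊔ cj n S) = S ⊔ cj n S := by
  have h : cj n (S ⊔ cj n S) = cj n S ⊔ cj n (cj n S) := by
    unfold cj
    rw [Subgroup.map_sup]
  rw [h, hnn, sup_comm]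

/-- **`X` normalises `Σ`** -/
theorem X_norm (hRS : R ≤ S) (hSW : S ≤ W) (hW : ∀ x ∈ W, ∀ y ∈ W, x * y * x⁻¹ * y⁻¹ ∈ R)
    (key : ∀ w ∈ W, ∀ x ∈ cj n S, w * x * w⁻¹ * x⁻¹ ∈ S) (hnn : cj n (cj n S) = S) :
    W ⊔ cj n W ≤ normalizer ((S ⊔ cj n S : Subgroup G) : Set G) := by
  have h1 := W_norm hRS hSW hW key
  refine sup_le h1 ?_
  have h2 : n ∈ normalizer ((S ⊔ cj n S : Subgroup G) : Set G) := by
    have e := cj_sigma hnn
    rw [mem_normalizer_iff]
    intro x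
    have h3 : x ∈ S ⊔ cj n S ↔ n * x * n⁻¹ ∈ cj n (S ⊔ cj n S) := by
      rw [mem_cj]
      rw [show n⁻¹ * (n * x * n⁻¹) * n = x by group]
    rw [h3, e]
  intro x hx
  have hx' := mem_cj.1 hx
  have h4 := mul_mem (mul_mem h2 (h1 hx')) (inv_mem h2)
  rwa [show n * (n⁻¹ * x * n) * n⁻¹ = x by group] at h4

/-- `Σ` is abelian -/
theorem sigma_comm (hS : ∀ x ∈ S, ∀ y ∈ S, x * y = y * x) (hSS : ∀ x ∈ S, ∀ y ∈ cj n S, x * y = y * x) :
    ∀ x ∈ S ⊔ cj n S, ∀ y ∈ S ⊔ cj n S, x * y = y * x := by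
  have h1 : S ≤ centralizer ((S ⊔ cj n S : Subgroup G) : Set G) := by
    intro x hx
    have h : S ⊔ cj n S ≤ centralizer {x} :=
      sup_le (fun y hy => mem_centralizer_singleton_iff.2 (hS y hy x hx))
        (fun y hy => mem_centralizer_singleton_iff.2 (hSS x hx y hy).symm)
    rw [mem_centralizer_iff]
    intro y hy
    exact mem_centralizer_singleton_iff.1 (h hy)
  have h2 : cj n S ≤ centralizer ((S ⊔ cj n S : Subgroup G) : Set G) := by
    intro x hx
    have h : S ⊔ cj n S ≤ centralizer {x} := by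
      refine sup_le (fun y hy => mem_centralizer_singleton_iff.2 (hSS y hy x hx))
        (fun y hy => mem_centralizer_singleton_iff.2 ?_)
      have h3 := hS _ (mem_cj.1 hx) _ (mem_cj.1 hy)
      calc y * x = n * (n⁻¹ * y * n * (n⁻¹ * x * n)) * n⁻¹ := by group
        _ = n * (n⁻¹ * x * n * (n⁻¹ * y * n)) * n⁻¹ := by rw [← h3]
        _ = x * y := by group
    rw [mem_centralizer_iff]
    intro y hy
    exact mem_centralizer_singleton_iff.1 (h hy)
  intro x hx y hy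
  exact ((mem_centralizer_iff.1 ((sup_le h1 h2) hx)) y hy).symm

/-- `Σ` is elementary abelian -/
theorem sigma_sq (hS : ∀ x ∈ S, ∀ y ∈ S, x * y = y * x) (hSS : ∀ x ∈ S, ∀ y ∈ cj n S, x * y = y * x)
    (hS2 : ∀ x ∈ S, x * x = 1) : ∀ x ∈ S ⊔ cj n S, x * x = 1 := by
  have hc := sigma_comm hS hSS
  let T : Subgroup G :=
    { carrier := {x | x ∈ S ⊔ cj n S ∧ x * x = 1}
      one_mem' := ⟨one_mem _, one_mul 1⟩
      mul_mem' := by
        rintro x y ⟨hx, hx'⟩ ⟨hy, hy'⟩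
        refine ⟨mul_mem hx hy, ?_⟩
        calc x * y * (x * y) = x * (y * x) * y := by group
          _ = x * (x * y) * y := by rw [hc y hy x hx]
          _ = (x * x) * (y * y) := by group
          _ = 1 := by rw [hx', hy', one_mul]
      inv_mem' := by
        rintro x ⟨hx, hx'⟩
        refine ⟨inv_mem hx, ?_⟩
        rw [← mul_inv_rev, hx', inv_one] }
  have hT : S ⊔ cj n S ≤ T := by
    refine sup_le (fun x hx => ⟨(le_sup_left : S ≤ _) hx, hS2 x hx⟩)
      (fun x hx => ⟨(le_sup_right : cj n S ≤ _) hx, ?_⟩)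
    have h3 := hS2 _ (mem_cj.1 hx)
    calc x * x = n * (n⁻¹ * x * n * (n⁻¹ * x * n)) * n⁻¹ := by group
      _ = 1 := by rw [h3]; group
  exact fun x hx => (hT hx).2

end X

/-! ### `P` normalises `Σ` -/

section P

/-- the commutator form of `W / R` over `F` -/
structure Fr {F : Type v} [Field F] {M : Type w} [AddCommGroup M] [Module F M] (R W : Subgroup G)
    (q : G → M) (f : M →ₗ[F] M →ₗ[F] F) (r : F → G) : Prop where
  mul : ∀ x ∈ W, ∀ y ∈ W, q (x * y) = q x + q y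
  zero : ∀ x ∈ W, (q x = 0 ↔ x ∈ R)
  surj : ∀ m, ∃ x ∈ W, q x = m
  comm : ∀ x ∈ W, ∀ y ∈ W, x * y * x⁻¹ * y⁻¹ = r (f (q x) (q y))
  r_mem : ∀ a, r a ∈ R
  r_add : ∀ a b, r (a + b) = r a * r b
  r_inj : ∀ a, r a = 1 → a = 0
  cen : ∀ x ∈ W, ∀ a, x * r a = r a * x
  nd : ∀ m, (∀ m', f m m' = 0) → m = 0

variable {F : Type v} [Field F] {M : Type w} [AddCommGroup M] [Module F M] {R W : Subgroup G}
    {q : G → M} {f : M →ₗ[F] M →ₗ[F] F} {r : F → G}

namespace Fr

theorem r_zero (h : Fr R W q f r) : r 0 = 1 := by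
  have := h.r_add 0 0
  rw [add_zero] at this
  exact left_eq_mul.1 this

theorem r_injective (h : Fr R W q f r) {a b : F} (hab : r a = r b) : a = b := by
  have h1 : r (a - b) * r b = r b := by rw [← h.r_add, sub_add_cancel, hab]
  have h2 : r (a - b) = 1 := mul_eq_right.1 h1
  exact sub_eq_zero.1 (h.r_inj _ h2)

theorem comm_iff (h : Fr R W q f r) {x y : G} (hx : x ∈ W) (hy : y ∈ W) :
    x * y = y * x ↔ f (q x) (q y) = 0 := by
  have h1 := h.comm x hx y hy
  constructor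
  · intro e
    have h2 : x * y * x⁻¹ * y⁻¹ = 1 := by rw [e]; group
    rw [h2] at h1
    exact h.r_inj _ h1.symm
  · intro e
    rw [e, h.r_zero, mul_inv_eq_one, mul_inv_eq_iff_eq_mul] at h1
    exact h1

theorem r_inv (h : Fr R W q f r) (a : F) : (r a)⁻¹ = r (-a) := by
  have h1 : r (-a) * r a = 1 := by rw [← h.r_add, neg_add_cancel, h.r_zero]
  exact (eq_inv_of_mul_eq_one_left h1).symm

/-- double centraliser: if `q x` lies in the span of `q S` whenever `x` centralises `C_W(S)` -/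
theorem dc_of [Finite M] (h : Fr R W q f r) {S : Subgroup G} (hRS : R ≤ S) (hSW : S ≤ W)
    (N : Submodule F M) (hN : ∀ x ∈ W, (x ∈ S ↔ q x ∈ N))
    (hD : ∀ m, (∀ m', (∀ n ∈ N, f m' n = 0) → f m m' = 0) → m ∈ N) :
    ∀ x ∈ W, (∀ y ∈ W, (∀ s ∈ S, y * s = s * y) → x * y = y * x) → x ∈ S := by
  have _ := hRS
  intro x hx hc
  rw [hN x hx]
  apply hD
  intro m' hm'
  obtain ⟨y, hy, rfl⟩ := h.surj m'
  rw [← h.comm_iff hx hy]
  apply hc y hy
  intro s hs
  rw [h.comm_iff hy (hSW hs)]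
  exact hm' _ ((hN s (hSW hs)).1 hs)

end Fr

variable {S P : Subgroup G} {n : G}

/-- **`P` normalises `Σ`** -/
theorem P_norm (h : Fr R W q f r) (hSW : S ≤ W)
    (hSC : ∀ x ∈ S, ∀ y ∈ cj n S, x * y = y * x)
    (hPR : P ≤ centralizer (R : Set G)) (hPS : P ≤ normalizer (S : Set G)) (hPW : P ≤ normalizer (W : Set G))
    (hPM : ∀ p ∈ P, ∃ A : M →ₗ[F] M, ∀ x ∈ W, q (p * x * p⁻¹) = A (q x))
    -- (S)
    (hS : ∀ p ∈ P, ∀ x ∈ cj n S, p * x * p⁻¹ * x⁻¹ ∈ W)
    -- (KEY): the elements of `C_W(S)` centralise `S ^ n` modulo `R`; the form `β_x`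
    (β : G → M → F) (hβ : ∀ x ∈ cj n S, ∀ w ∈ W, (∀ s ∈ S, w * s = s * w) →
      w * x * w⁻¹ * x⁻¹ = r (β x (q w)))
    {l : F} (hl : l ≠ 0) (hl1 : l ≠ 1)
    (hsemi : ∀ x ∈ cj n S, ∀ w ∈ W, (∀ s ∈ S, w * s = s * w) → β x (l • q w) = (l * l) * β x (q w))
    (dc : ∀ x ∈ W, (∀ y ∈ W, (∀ s ∈ S, y * s = s * y) → x * y = y * x) → x ∈ S) :
    P ≤ normalizer ((S ⊔ cj n S : Subgroup G) : Set G) := by
  refine le_normalizer_sup (fun p hp s hs => (le_sup_left : S ≤ _) (conj_mem_of_normalizer (hPS hp) hs))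
    (fun p hp x hx => ?_)
  -- `w₀ = [p, x]`
  set u := p * x * p⁻¹ * x⁻¹ with hu
  have huW : u ∈ W := hS p hp x hx
  have hpx : p * x * p⁻¹ = u * x := by rw [hu]; group
  suffices hus : u ∈ S by
    rw [hpx]
    exact mul_mem ((le_sup_left : S ≤ _) hus) ((le_sup_right : cj n S ≤ _) hx)
  apply dc u huW
  -- elements of `C_W(S)`
  have hconjC : ∀ p ∈ P, ∀ w, (∀ s ∈ S, w * s = s * w) → ∀ s ∈ S, (p * w * p⁻¹) * s = s * (p * w * p⁻¹) := by
    intro p hp w hw s hs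
    have h1 := hw (p⁻¹ * s * p) (conj_inv_mem_of_normalizer (hPS hp) hs)
    calc (p * w * p⁻¹) * s = p * (w * (p⁻¹ * s * p)) * p⁻¹ := by group
      _ = p * (p⁻¹ * s * p * w) * p⁻¹ := by rw [h1]
      _ = s * (p * w * p⁻¹) := by group
  have hPr : ∀ p ∈ P, ∀ a, p * r a * p⁻¹ = r a := by
    intro p hp a
    have h1 := mem_centralizer_iff.1 (hPR hp) _ (h.r_mem a)
    rw [← h1, mul_inv_cancel_right]
  -- `u` centralises `S`
  have hxC : ∀ s ∈ S, x * s = s * x := fun s hs => (hSC s hs x hx).symm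
  have hpxC : ∀ s ∈ S, (p * x * p⁻¹) * s = s * (p * x * p⁻¹) := hconjC p hp x hxC
  have huC : ∀ s ∈ S, u * s = s * u := by
    intro s hs
    have e : u = p * x * p⁻¹ * x⁻¹ := hu
    have h1 : x⁻¹ * s = s * x⁻¹ := by
      have := hxC s hs
      calc x⁻¹ * s = x⁻¹ * (s * x) * x⁻¹ := by group
        _ = x⁻¹ * (x * s) * x⁻¹ := by rw [this]
        _ = s * x⁻¹ := by group
    calc u * s = (p * x * p⁻¹) * (x⁻¹ * s) := by rw [e]; group
      _ = (p * x * p⁻¹) * s * x⁻¹ := by rw [h1]; group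
      _ = s * (p * x * p⁻¹) * x⁻¹ := by rw [hpxC s hs]
      _ = s * u := by rw [e]; group
  -- the key identity: `β_x(w) = f(w^p, u) + β_x(w^p)`
  have hid : ∀ w ∈ W, (∀ s ∈ S, w * s = s * w) →
      β x (q w) = f (q (p * w * p⁻¹)) (q u) + β x (q (p * w * p⁻¹)) := by
    intro w hw hwC
    have hw' : p * w * p⁻¹ ∈ W := conj_mem_of_normalizer (hPW hp) hw
    have hwC' := hconjC p hp w hwC
    apply h.r_injective
    rw [h.r_add, ← hβ x hx w hw hwC, ← hβ x hx _ hw' hwC', ← h.comm _ hw' u huW]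
    -- `[w, x] = [w, x]^p = [w^p, u x] = [w^p, u] u [w^p, x] u⁻¹`
    have h1 : w * x * w⁻¹ * x⁻¹ = p * (w * x * w⁻¹ * x⁻¹) * p⁻¹ := by
      rw [hβ x hx w hw hwC, hPr p hp]
    have h2 : p * (w * x * w⁻¹ * x⁻¹) * p⁻¹ =
        (p * w * p⁻¹) * (p * x * p⁻¹) * (p * w * p⁻¹)⁻¹ * (p * x * p⁻¹)⁻¹ := by group
    have h3 : u * ((p * w * p⁻¹) * x * (p * w * p⁻¹)⁻¹ * x⁻¹) = (p * w * p⁻¹) * x * (p * w * p⁻¹)⁻¹ * x⁻¹ * u := by
      rw [hβ x hx _ hw' hwC', h.cen u huW]
    calc w * x * w⁻¹ * x⁻¹ = (p * w * p⁻¹) * (p * x * p⁻¹) * (p * w * p⁻¹)⁻¹ * (p * x * p⁻¹)⁻¹ := by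
          rw [h1, h2]
      _ = (p * w * p⁻¹) * (u * x) * (p * w * p⁻¹)⁻¹ * (u * x)⁻¹ := by rw [hpx]
      _ = ((p * w * p⁻¹) * u * (p * w * p⁻¹)⁻¹ * u⁻¹) *
          (u * ((p * w * p⁻¹) * x * (p * w * p⁻¹)⁻¹ * x⁻¹)) * u⁻¹ := by group
      _ = ((p * w * p⁻¹) * u * (p * w * p⁻¹)⁻¹ * u⁻¹) *
          ((p * w * p⁻¹) * x * (p * w * p⁻¹)⁻¹ * x⁻¹) := by rw [h3]; group
  -- linear = semilinear
  obtain ⟨A, hA⟩ := hPM p hp
  have hzero : ∀ w ∈ W, (∀ s ∈ S, w * s = s * w) → f (q (p * w * p⁻¹)) (q u) = 0 := by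
    intro w hw hwC
    obtain ⟨w', hw', hq⟩ := h.surj (l • q w)
    have hwC2 : ∀ s ∈ S, w' * s = s * w' := by
      intro s hs
      rw [h.comm_iff hw' (hSW hs), hq, map_smul, LinearMap.smul_apply, (h.comm_iff hw (hSW hs)).1 (hwC s hs),
        smul_zero]
    have hcw : p * w * p⁻¹ ∈ W := conj_mem_of_normalizer (hPW hp) hw
    have hcw' : p * w' * p⁻¹ ∈ W := conj_mem_of_normalizer (hPW hp) hw'
    have e1 := hid w hw hwC
    have e2 := hid w' hw' hwC2
    have e3 : q (p * w' * p⁻¹) = l • q (p * w * p⁻¹) := by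
      rw [hA w' hw', hq, map_smul, ← hA w hw]
    rw [e3, hq, map_smul, LinearMap.smul_apply, hsemi x hx w hw hwC,
      hsemi x hx _ hcw (hconjC p hp w hwC), e1, smul_eq_mul] at e2
    have e4 : (l * l - l) * f (q (p * w * p⁻¹)) (q u) = 0 := by linear_combination e2
    have e5 : l * l - l ≠ 0 := by
      rw [show l * l - l = l * (l - 1) by ring]
      exact mul_ne_zero hl (sub_ne_zero.2 hl1)
    exact (mul_eq_zero.1 e4).resolve_left e5
  intro y hy hyC
  -- `y = w^p`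
  have hpi : p⁻¹ ∈ P := inv_mem hp
  have hy' : p⁻¹ * y * p ∈ W := conj_inv_mem_of_normalizer (hPW hp) hy
  have hyC' : ∀ s ∈ S, (p⁻¹ * y * p) * s = s * (p⁻¹ * y * p) := by
    have := hconjC p⁻¹ hpi y hyC
    rwa [inv_inv] at this
  have h1 := hzero _ hy' hyC'
  rw [show p * (p⁻¹ * y * p) * p⁻¹ = y by group] at h1
  exact ((h.comm_iff hy huW).2 h1).symm

end P

end Cfsg.Agent.Omega.Lie.Nodes

end

section


/-!
# NODE LIE, TEXT NODES (#14331) (L): the linear algebra of `N = e + Z + ⟨n_g⟩`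

`NFr f e M0 n s`: the frame of `M = W i / R i`: `e^⊥ = e ⊕ M0 ⊕ n(E)`, `s : E × E → M0`, `T(g,h,k) = f (s g h) (n k)`
alternating.  `Ng g = ⟨e⟩ + s(g, E) + ⟨n g⟩` is totally isotropic and `(Ng g)^⊥ = {c e + d + n h | f d (n g) = 0, s g h = 0}`.
-/

set_option autoImplicit false

namespace Cfsg.Agent.Omega.Lie.Nodes

open Submodule

universe u v w

/-- the linear frame -/
structure NFr {F : Type v} [Field F] {M : Type u} [AddCommGroup M] [Module F M] {E : Type w} [AddCommGroup E]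
    [Module F E] (f : M →ₗ[F] M →ₗ[F] F) (e : M) (M0 : Submodule F M) (n : E →ₗ[F] M)
    (s : E → E → M) : Prop where
  alt : ∀ m, f m m = 0
  nd : ∀ m, (∀ m', f m m' = 0) → m = 0
  f_e_M0 : ∀ d ∈ M0, f e d = 0
  f_e_n : ∀ g, f e (n g) = 0
  f_M0 : ∀ d ∈ M0, ∀ d' ∈ M0, f d d' = 0
  f_n : ∀ g g', f (n g) (n g') = 0
  perp : ∀ m, f e m = 0 → ∃ c : F, ∃ d ∈ M0, ∃ g, m = c • e + d + n g
  inj : ∀ d ∈ M0, (∀ g, f d (n g) = 0) → d = 0
  indep : ∀ c : F, ∀ d ∈ M0, ∀ g, c • e + d + n g = 0 → g = 0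
  s_mem : ∀ g h, s g h ∈ M0
  T_self : ∀ g h, f (s g h) (n g) = 0
  T_swap : ∀ g h k, f (s g h) (n k) = - f (s g k) (n h)

namespace NFr

variable {F : Type v} [Field F] {M : Type u} [AddCommGroup M] [Module F M] {E : Type w} [AddCommGroup E]
    [Module F E] {f : M →ₗ[F] M →ₗ[F] F} {e : M} {M0 : Submodule F M} {n : E →ₗ[F] M}
    {s : E → E → M} (h : NFr f e M0 n s)
include h

theorem skew (m m' : M) : f m m' = - f m' m := by
  have h1 := h.alt (m + m')
  rw [map_add, map_add, LinearMap.add_apply, LinearMap.add_apply, h.alt, h.alt, zero_add, add_zero] at h1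
  exact eq_neg_of_add_eq_zero_right h1

theorem ee : f e e = 0 := h.alt e

theorem f_M0_e {d : M} (hd : d ∈ M0) : f d e = 0 := by rw [h.skew, h.f_e_M0 d hd, neg_zero]

theorem f_n_e (g : E) : f (n g) e = 0 := by rw [h.skew, h.f_e_n g, neg_zero]

theorem s_eq_zero {g k : E} (hk : ∀ l, f (s g k) (n l) = 0) : s g k = 0 := h.inj _ (h.s_mem g k) hk

theorem s_self (g : E) : ∀ l, f (s g l) (n g) = 0 := h.T_self g

theorem s_diag (g : E) (h2 : ∀ l, f (s g l) (n g) = 0) : s g g = 0 := by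
  apply h.s_eq_zero
  intro l
  rw [h.T_swap, h2, neg_zero]

theorem s_gg (g : E) : s g g = 0 := h.s_diag g (h.T_self g)

end NFr

section N

variable {F : Type v} [Field F] {M : Type u} [AddCommGroup M] [Module F M] {E : Type w} [AddCommGroup E]
    [Module F E]

/-- `N = ⟨e⟩ + s(g, E) + ⟨n g⟩` -/
def Ng (e : M) (n : E →ₗ[F] M) (s : E → E → M) (g : E) : Submodule F M :=
  span F {e} ⊔ span F (Set.range (s g)) ⊔ span F {n g}

/-- `Z = ⟨s(g, E)⟩` -/
def Zg (F : Type v) [Field F] {M : Type u} [AddCommGroup M] [Module F M] {E : Type w} (s : E → E → M) (g : E) :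
    Submodule F M := span F (Set.range (s g))

variable {f : M →ₗ[F] M →ₗ[F] F} {e : M} {M0 : Submodule F M} {n : E →ₗ[F] M} {s : E → E → M} {g : E}

theorem e_mem_Ng : e ∈ Ng e n s g :=
  (le_sup_left.trans le_sup_left : span F {e} ≤ Ng e n s g) (mem_span_singleton_self e)

theorem n_mem_Ng : n g ∈ Ng e n s g :=
  (le_sup_right : span F {n g} ≤ Ng e n s g) (mem_span_singleton_self _)

theorem Zg_le_Ng : Zg F s g ≤ Ng e n s g := le_sup_right.trans le_sup_left

omit [AddCommGroup E] [Module F E] in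
theorem s_mem_Zg (k : E) : s g k ∈ Zg F s g := subset_span ⟨k, rfl⟩

theorem mem_Ng {m : M} : m ∈ Ng e n s g ↔ ∃ c : F, ∃ z ∈ Zg F s g, ∃ r : F, m = c • e + z + r • n g := by
  unfold Ng
  rw [mem_sup]
  constructor
  · rintro ⟨y, hy, z, hz, rfl⟩
    obtain ⟨y1, hy1, y2, hy2, rfl⟩ := mem_sup.1 hy
    obtain ⟨c, rfl⟩ := mem_span_singleton.1 hy1
    obtain ⟨r, rfl⟩ := mem_span_singleton.1 hz
    exact ⟨c, y2, hy2, r, rfl⟩
  · rintro ⟨c, z, hz, r, rfl⟩
    exact ⟨c • e + z, mem_sup.2 ⟨c • e, mem_span_singleton.2 ⟨c, rfl⟩, z, hz, rfl⟩, r • n g,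
      mem_span_singleton.2 ⟨r, rfl⟩, rfl⟩

variable (h : NFr f e M0 n s)
include h

theorem NFr.Zg_le : Zg F s g ≤ M0 := by
  refine span_le.2 ?_
  rintro _ ⟨k, rfl⟩
  exact h.s_mem g k

theorem NFr.f_Zg_n {z : M} (hz : z ∈ Zg F s g) : f z (n g) = 0 := by
  refine span_induction (p := fun z _ => f z (n g) = 0) ?_ ?_ ?_ ?_ hz
  · rintro _ ⟨k, rfl⟩
    exact h.T_self g k
  · rw [map_zero, LinearMap.zero_apply]
  · intro x y _ _ hx hy
    rw [map_add, LinearMap.add_apply, hx, hy, add_zero]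
  · intro a x _ hx
    rw [map_smul, LinearMap.smul_apply, hx, smul_zero]

/-- `N` is totally isotropic -/
theorem NFr.Ng_isotropic {m m' : M} (hm : m ∈ Ng e n s g) (hm' : m' ∈ Ng e n s g) : f m m' = 0 := by
  obtain ⟨c, z, hz, r, rfl⟩ := mem_Ng.1 hm
  obtain ⟨c', z', hz', r', rfl⟩ := mem_Ng.1 hm'
  have e1 : f z (n g) = 0 := h.f_Zg_n hz
  have e2 : f (n g) z' = 0 := by rw [h.skew, h.f_Zg_n hz', neg_zero]
  simp only [map_add, map_smul, LinearMap.add_apply, LinearMap.smul_apply, h.ee, h.f_e_M0 z' (h.Zg_le hz'),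
    h.f_e_n, h.f_M0_e (h.Zg_le hz), h.f_M0 z (h.Zg_le hz) z' (h.Zg_le hz'), h.f_n, h.f_n_e, e1, e2,
    smul_zero, add_zero]

/-- the elements of `N^⊥` -/
theorem NFr.mem_perp {m : M} (hm : ∀ x ∈ Ng e n s g, f m x = 0) :
    ∃ c : F, ∃ d ∈ M0, ∃ k, m = c • e + d + n k ∧ f d (n g) = 0 ∧ s g k = 0 := by
  have h1 : f e m = 0 := by rw [h.skew, hm e e_mem_Ng, neg_zero]
  obtain ⟨c, d, hd, k, rfl⟩ := h.perp m h1
  refine ⟨c, d, hd, k, rfl, ?_, ?_⟩
  · have h2 := hm _ (n_mem_Ng (e := e) (s := s))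
    simpa only [map_add, map_smul, LinearMap.add_apply, LinearMap.smul_apply, h.f_e_n, h.f_n, smul_zero,
      zero_add, add_zero] using h2
  · apply h.s_eq_zero
    intro l
    have h2 := hm _ (Zg_le_Ng (s_mem_Zg l))
    have h3 : f (n k) (s g l) = 0 := by
      simpa only [map_add, map_smul, LinearMap.add_apply, LinearMap.smul_apply, h.f_e_M0 _ (h.s_mem g l),
        h.f_M0 d hd _ (h.s_mem g l), smul_zero, zero_add, add_zero] using h2
    rw [h.T_swap, ← h.skew, h3]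

/-- `N^⊥^⊥ ≤ N` -/
theorem NFr.perp_perp [Finite M] [Finite F] (N : Submodule F M) :
    ∀ m, (∀ m', (∀ x ∈ N, f m' x = 0) → f m m' = 0) → m ∈ N := by
  have : FiniteDimensional F M := Module.Finite.of_finite
  intro m hm
  have hr : LinearMap.BilinForm.IsRefl f := by
    intro x y hxy
    rw [h.skew, hxy, neg_zero]
  have hn : LinearMap.BilinForm.Nondegenerate f := by
    refine ⟨fun x hx => h.nd x hx, fun x hx => h.nd x fun y => ?_⟩
    rw [h.skew, hx y, neg_zero]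
  have key := LinearMap.BilinForm.orthogonal_orthogonal hn hr N
  rw [← key, LinearMap.BilinForm.mem_orthogonal_iff]
  intro m' hm'
  rw [LinearMap.BilinForm.mem_orthogonal_iff] at hm'
  show f m' m = 0
  rw [h.skew, hm m' fun x hx => ?_, neg_zero]
  have : f x m' = 0 := hm' x hx
  rw [h.skew, this, neg_zero]

end N

end Cfsg.Agent.Omega.Lie.Nodes

end

end

-- merged: Cfsg.Agent.Mrg.Omega.Lie.Nodes.SigGrp
section

section


/-!
# NODE LIE, TEXT NODES (#14331) (L): `Σ = W_N y_2` in the group, frame `i` only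

`GFr`: the frame of `M = W i / R i` attached to the group.  `SG g`: the preimage of `N_g` in `W i`.
`KEY`: `[M, A_g] ≤ N_g`.  Then `Σ = SG g ⊔ (SG g) ^ n` is elementary abelian and normalised by `X`.
-/

set_option autoImplicit false
set_option linter.unusedSectionVars false

namespace Cfsg.Agent.Omega.Lie.Nodes

open Subgroup Cfsg.Agent.Omega.BTwo

universe u v w

variable {G : Type u} [Group G] {ι : Type w}

/-- the frame of `M = W i / R i` in the group -/
structure GFr (V : Subgroup G) (R : ι → Subgroup G) (i j : ι) {F : Type v} [Field F] (v : F → F → G)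
    {M E : Type u} [AddCommGroup M] [Module F M] [AddCommGroup E] [Module F E] (P1 P2 : G → E)
    (q : G → M) (f : M →ₗ[F] M →ₗ[F] F) (e : M) (M0 : Submodule F M) (n : E →ₗ[F] M) (s : E → E → M)
    (sh : E → E → F) (α : E → M →ₗ[F] M) : Prop where
  fr : Fr (R i) (WW V (R i)) q f (fun a => v a 0)
  lin : NFr f e M0 n s
  q_V : ∀ b c, q (v b c) = c • e
  mem_U : ∀ x ∈ WW V (R i), f e (q x) = 0 → x ∈ UU V R i
  q_U : ∀ x ∈ UU V R i, ∃ c : F, ∃ d ∈ M0, q x = c • e + d + n (P1 x)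
  act : ∀ y ∈ UU V R j, ∀ x ∈ WW V (R i), q (y * x * y⁻¹) = α (P2 y) (q x)
  α_e : ∀ k, α k e = e
  α_M0 : ∀ k, ∀ d ∈ M0, α k d = d + f d (n k) • e
  α_n : ∀ k g, α k (n g) = n g + s g k + sh k g • e
  α_f : ∀ k m m', f (α k m) (α k m') = f m m'

/-- the preimage in `W` of the submodule `N` -/
def pre {F : Type v} [Field F] {M : Type u} [AddCommGroup M] [Module F M] {R W : Subgroup G}
    {q : G → M} {f : M →ₗ[F] M →ₗ[F] F} {r : F → G} (h : Fr R W q f r) (N : Submodule F M) : Subgroup G where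
  carrier := {x | x ∈ W ∧ q x ∈ N}
  one_mem' := by
    refine ⟨one_mem _, ?_⟩
    have := h.mul 1 (one_mem _) 1 (one_mem _)
    rw [mul_one] at this
    rw [left_eq_add.1 this]
    exact N.zero_mem
  mul_mem' := by
    rintro x y ⟨hx, hx'⟩ ⟨hy, hy'⟩
    exact ⟨mul_mem hx hy, by rw [h.mul x hx y hy]; exact N.add_mem hx' hy'⟩
  inv_mem' := by
    rintro x ⟨hx, hx'⟩
    refine ⟨inv_mem hx, ?_⟩
    have h1 := h.mul x hx x⁻¹ (inv_mem hx)
    have h0 := h.mul 1 (one_mem _) 1 (one_mem _)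
    rw [mul_one] at h0
    rw [mul_inv_cancel, left_eq_add.1 h0] at h1
    rw [← neg_eq_of_add_eq_zero_right h1.symm]
    exact N.neg_mem hx'

section pre

variable {F : Type v} [Field F] {M : Type u} [AddCommGroup M] [Module F M] {R W : Subgroup G}
    {q : G → M} {f : M →ₗ[F] M →ₗ[F] F} {r : F → G} (h : Fr R W q f r) {N : Submodule F M}

theorem mem_pre {x : G} : x ∈ pre h N ↔ x ∈ W ∧ q x ∈ N := Iff.rfl

theorem pre_le : pre h N ≤ W := fun _ hx => hx.1

theorem le_pre (hRW : R ≤ W) : R ≤ pre h N := fun x hx => ⟨hRW hx, by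
  rw [(h.zero x (hRW hx)).2 hx]; exact N.zero_mem⟩

include h in
theorem Fr.q_one : q 1 = 0 := by
  have h0 := h.mul 1 (one_mem _) 1 (one_mem _)
  rw [mul_one] at h0
  exact left_eq_add.1 h0

include h in
theorem Fr.q_inv {x : G} (hx : x ∈ W) : q x⁻¹ = - q x := by
  have h1 := h.mul x hx x⁻¹ (inv_mem hx)
  rw [mul_inv_cancel, h.q_one] at h1
  exact (neg_eq_of_add_eq_zero_right h1.symm).symm

include h in
theorem Fr.q_comm {x y : G} (hx : x ∈ W) (hy : y * x * y⁻¹ ∈ W) :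
    q (x * y * x⁻¹ * y⁻¹) = q x - q (y * x * y⁻¹) := by
  have e : x * y * x⁻¹ * y⁻¹ = x * (y * x * y⁻¹)⁻¹ := by group
  rw [e, h.mul x hx _ (inv_mem hy), h.q_inv hy, sub_eq_add_neg]

end pre

namespace GFr

variable {V : Subgroup G} {R : ι → Subgroup G} {i j : ι} {F : Type v} [Field F] {v : F → F → G}
    {M E : Type u} [AddCommGroup M] [Module F M] [AddCommGroup E] [Module F E] {P1 P2 : G → E}
    {q : G → M} {f : M →ₗ[F] M →ₗ[F] F} {e : M} {M0 : Submodule F M} {n : E →ₗ[F] M} {s : E → E → M}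
    {sh : E → E → F} {α : E → M →ₗ[F] M} (h : GFr V R i j v P1 P2 q f e M0 n s sh α)

/-- the preimage of `N_g` -/
def SG (g : E) : Subgroup G := pre h.fr (Ng e n s g)

theorem mem_SG {g : E} {x : G} : x ∈ h.SG g ↔ x ∈ WW V (R i) ∧ q x ∈ Ng e n s g := Iff.rfl

theorem SG_le_W (g : E) : h.SG g ≤ WW V (R i) := pre_le h.fr

include h in
theorem f_e_Ng {g : E} {m : M} (hm : m ∈ Ng e n s g) : f e m = 0 := h.lin.Ng_isotropic e_mem_Ng hm

theorem SG_le_U (g : E) : h.SG g ≤ UU V R i := fun x hx => h.mem_U x hx.1 (h.f_e_Ng hx.2)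

include h in
/-- uniqueness of the `n`-component -/
theorem n_unique {c c' : F} {d d' : M} {g g' : E} (hd : d ∈ M0) (hd' : d' ∈ M0)
    (hh : c • e + d + n g = c' • e + d' + n g') : g = g' := by
  have h1 : (c - c') • e + (d - d') + n (g - g') = 0 := by
    rw [sub_smul, map_sub]
    have : c • e - c' • e + (d - d') + (n g - n g') = (c • e + d + n g) - (c' • e + d' + n g') := by abel
    rw [this, hh, sub_self]
  exact sub_eq_zero.1 (h.lin.indep _ _ (M0.sub_mem hd hd') _ h1)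

theorem P1_SG {g : E} {x : G} (hx : x ∈ h.SG g) : ∃ r : F, P1 x = r • g := by
  obtain ⟨c, z, hz, r, e1⟩ := mem_Ng.1 hx.2
  obtain ⟨c', d', hd', e2⟩ := h.q_U x (h.SG_le_U g hx)
  refine ⟨r, h.n_unique (c := c') (c' := c) hd' (h.lin.Zg_le hz) ?_⟩
  rw [← e2, e1, map_smul]

include h in
theorem q_D {x : G} (b : BT V R) {w1 w2 : F → G} (y : YPair V R i j w1 w2 E P1 P2) (hx : x ∈ DD V R) :
    ∃ c : F, ∃ d ∈ M0, q x = c • e + d := by
  obtain ⟨c, d, hd, e1⟩ := h.q_U x (b.D_le_U i hx)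
  refine ⟨c, d, hd, ?_⟩
  rw [((y.mem_D x (b.D_le_Y hx)).1 hx).1, map_zero, add_zero] at e1
  exact e1

include h in
theorem mem_D_of {x : G} (b : BT V R) {w1 w2 : F → G} (y : YPair V R i j w1 w2 E P1 P2)
    (hx : x ∈ WW V (R i)) {c : F} {d : M} (hd : d ∈ M0) (hq : q x = c • e + d) : x ∈ DD V R := by
  have hU : x ∈ UU V R i := by
    apply h.mem_U x hx
    rw [hq, map_add, map_smul, h.lin.ee, h.lin.f_e_M0 d hd, smul_zero, add_zero]
  have hY : x ∈ YY V R := UU_le_YY i hU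
  rw [y.mem_D x hY]
  refine ⟨?_, (y.mem_U1 x hY).1 hU⟩
  have _ := b
  obtain ⟨c', d', hd', e1⟩ := h.q_U x hU
  refine (h.n_unique (c := c) (c' := c') (g := 0) hd hd' ?_).symm
  rw [← e1, hq, map_zero, add_zero]

include h in
/-- `α` preserves `N_g` -/
theorem α_Ng {g : E} (k : E) {m : M} (hm : m ∈ Ng e n s g) : α k m ∈ Ng e n s g := by
  obtain ⟨c, z, hz, r, rfl⟩ := mem_Ng.1 hm
  have h1 : α k (c • e + z + r • n g) = (c + f z (n k) + r * sh k g) • e + (z + r • s g k) + r • n g := by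
    rw [map_add, map_add, map_smul, map_smul, h.α_e, h.α_M0 k z (h.lin.Zg_le hz), h.α_n]
    module
  rw [h1]
  exact mem_Ng.2 ⟨_, _, Submodule.add_mem _ hz (Submodule.smul_mem _ _ (s_mem_Zg k)), r, rfl⟩

variable (b : BT V R)
include b

theorem R_le_SG (g : E) : R i ≤ h.SG g := le_pre h.fr ((b.R_le i).trans (V_le_WW V (R i)))

theorem V_le_SG (c : ∀ x, x ∈ V ↔ ∃ b c, v b c = x) (g : E) : V ≤ h.SG g := by
  intro x hx
  obtain ⟨a, a', rfl⟩ := (c x).1 hx
  refine ⟨V_le_WW V (R i) hx, ?_⟩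
  rw [h.q_V]
  exact Submodule.smul_mem _ _ e_mem_Ng

theorem W_norm_SG (g : E) : WW V (R i) ≤ normalizer (h.SG g : Set G) := by
  refine le_normalizer_of fun w hw x hx => ?_
  have h1 := h.R_le_SG b g (b.WW_comm i hw (h.SG_le_W g hx))
  have h2 := mul_mem h1 hx
  rwa [inv_mul_cancel_right] at h2

/-- `Y` normalises `SG g` -/
theorem Y_norm_SG (hij : i ≠ j) (g : E) : YY V R ≤ normalizer (h.SG g : Set G) := by
  rw [b.Y_eq hij]
  refine sup_le ((UU_le_WW i).trans (h.W_norm_SG b g)) ?_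
  refine le_normalizer_of fun y hy x hx => ?_
  have hx' : y * x * y⁻¹ ∈ WW V (R i) :=
    conj_mem_of_normalizer (b.cen_le_NW i (UU_le_cen j hy)) (h.SG_le_W g hx)
  refine ⟨hx', ?_⟩
  rw [h.act y hy x (h.SG_le_W g hx)]
  exact h.α_Ng _ hx.2

/-- `SG g` is abelian -/
theorem SG_comm {g : E} {x y : G} (hx : x ∈ h.SG g) (hy : y ∈ h.SG g) : x * y = y * x :=
  (h.fr.comm_iff hx.1 hy.1).2 (h.lin.Ng_isotropic hx.2 hy.2)

end GFr

/-! ### `KEY` and `Σ` -/

/-- `KEY`: `[M, A_g] ≤ N_g` -/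
def Key {F : Type v} [Field F] {M E : Type u} [AddCommGroup M] [Module F M] [AddCommGroup E] [Module F E]
    (e : M) (n : E →ₗ[F] M) (s : E → E → M) (α : E → M →ₗ[F] M) (g : E) : Prop :=
  ∀ (r : F) (m : M), α (r • g) m - m ∈ Ng e n s g

namespace GFr

variable {V : Subgroup G} {R : ι → Subgroup G} {i j : ι} {F : Type v} [Field F] {v : F → F → G}
    {M E : Type u} [AddCommGroup M] [Module F M] [AddCommGroup E] [Module F E] {P1 P2 : G → E}
    {q : G → M} {f : M →ₗ[F] M →ₗ[F] F} {e : M} {M0 : Submodule F M} {n : E →ₗ[F] M} {s : E → E → M}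
    {sh : E → E → F} {α : E → M →ₗ[F] M} (h : GFr V R i j v P1 P2 q f e M0 n s sh α) (b : BT V R)
    {w1 w2 : F → G} (y : YPair V R i j w1 w2 E P1 P2)
include h b y

theorem α_surj (k : E) : Function.Surjective (α k) := by
  intro m
  obtain ⟨u, hu, hu1, hu2⟩ := y.surj 0 k
  have huU : u ∈ UU V R j := (y.mem_U2 u hu).2 hu1
  obtain ⟨x, hx, rfl⟩ := h.fr.surj m
  have hx' : u⁻¹ * x * u ∈ WW V (R i) := conj_inv_mem_of_normalizer (b.cen_le_NW i (UU_le_cen j huU)) hx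
  refine ⟨q (u⁻¹ * x * u), ?_⟩
  rw [← hu2, ← h.act u huU _ hx']
  congr 1
  group

/-- `A_g` is trivial on `N_g^⊥` -/
theorem fix_perp {g : E} (hk : Key e n s α g) {m : M} (hm : ∀ x ∈ Ng e n s g, f m x = 0) (r : F) :
    α (r • g) m = m := by
  rw [← sub_eq_zero]
  apply h.lin.nd
  intro m''
  obtain ⟨m', rfl⟩ := h.α_surj b y (r • g) m''
  have h1 := hm _ (hk r m')
  rw [map_sub, LinearMap.sub_apply, h.α_f, ← map_sub]
  rw [map_sub, sub_eq_zero] at h1
  rw [map_sub, h1, sub_self]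

/-- `A_g` is trivial on `N_g` -/
theorem fix_N {g : E} (hk : Key e n s α g) {m : M} (hm : m ∈ Ng e n s g) (r : F) : α (r • g) m = m :=
  h.fix_perp b y hk (fun _ hx => h.lin.Ng_isotropic hm hx) r

variable [CharP F 2] (c : Coord V R i j v w1 w2)
include c

/-- elements of `(SG g) ^ n` -/
theorem mem_cj_SG {g : E} {x : G} (hx : x ∈ cj (nn w1 w2 1) (h.SG g)) :
    x ∈ UU V R j ∧ ∃ r : F, P2 x = r • g := by
  have hU := h.SG_le_U g (mem_cj.1 hx)
  have e1 : x = nn w1 w2 1 * ((nn w1 w2 1)⁻¹ * x * nn w1 w2 1) * (nn w1 w2 1)⁻¹ := by group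
  constructor
  · rw [← b.cj_UU (b.X_le_NV (c.nn_mem_X b 1)) (c.nn_R1 b one_ne_zero), mem_cj]
    exact hU
  · obtain ⟨r, hr⟩ := h.P1_SG (mem_cj.1 hx)
    refine ⟨r, ?_⟩
    have h2 := (y.nn1 b c one_ne_zero (UU_le_YY i hU)).2
    rw [← e1, inv_one, one_smul] at h2
    rw [h2, hr]

theorem key_W {g : E} (hk : Key e n s α g) {w : G} (hw : w ∈ WW V (R i)) {x : G}
    (hx : x ∈ cj (nn w1 w2 1) (h.SG g)) : w * x * w⁻¹ * x⁻¹ ∈ h.SG g := by
  obtain ⟨hxU, r, hr⟩ := h.mem_cj_SG b y c hx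
  have hx' : x * w * x⁻¹ ∈ WW V (R i) := conj_mem_of_normalizer (b.cen_le_NW i (UU_le_cen j hxU)) hw
  have e1 : w * x * w⁻¹ * x⁻¹ = w * (x * w * x⁻¹)⁻¹ := by group
  refine ⟨by rw [e1]; exact mul_mem hw (inv_mem hx'), ?_⟩
  rw [h.fr.q_comm hw hx', h.act x hxU w hw, hr, ← neg_sub]
  exact Submodule.neg_mem _ (hk r (q w))

theorem comm_R {g : E} (hk : Key e n s α g) {w : G} (hw : w ∈ h.SG g) {x : G}
    (hx : x ∈ cj (nn w1 w2 1) (h.SG g)) : w * x * w⁻¹ * x⁻¹ ∈ R i := by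
  obtain ⟨hxU, r, hr⟩ := h.mem_cj_SG b y c hx
  have hw' := h.SG_le_W g hw
  have hx' : x * w * x⁻¹ ∈ WW V (R i) := conj_mem_of_normalizer (b.cen_le_NW i (UU_le_cen j hxU)) hw'
  have e1 : w * x * w⁻¹ * x⁻¹ = w * (x * w * x⁻¹)⁻¹ := by group
  rw [← h.fr.zero _ (by rw [e1]; exact mul_mem hw' (inv_mem hx')), h.fr.q_comm hw' hx',
    h.act x hxU w hw', hr, h.fix_N b y hk hw.2 r, sub_self]

end GFr

section sigma

variable {V : Subgroup G} {R : ι → Subgroup G} {i j : ι} {F : Type v} [Field F] {v : F → F → G}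
    {M E : Type u} [AddCommGroup M] [Module F M] [AddCommGroup E] [Module F E] {P1 P2 : G → E}
    {q : G → M} {f : M →ₗ[F] M →ₗ[F] F} {e : M} {M0 : Submodule F M} {n : E →ₗ[F] M} {s : E → E → M}
    {sh : E → E → F} {α : E → M →ₗ[F] M} (h : GFr V R i j v P1 P2 q f e M0 n s sh α) (b : BTC V R)
    {w1 w2 : F → G} (y : YPair V R i j w1 w2 E P1 P2) [CharP F 2] (c : Coord V R i j v w1 w2)
    [Finite G] [Finite F]
include h b y c

/-- `n² ∈ Y` -/
theorem GFr.nn_sq : nn w1 w2 1 * nn w1 w2 1 ∈ YY V R := by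
  have _ := h
  rw [← y.cen_X_V c b]
  have hX := c.nn_mem_X b.toBT 1
  refine mem_inf.2 ⟨mul_mem hX hX, ?_⟩
  rw [mem_centralizer_iff]
  intro x hx
  obtain ⟨a, a', rfl⟩ := (c.mem_V x).1 hx
  have h1 := c.nn_act one_ne_zero a a'
  have h2 := c.nn_act one_ne_zero a' a
  rw [inv_one, one_mul, one_mul] at h1 h2
  have h3 : nn w1 w2 1 * nn w1 w2 1 * v a a' * (nn w1 w2 1 * nn w1 w2 1)⁻¹ = v a a' := by
    calc nn w1 w2 1 * nn w1 w2 1 * v a a' * (nn w1 w2 1 * nn w1 w2 1)⁻¹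
        = nn w1 w2 1 * (nn w1 w2 1 * v a a' * (nn w1 w2 1)⁻¹) * (nn w1 w2 1)⁻¹ := by group
      _ = v a a' := by rw [h1, h2]
  exact (mul_inv_eq_iff_eq_mul.1 h3).symm

theorem GFr.cj_cj_SG (g : E) : cj (nn w1 w2 1) (cj (nn w1 w2 1) (h.SG g)) = h.SG g := by
  rw [← cj_mul]
  exact cj_eq_self_iff.2 (h.Y_norm_SG b.toBT c.ne g (h.nn_sq b y c))

/-- **`X` normalises `Σ`** -/
theorem GFr.X_norm_sigma {g : E} (hk : Key e n s α g) :
    XX V R ≤ normalizer ((h.SG g ⊔ cj (nn w1 w2 1) (h.SG g) : Subgroup G) : Set G) := by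
  have h1 := X_norm (R := R i) (W := WW V (R i)) (S := h.SG g) (n := nn w1 w2 1) (h.R_le_SG b.toBT g)
    (h.SG_le_W g) (fun x hx y hy => b.WW_comm i hx hy) (fun w hw x hx => h.key_W b.toBT y c hk hw hx)
    (h.cj_cj_SG b y c g)
  rw [b.X_eq c.ne]
  rwa [b.cj_WW (c.nn_R1 b.toBT one_ne_zero)] at h1

/-- `SG g` and its conjugate commute -/
theorem GFr.SG_comm_cj {g : E} (hk : Key e n s α g) :
    ∀ w ∈ h.SG g, ∀ x ∈ cj (nn w1 w2 1) (h.SG g), w * x = x * w := by
  intro w hw x hx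
  have h1 := h.comm_R b.toBT y c hk hw hx
  -- conjugate by `n`
  set m := nn w1 w2 1 with hm
  have hw' : m * w * m⁻¹ ∈ cj m (h.SG g) := conj_mem_cj hw
  have hx' : m * x * m⁻¹ ∈ h.SG g := by
    rw [← h.cj_cj_SG b y c g]
    exact conj_mem_cj hx
  have h2 := h.comm_R b.toBT y c hk hx' hw'
  have h3 : w * x * w⁻¹ * x⁻¹ ∈ R j := by
    have h4 : (m * w * m⁻¹) * (m * x * m⁻¹) * (m * w * m⁻¹)⁻¹ * (m * x * m⁻¹)⁻¹ ∈ R i := by
      have := inv_mem h2
      rwa [show (m * x * m⁻¹ * (m * w * m⁻¹) * (m * x * m⁻¹)⁻¹ * (m * w * m⁻¹)⁻¹)⁻¹ =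
        (m * w * m⁻¹) * (m * x * m⁻¹) * (m * w * m⁻¹)⁻¹ * (m * x * m⁻¹)⁻¹ by group] at this
    rw [show (m * w * m⁻¹) * (m * x * m⁻¹) * (m * w * m⁻¹)⁻¹ * (m * x * m⁻¹)⁻¹ =
      m * (w * x * w⁻¹ * x⁻¹) * m⁻¹ by group, ← c.nn_R2 b.toBT one_ne_zero, mem_cj,
      show (nn w1 w2 1)⁻¹ * (m * (w * x * w⁻¹ * x⁻¹) * m⁻¹) * nn w1 w2 1 = w * x * w⁻¹ * x⁻¹ by
        rw [hm]; group] at h4
    exact h4
  have h5 : w * x * w⁻¹ * x⁻¹ ∈ R i ⊓ R j := mem_inf.2 ⟨h1, h3⟩
  rw [b.R_inf i j c.ne, mem_bot, mul_inv_eq_one, mul_inv_eq_iff_eq_mul] at h5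
  exact h5

/-- `Σ` is abelian -/
theorem GFr.sigma_comm {g : E} (hk : Key e n s α g) :
    ∀ x ∈ h.SG g ⊔ cj (nn w1 w2 1) (h.SG g), ∀ y ∈ h.SG g ⊔ cj (nn w1 w2 1) (h.SG g), x * y = y * x :=
  Nodes.sigma_comm (fun _ hx _ hy => h.SG_comm b.toBT hx hy) (h.SG_comm_cj b y c hk)

/-- `Σ` is elementary abelian -/
theorem GFr.sigma_sq {g : E} (hk : Key e n s α g) (h2 : ∀ x ∈ h.SG g, x * x = 1) :
    ∀ x ∈ h.SG g ⊔ cj (nn w1 w2 1) (h.SG g), x * x = 1 :=
  Nodes.sigma_sq (fun _ hx _ hy => h.SG_comm b.toBT hx hy) (h.SG_comm_cj b y c hk) h2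

end sigma

end Cfsg.Agent.Omega.Lie.Nodes

end

section


/-!
# NODE LIE, TEXT NODES (#14331) (L): orders of `SG g`, `DZ g = SG g ⊓ (SG g)^n` and `Σ`
-/

set_option autoImplicit false
set_option linter.unusedSectionVars false

namespace Cfsg.Agent.Omega.Lie.Nodes

open Subgroup Cfsg.Agent.Omega.BTwo

universe u v w

/-- `|A ⊔ B| |A ⊓ B| = |A| |B|` if `A` and `B` commute -/
theorem card_sup_comm {G : Type*} [Group G] [Finite G] {A B : Subgroup G}
    (hc : ∀ x ∈ A ⊔ B, ∀ y ∈ A ⊔ B, x * y = y * x) :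
    Nat.card (A ⊔ B : Subgroup G) * Nat.card (A ⊓ B : Subgroup G) = Nat.card A * Nat.card B := by
  set T := A ⊔ B with hT
  have hA : A ≤ T := le_sup_left
  have hB : B ≤ T := le_sup_right
  have hn : (B.subgroupOf T).Normal := ⟨by
    rintro ⟨x, hx⟩ hx' ⟨g, hg⟩
    change g * x * g⁻¹ ∈ B
    rw [hc g hg x hx, mul_inv_cancel_right]
    exact hx'⟩
  have h1 := relIndex_sup_right (H := A.subgroupOf T) (K := B.subgroupOf T)
  have h2 : A.subgroupOf T ⊔ B.subgroupOf T = ⊤ := by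
    rw [← subgroupOf_sup hA hB, subgroupOf_self]
  rw [h2, relIndex_top_right, relIndex_subgroupOf hA] at h1
  have h3 : (B.subgroupOf T).index * Nat.card B = Nat.card T := by
    have := (B.subgroupOf T).index_mul_card
    rw [Nat.card_congr (subgroupOfEquivOfLe hB).toEquiv] at this
    exact this
  have h4 : B.relIndex A * Nat.card (A ⊓ B : Subgroup G) = Nat.card A := by
    rw [← inf_relIndex_right, inf_comm B A]
    have := ((A ⊓ B).subgroupOf A).index_mul_card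
    rw [Nat.card_congr (subgroupOfEquivOfLe (inf_le_left : A ⊓ B ≤ A)).toEquiv] at this
    exact this
  rw [← h3, h1, mul_assoc, mul_comm (Nat.card B), ← mul_assoc, h4]

section pre

variable {G : Type u} [Group G] {F : Type v} [Field F] {M : Type u} [AddCommGroup M] [Module F M]
    {R W : Subgroup G} {q : G → M} {f : M →ₗ[F] M →ₗ[F] F} {r : F → G} (h : Fr R W q f r)

/-- `|N^| = |R| |N|` -/
theorem card_pre [Finite G] (hRW : R ≤ W) (N : Submodule F M) :
    Nat.card (pre h N) = Nat.card R * Nat.card N := by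
  classical
  let φ : pre h N →* Multiplicative N :=
    { toFun := fun x => Multiplicative.ofAdd ⟨q x, x.2.2⟩
      map_one' := by
        apply Multiplicative.toAdd.injective
        exact Subtype.ext h.q_one
      map_mul' := fun x y => by
        apply Multiplicative.toAdd.injective
        exact Subtype.ext (h.mul x x.2.1 y y.2.1) }
  have hs : Function.Surjective φ := by
    intro m
    obtain ⟨x, hx, e1⟩ := h.surj (Multiplicative.toAdd m : N)
    refine ⟨⟨x, hx, by rw [e1]; exact (Multiplicative.toAdd m : N).2⟩, ?_⟩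
    apply Multiplicative.toAdd.injective
    exact Subtype.ext e1
  have hk : φ.ker = R.subgroupOf (pre h N) := by
    ext x
    rw [MonoidHom.mem_ker, mem_subgroupOf, ← h.zero _ x.2.1]
    constructor
    · intro e1
      have := congrArg (fun m => ((Multiplicative.toAdd m : N) : M)) e1
      exact this
    · intro e1
      apply Multiplicative.toAdd.injective
      exact Subtype.ext e1
  have h1 := φ.ker.card_mul_index
  rw [index_ker, MonoidHom.range_eq_top.2 hs, card_top, hk,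
    Nat.card_congr (subgroupOfEquivOfLe (le_pre h hRW)).toEquiv] at h1
  rw [← h1]
  rfl

end pre

variable {G : Type u} [Group G] {ι : Type w}
    {V : Subgroup G} {R : ι → Subgroup G} {i j : ι} {F : Type v} [Field F] {v : F → F → G}
    {M E : Type u} [AddCommGroup M] [Module F M] [AddCommGroup E] [Module F E] {P1 P2 : G → E}
    {q : G → M} {f : M →ₗ[F] M →ₗ[F] F} {e : M} {M0 : Submodule F M} {n : E →ₗ[F] M} {s : E → E → M}
    {sh : E → E → F} {α : E → M →ₗ[F] M}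

/-- `e + Z` -/
def eZ (F : Type v) [Field F] {M : Type u} [AddCommGroup M] [Module F M] {E : Type u} (e : M) (s : E → E → M)
    (g : E) : Submodule F M := Submodule.span F {e} ⊔ Zg F s g

theorem mem_eZ {g : E} {m : M} : m ∈ eZ F e s g ↔ ∃ c : F, ∃ z ∈ Zg F s g, m = c • e + z := by
  unfold eZ
  rw [Submodule.mem_sup]
  constructor
  · rintro ⟨y, hy, z, hz, rfl⟩
    obtain ⟨c, rfl⟩ := Submodule.mem_span_singleton.1 hy
    exact ⟨c, z, hz, rfl⟩
  · rintro ⟨c, z, hz, rfl⟩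
    exact ⟨c • e, Submodule.mem_span_singleton.2 ⟨c, rfl⟩, z, hz, rfl⟩

theorem eZ_le {g : E} : eZ F e s g ≤ Ng e n s g := by
  intro m hm
  obtain ⟨c, z, hz, rfl⟩ := mem_eZ.1 hm
  exact mem_Ng.2 ⟨c, z, hz, 0, by rw [zero_smul, add_zero]⟩

section

variable (h : GFr V R i j v P1 P2 q f e M0 n s sh α)

/-- `SG g ⊓ (SG g)^n` -/
def GFr.DZ (g : E) : Subgroup G := pre h.fr (eZ F e s g)

theorem GFr.DZ_le_SG (g : E) : h.DZ g ≤ h.SG g := fun _ hx => ⟨hx.1, eZ_le hx.2⟩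

theorem GFr.DZ_le_D (b : BT V R) {w1 w2 : F → G} (y : YPair V R i j w1 w2 E P1 P2) (g : E) :
    h.DZ g ≤ DD V R := by
  intro x hx
  obtain ⟨c, z, hz, e1⟩ := mem_eZ.1 hx.2
  exact h.mem_D_of b y hx.1 (h.lin.Zg_le hz) e1

theorem GFr.V_le_DZ (hV : ∀ x, x ∈ V ↔ ∃ b c, v b c = x) (g : E) : V ≤ h.DZ g := by
  intro x hx
  obtain ⟨a, a', rfl⟩ := (hV x).1 hx
  refine ⟨V_le_WW V (R i) hx, ?_⟩
  rw [h.q_V]
  exact mem_eZ.2 ⟨a', 0, Submodule.zero_mem _, by rw [add_zero]⟩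

/-- `X` normalises `DZ` -/
theorem GFr.X_norm_DZ (b : BT V R) (hV : ∀ x, x ∈ V ↔ ∃ b c, v b c = x) {w1 w2 : F → G}
    (y : YPair V R i j w1 w2 E P1 P2) (g : E) : XX V R ≤ normalizer (h.DZ g : Set G) := by
  have h0 := h.V_le_DZ hV g
  have h3 := h.DZ_le_D b y g
  revert h0 h3
  generalize h.DZ g = K
  intro h0 h3
  refine le_normalizer_of fun x hx d hd => ?_
  have h1 := h0 (b.XD hx (h3 hd))
  have h2 := mul_mem h1 hd
  rwa [inv_mul_cancel_right] at h2

variable (b : BTC V R) {w1 w2 : F → G} (y : YPair V R i j w1 w2 E P1 P2) [CharP F 2]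
  (c : Coord V R i j v w1 w2) [Finite G] [Finite F]
include b y c

theorem GFr.SG_inf (g : E) : h.SG g ⊓ cj (nn w1 w2 1) (h.SG g) = h.DZ g := by
  apply le_antisymm
  · rintro x hx
    obtain ⟨hx1, hx2⟩ := mem_inf.1 hx
    have hU := (h.mem_cj_SG b.toBT y c hx2).1
    have hD : x ∈ DD V R := by
      rw [← b.UU_inf c.ne]
      exact mem_inf.2 ⟨h.SG_le_U g hx1, hU⟩
    refine ⟨hx1.1, ?_⟩
    obtain ⟨c1, d, hd, e1⟩ := h.q_D b.toBT y hD
    obtain ⟨c2, z, hz, r, e2⟩ := mem_Ng.1 hx1.2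
    have h3 : (0 : E) = r • g := by
      refine h.n_unique (c := c1) (c' := c2) hd (h.lin.Zg_le hz) ?_
      rw [map_zero, add_zero, ← e1, e2, map_smul]
    rw [e2, ← map_smul, ← h3, map_zero, add_zero]
    exact mem_eZ.2 ⟨c2, z, hz, rfl⟩
  · refine le_inf (h.DZ_le_SG g) ?_
    have h1 : cj (nn w1 w2 1) (h.DZ g) = h.DZ g :=
      cj_eq_self_iff.2 (h.X_norm_DZ b.toBT c.mem_V y g (c.nn_mem_X b.toBT 1))
    intro x hx
    rw [← h1, mem_cj] at hx
    rw [mem_cj]
    exact h.DZ_le_SG g hx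

/-- **the order of `Σ`** -/
theorem GFr.card_sigma {g : E} (hk : Key e n s α g) :
    Nat.card (h.SG g ⊔ cj (nn w1 w2 1) (h.SG g) : Subgroup G) * Nat.card (h.DZ g) = Nat.card (h.SG g) ^ 2 := by
  rw [← h.SG_inf b y c g, card_sup_comm (h.sigma_comm b y c hk), sq]
  congr 1
  exact Nat.card_congr (Subgroup.equivMapOfInjective _ _ (MulAut.conj (nn w1 w2 1)).injective).symm.toEquiv

end

/-! ### generation by the conjugates of `V` -/

section gen

variable (h : GFr V R i j v P1 P2 q f e M0 n s sh α) (b : BT V R)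
include b

/-- `SG g` is generated by conjugates of `V` if `N` is spanned by the images of `e` -/
theorem GFr.SG_le_iSup (hV : ∀ x, x ∈ V ↔ ∃ b c, v b c = x) {g : E} {P : Subgroup G}
    (hPR : P ≤ normalizer (R i : Set G))
    (hN : Ng e n s g ≤ Submodule.span F {m | ∃ p ∈ P, ∃ A : M →ₗ[F] M,
      (∀ x ∈ WW V (R i), q (p * x * p⁻¹) = A (q x)) ∧ m = A e}) :
    h.SG g ≤ ⨆ p : P, cj (p : G) V := by
  set T : Subgroup G := ⨆ p : P, cj (p : G) V with hT
  have hcj : ∀ p ∈ P, cj p V ≤ T := fun p hp => le_iSup (fun p : P => cj (p : G) V) ⟨p, hp⟩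
  have hVT : V ≤ T := by
    have := hcj 1 (one_mem _)
    rwa [cj_one] at this
  -- every element of the span is hit by `T ⊓ W`
  have key : ∀ m ∈ Submodule.span F {m | ∃ p ∈ P, ∃ A : M →ₗ[F] M,
      (∀ x ∈ WW V (R i), q (p * x * p⁻¹) = A (q x)) ∧ m = A e}, ∃ x ∈ T, x ∈ WW V (R i) ∧ q x = m := by
    intro m hm
    refine Submodule.closure_induction (p := fun m _ => ∃ x ∈ T, x ∈ WW V (R i) ∧ q x = m)
      ?_ ?_ ?_ hm
    · exact ⟨1, one_mem _, one_mem _, h.fr.q_one⟩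
    · rintro m m' _ _ ⟨x, hx, hx', rfl⟩ ⟨x2, hx2, hx2', rfl⟩
      exact ⟨x * x2, mul_mem hx hx2, mul_mem hx' hx2', h.fr.mul x hx' x2 hx2'⟩
    · rintro a m ⟨p, hp, A, hA, rfl⟩
      have hvW : v 0 a ∈ V := (hV _).2 ⟨0, a, rfl⟩
      refine ⟨p * v 0 a * p⁻¹, hcj p hp (conj_mem_cj hvW), ?_, ?_⟩
      · exact conj_mem_of_normalizer (normalizer_le_WW V (R i) (hPR hp)) (V_le_WW V (R i) hvW)
      · rw [hA _ (V_le_WW V (R i) hvW), h.q_V, map_smul]
  intro x hx
  obtain ⟨x', hx', hx'W, e1⟩ := key _ (hN hx.2)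
  have h1 : x * x'⁻¹ ∈ R i := by
    rw [← h.fr.zero _ (mul_mem hx.1 (inv_mem hx'W)), h.fr.mul _ hx.1 _ (inv_mem hx'W), h.fr.q_inv hx'W, e1,
      add_neg_cancel]
  have h2 := mul_mem (hVT (b.R_le i h1)) hx'
  rwa [inv_mul_cancel_right] at h2

/-- `SG g` is elementary abelian -/
theorem GFr.SG_sq {g : E} {P : Subgroup G} (hg : h.SG g ≤ ⨆ p : P, cj (p : G) V)
    (hPS : P ≤ normalizer (h.SG g : Set G)) (hV : ∀ x, x ∈ V ↔ ∃ b c, v b c = x) :
    ∀ x ∈ h.SG g, x * x = 1 := by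
  have hVS := h.V_le_SG b hV g
  let T : Subgroup G :=
    { carrier := {x | x ∈ h.SG g ∧ x * x = 1}
      one_mem' := ⟨one_mem _, one_mul 1⟩
      mul_mem' := by
        rintro x y ⟨hx, hx'⟩ ⟨hy, hy'⟩
        refine ⟨mul_mem hx hy, ?_⟩
        calc x * y * (x * y) = x * (y * x) * y := by group
          _ = x * (x * y) * y := by rw [h.SG_comm b hx hy]
          _ = (x * x) * (y * y) := by group
          _ = 1 := by rw [hx', hy', one_mul]
      inv_mem' := by
        rintro x ⟨hx, hx'⟩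
        refine ⟨inv_mem hx, ?_⟩
        rw [← mul_inv_rev, hx', inv_one] }
  have hT : h.SG g ≤ T := by
    refine hg.trans (iSup_le fun p x hx => ?_)
    have hx' := mem_cj.1 hx
    have e1 : x = p * ((p : G)⁻¹ * x * p) * (p : G)⁻¹ := by group
    constructor
    · rw [e1]
      exact conj_mem_of_normalizer (hPS p.2) (hVS hx')
    · have h3 := b.V_sq _ hx'
      calc x * x = p * ((p : G)⁻¹ * x * p * ((p : G)⁻¹ * x * p)) * (p : G)⁻¹ := by group
        _ = 1 := by rw [h3]; group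
  exact fun x hx => (hT hx).2

end gen

end Cfsg.Agent.Omega.Lie.Nodes

end

section


/-!
# NODE LIE, TEXT NODES (#14331) (L): `P^` normalises `Σ = W_N y_2`

`P_norm_sigma`: `P ≤ C(R i)` acts `F`-linearly on `M`, preserves `N_g` and commutes with `A_g` on `M` ((S)), `KEY` and
`(l k)# = l² k#` imply `P ≤ N(Σ)`.
-/

set_option autoImplicit false
set_option linter.unusedSectionVars false

namespace Cfsg.Agent.Omega.Lie.Nodes

open Subgroup Cfsg.Agent.Omega.BTwo

universe u v w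

variable {G : Type u} [Group G] {ι : Type w}
    {V : Subgroup G} {R : ι → Subgroup G} {i j : ι} {F : Type v} [Field F] {v : F → F → G}
    {M E : Type u} [AddCommGroup M] [Module F M] [AddCommGroup E] [Module F E] {P1 P2 : G → E}
    {q : G → M} {f : M →ₗ[F] M →ₗ[F] F} {e : M} {M0 : Submodule F M} {n : E →ₗ[F] M} {s : E → E → M}
    {sh : E → E → F} {α : E → M →ₗ[F] M}

open Classical in
/-- the `n`-component of `m` -/
noncomputable def nco (e : M) (M0 : Submodule F M) (n : E →ₗ[F] M) (m : M) : E :=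
  if H : ∃ c : F, ∃ d ∈ M0, ∃ g, m = c • e + d + n g then H.choose_spec.choose_spec.2.choose else 0

theorem NFr.nco_eq (h : NFr f e M0 n s) {c : F} {d : M} (hd : d ∈ M0) (g : E) :
    nco e M0 n (c • e + d + n g) = g := by
  have H : ∃ c' : F, ∃ d' ∈ M0, ∃ g', c • e + d + n g = c' • e + d' + n g' := ⟨c, d, hd, g, rfl⟩
  unfold nco
  rw [dif_pos H]
  set c' := H.choose
  set d' := H.choose_spec.choose
  have hd' : d' ∈ M0 := H.choose_spec.choose_spec.1
  set g' := H.choose_spec.choose_spec.2.choose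
  have e1 : c • e + d + n g = c' • e + d' + n g' := H.choose_spec.choose_spec.2.choose_spec
  have h1 : (c' - c) • e + (d' - d) + n (g' - g) = 0 := by
    rw [sub_smul, map_sub]
    have : c' • e - c • e + (d' - d) + (n g' - n g) = (c' • e + d' + n g') - (c • e + d + n g) := by abel
    rw [this, e1, sub_self]
  exact sub_eq_zero.1 (h.indep _ _ (M0.sub_mem hd' hd) _ h1)

open Classical in
/-- `r` with `x = r • g` -/
noncomputable def rco (F : Type v) [Field F] {E : Type u} [AddCommGroup E] [Module F E] (g x : E) : F :=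
  if H : ∃ r : F, x = r • g then H.choose else 0

theorem rco_spec {g x : E} (H : ∃ r : F, x = r • g) : x = rco F g x • g := by
  unfold rco
  rw [dif_pos H]
  exact H.choose_spec

section

variable (h : GFr V R i j v P1 P2 q f e M0 n s sh α) (b : BTC V R)
    {w1 w2 : F → G} (y : YPair V R i j w1 w2 E P1 P2) [CharP F 2] (c : Coord V R i j v w1 w2)
    [Finite G] [Finite F]
include h b y c

/-- `[w, x] ∈ R i` is given by `r ⟨k#, g⟩` for `w ∈ C_W(SG g)` -/
theorem GFr.comm_formula {g : E} (hk : Key e n s α g) {x : G} (hx : x ∈ cj (nn w1 w2 1) (h.SG g)) {w : G}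
    (hw : w ∈ WW V (R i)) (hwC : ∀ z ∈ h.SG g, w * z = z * w) :
    w * x * w⁻¹ * x⁻¹ = v (rco F g (P2 x) * sh (nco e M0 n (q w)) g) 0 := by
  set m := nn w1 w2 1 with hm
  obtain ⟨hxU, hr⟩ := h.mem_cj_SG b.toBT y c hx
  have hr' := rco_spec hr
  set r := rco F g (P2 x) with hrd
  -- the components of `q w`
  have hperp : ∀ z ∈ Ng e n s g, f (q w) z = 0 := by
    intro z hz
    obtain ⟨z', hz', rfl⟩ := h.fr.surj z
    exact (h.fr.comm_iff hw hz').1 (hwC z' ⟨hz', hz⟩)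
  obtain ⟨a, d, hd, k, hqw, hdg, hsk⟩ := h.lin.mem_perp hperp
  have hnc : nco e M0 n (q w) = k := by rw [hqw, h.lin.nco_eq hd]
  rw [hnc]
  have hwU : w ∈ UU V R i := by
    apply h.mem_U w hw
    rw [h.lin.skew, hperp e e_mem_Ng, neg_zero]
  have hP1 : P1 w = k := by
    obtain ⟨c', d', hd', e2⟩ := h.q_U w hwU
    exact h.n_unique (c := c') (c' := a) hd' hd (by rw [← e2, hqw])
  -- conjugate to `U j`
  set w' := m⁻¹ * w * m with hw'
  have ew : m * w' * m⁻¹ = w := by rw [hw']; group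
  have hX := c.nn_mem_X b.toBT 1
  have hw'U : w' ∈ UU V R j := by
    have h1 : cj m (UU V R j) = UU V R i := b.cj_UU (b.X_le_NV hX) (c.nn_R2 b.toBT one_ne_zero)
    rw [← h1, mem_cj] at hwU
    exact hwU
  have hP2 : P2 w' = k := by
    have h2 := (y.nn1 b.toBT c one_ne_zero (UU_le_YY j hw'U)).1
    rw [one_smul] at h2
    rw [← h2, ← hP1, ← hm, ew]
  set x' := m⁻¹ * x * m with hx'
  have ex : m * x' * m⁻¹ = x := by rw [hx']; group
  have hx'S : x' ∈ h.SG g := mem_cj.1 hx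
  have hP1x : P1 x' = r • g := by
    have h2 := (y.nn1 b.toBT c one_ne_zero (UU_le_YY i (h.SG_le_U g hx'S))).2
    rw [inv_one, one_smul, ← hm, ex] at h2
    rw [← h2]; exact hr'
  -- `q x'`
  obtain ⟨c1, z, hz, r1, hqx⟩ := mem_Ng.1 hx'S.2
  have hr1 : r1 • g = r • g := by
    obtain ⟨c', d', hd', e2⟩ := h.q_U x' (h.SG_le_U g hx'S)
    rw [← hP1x]
    refine h.n_unique (c := c1) (c' := c') (h.lin.Zg_le hz) hd' ?_
    rw [← e2, hqx, map_smul]
  have hnr : r1 • n g = r • n g := by rw [← map_smul, hr1, map_smul]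
  -- `q [w', x']`
  have hcm : w' * x' * w'⁻¹ ∈ WW V (R i) :=
    conj_mem_of_normalizer (b.cen_le_NW i (UU_le_cen j hw'U)) hx'S.1
  have h3 : q (w' * x' * w'⁻¹) = q x' + (r * sh k g) • e := by
    rw [h.act w' hw'U x' hx'S.1, hP2, hqx, hnr]
    have hzk : f z (n k) = 0 := by
      refine Submodule.span_induction (p := fun z _ => f z (n k) = 0) ?_ ?_ ?_ ?_ hz
      · rintro _ ⟨l, rfl⟩
        rw [h.lin.T_swap, hsk, map_zero, LinearMap.zero_apply, neg_zero]
      · rw [map_zero, LinearMap.zero_apply]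
      · intro p p' _ _ hp hp'
        rw [map_add, LinearMap.add_apply, hp, hp', add_zero]
      · intro a' p _ hp
        rw [map_smul, LinearMap.smul_apply, hp, smul_zero]
    rw [map_add, map_add, map_smul, map_smul, h.α_e, h.α_M0 k z (h.lin.Zg_le hz), h.α_n, hzk, hsk]
    module
  have hcmm : w' * x' * w'⁻¹ * x'⁻¹ ∈ WW V (R i) := mul_mem hcm (inv_mem hx'S.1)
  have h4 : q (w' * x' * w'⁻¹ * x'⁻¹) = q (v 0 (r * sh k g)) := by
    rw [h.fr.mul _ hcm _ (inv_mem hx'S.1), h.fr.q_inv hx'S.1, h3, h.q_V]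
    abel
  -- `[w', x'] ∈ R j`
  have hcR : w' * x' * w'⁻¹ * x'⁻¹ ∈ R j := by
    -- `[w, x] ∈ R i`
    have h6 : w * x * w⁻¹ * x⁻¹ ∈ R i := by
      have hxw : x * w * x⁻¹ ∈ WW V (R i) := conj_mem_of_normalizer (b.cen_le_NW i (UU_le_cen j hxU)) hw
      have e1 : w * x * w⁻¹ * x⁻¹ = w * (x * w * x⁻¹)⁻¹ := by group
      rw [← h.fr.zero _ (by rw [e1]; exact mul_mem hw (inv_mem hxw)), h.fr.q_comm hw hxw,
        h.act x hxU w hw, hr', h.fix_perp b.toBT y hk hperp r, sub_self]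
    have h7 : w' * x' * w'⁻¹ * x'⁻¹ = m⁻¹ * (w * x * w⁻¹ * x⁻¹) * m := by rw [hw', hx']; group
    rw [h7, ← mem_cj, c.nn_R2 b.toBT one_ne_zero]
    exact h6
  obtain ⟨β, hβ⟩ := (c.mem_R2 _).1 hcR
  have h8 : β • e = (r * sh k g) • e := by
    rw [← h.q_V 0 β, ← h.q_V 0 (r * sh k g), ← h4, hβ]
  have he : e ≠ 0 := by
    intro h0
    have h9 : q (v 0 1) = 0 := by rw [h.q_V, h0, smul_zero]
    rw [h.fr.zero _ (V_le_WW V (R i) (c.v_mem 0 1)), c.mem_R1] at h9
    obtain ⟨b', hb'⟩ := h9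
    exact zero_ne_one (c.v_inj hb').2
  have h9 : β = r * sh k g := by
    by_contra hne
    apply he
    have h10 : (β - r * sh k g) • e = 0 := by rw [sub_smul, h8, sub_self]
    exact (smul_eq_zero.1 h10).resolve_left (sub_ne_zero.2 hne)
  have h10 : w * x * w⁻¹ * x⁻¹ = m * (w' * x' * w'⁻¹ * x'⁻¹) * m⁻¹ := by rw [hw', hx']; group
  rw [h10, ← hβ, h9]
  have h11 := c.nn_act one_ne_zero 0 (r * sh k g)
  rw [inv_one, one_mul, one_mul] at h11
  exact h11

/-- an element of `C(R i)` trivial on `M` lies in `W i` -/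
theorem GFr.mem_W_of_triv (hQ : QQ (R i) = WW V (R i)) (hZ : centralizer (WW V (R i) : Set G) ≤ R i) {g : G}
    (hg : g ∈ centralizer (R i : Set G)) (ht : ∀ x ∈ WW V (R i), q (g * x * g⁻¹) = q x) :
    g ∈ WW V (R i) := by
  have hgR : g ∈ normalizer (R i : Set G) := centralizer_le_normalizer _ hg
  have hgW := normalizer_le_WW V (R i) hgR
  rw [← hQ]
  have hRW : R i ≤ WW V (R i) := (b.R_le i).trans (V_le_WW V (R i))
  refine LemT.KT_le_Q b (N := centralizer (R i : Set G)) le_rfl (fun g hg x hx => ?_) ⟨⟨hg, ?_, ?_⟩, ?_, ?_⟩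
  · exact mul_mem (mul_mem hg hx) (inv_mem hg)
  · exact normalizer_le_normalizer_centralizer _ hgW
  · intro x hx
    have h1 := ht x hx
    have hx' := conj_mem_of_normalizer hgW hx
    have h2 : q (g * x * g⁻¹ * x⁻¹) = 0 := by
      rw [h.fr.mul _ hx' _ (inv_mem hx), h1, h.fr.q_inv hx, add_neg_cancel]
    exact b.R_cen_W i ((h.fr.zero _ (mul_mem hx' (inv_mem hx))).1 h2)
  · exact hgR
  · intro z hz
    have hz' := hZ hz.2
    rw [← mem_centralizer_iff.1 hg z hz', mul_inv_cancel_right, mul_inv_cancel]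
    exact one_mem _

/-- **`P^` normalises `Σ`** -/
theorem GFr.P_norm_sigma (hQ : QQ (R i) = WW V (R i)) (hZ : centralizer (WW V (R i) : Set G) ≤ R i)
    {g : E} (hk : Key e n s α g) {l : F} (hl : l ≠ 0) (hl1 : l ≠ 1)
    (hsq : ∀ k : E, sh (l • k) g = l * l * sh k g)
    {P : Subgroup G} (hPR : P ≤ centralizer (R i : Set G))
    (hP : ∀ p ∈ P, ∃ A : M →ₗ[F] M, (∀ x ∈ WW V (R i), q (p * x * p⁻¹) = A (q x)) ∧
      (∀ m ∈ Ng e n s g, A m ∈ Ng e n s g) ∧ ∀ (r : F) (m : M), A (α (r • g) m) = α (r • g) (A m)) :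
    P ≤ normalizer ((h.SG g ⊔ cj (nn w1 w2 1) (h.SG g) : Subgroup G) : Set G) := by
  have : Finite M := Finite.of_surjective (fun x : WW V (R i) => q x) fun m => by
    obtain ⟨x, hx, e1⟩ := h.fr.surj m
    exact ⟨⟨x, hx⟩, e1⟩
  have hPW : P ≤ normalizer (WW V (R i) : Set G) := fun p hp =>
    normalizer_le_WW V (R i) (centralizer_le_normalizer _ (hPR hp))
  have hPS : P ≤ normalizer (h.SG g : Set G) := by
    refine le_normalizer_of fun p hp x hx => ?_
    obtain ⟨A, hA, hN, -⟩ := hP p hp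
    refine ⟨conj_mem_of_normalizer (hPW hp) hx.1, ?_⟩
    rw [hA x hx.1]
    exact hN _ hx.2
  refine P_norm (n := nn w1 w2 1) h.fr (h.SG_le_W g) (h.SG_comm_cj b y c hk) hPR hPS hPW
    (fun p hp => (hP p hp).imp fun A hA => hA.1) ?_
    (fun x m => rco F g (P2 x) * sh (nco e M0 n m) g)
    (fun x hx w hw hwC => h.comm_formula b y c hk hx hw fun z hz => hwC z hz) hl hl1 ?_ ?_
  · -- (S)
    intro p hp x hx
    obtain ⟨hxU, r, hr⟩ := h.mem_cj_SG b.toBT y c hx
    obtain ⟨A, hA, hN, hAα⟩ := hP p hp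
    have hxW : x ∈ normalizer (WW V (R i) : Set G) := b.cen_le_NW i (UU_le_cen j hxU)
    have hxR : x ∈ centralizer (R i : Set G) := by
      rw [mem_centralizer_iff]
      exact fun z hz => mem_centralizer_iff.1 (UU_le_cen j hxU) z (b.R_le i hz)
    refine h.mem_W_of_triv b y c hQ hZ (mul_mem (mul_mem (mul_mem (hPR hp) hxR) (inv_mem (hPR hp)))
      (inv_mem hxR)) fun z hz => ?_
    -- `q (p z₀ p⁻¹) = A (q z₀)`, write `z = x p x⁻¹ ..`
    set z1 := x⁻¹ * z * x with hz1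
    have hz1W : z1 ∈ WW V (R i) := conj_inv_mem_of_normalizer hxW hz
    set z2 := p⁻¹ * z1 * p with hz2
    have hz2W : z2 ∈ WW V (R i) := conj_inv_mem_of_normalizer (hPW hp) hz1W
    have hxz2 : x * z2 * x⁻¹ ∈ WW V (R i) := conj_mem_of_normalizer hxW hz2W
    have hpz2 : p * z2 * p⁻¹ ∈ WW V (R i) := conj_mem_of_normalizer (hPW hp) hz2W
    have e1 : p * x * p⁻¹ * x⁻¹ * z * (p * x * p⁻¹ * x⁻¹)⁻¹ = p * (x * z2 * x⁻¹) * p⁻¹ := by
      rw [hz2, hz1]; group
    have e2 : z = x * (p * z2 * p⁻¹) * x⁻¹ := by rw [hz2, hz1]; group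
    rw [e1, hA _ hxz2, h.act x hxU _ hz2W, hr, hAα, ← hA _ hz2W, ← hr, ← h.act x hxU _ hpz2, ← e2]
  · -- `semi`
    intro x hx w hw hwC
    have hperp : ∀ z ∈ Ng e n s g, f (q w) z = 0 := by
      intro z hz
      obtain ⟨z', hz', rfl⟩ := h.fr.surj z
      exact (h.fr.comm_iff hw hz').1 (hwC z' ⟨hz', hz⟩)
    obtain ⟨a, d, hd, k, hqw, -, -⟩ := h.lin.mem_perp hperp
    show rco F g (P2 x) * sh (nco e M0 n (l • q w)) g = l * l * (rco F g (P2 x) * sh (nco e M0 n (q w)) g)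
    have e1 : l • q w = (l * a) • e + l • d + n (l • k) := by
      rw [hqw, smul_add, smul_add, map_smul, smul_smul]
    rw [e1, hqw, h.lin.nco_eq hd, h.lin.nco_eq (M0.smul_mem _ hd), hsq]
    ring
  · -- double centraliser
    exact h.fr.dc_of (h.R_le_SG b.toBT g) (h.SG_le_W g) (Ng e n s g)
      (fun x hx => ⟨fun h1 => h1.2, fun h1 => ⟨hx, h1⟩⟩) (h.lin.perp_perp _)

end

end Cfsg.Agent.Omega.Lie.Nodes

end

section


/-!
# NODE LIE, residues `(0, j)`: elementwise coprime conjugacy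

`conj_of_coset`: `K` a 2-group normalised by `t`, `t` and `t' ∈ t K` of odd order: they are conjugate under `K`.
`exists_odd_pow`: the coset `t K` of an element of odd order: a power of every `x ∈ t K` in `t K` has odd order.
-/

set_option autoImplicit false

namespace Cfsg.Agent.Omega.Lie.Nodes.Apt

open Subgroup Cfsg.Agent.Omega.BTwo Cfsg.Agent.Omega.Hex

universe u

variable {G : Type u} [Group G]

/-- powers in a coset -/
theorem pow_coset {K : Subgroup G} {t x : G} (ht : t ∈ normalizer (K : Set G)) (hx : t⁻¹ * x ∈ K) (n : ℕ) :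
    (t ^ n)⁻¹ * x ^ n ∈ K := by
  induction n with
  | zero => simp
  | succ n ih =>
    have e : (t ^ (n + 1))⁻¹ * x ^ (n + 1) = (t⁻¹ * ((t ^ n)⁻¹ * x ^ n) * t) * (t⁻¹ * x) := by
      rw [pow_succ, pow_succ]; group
    rw [e]
    exact mul_mem (conj_inv_mem_of_normalizer ht ih) hx

/-- an element of odd order in a 2-group is trivial -/
theorem eq_one_of_odd {K : Subgroup G} (hK : IsPGroup 2 K) {x : G} (hx : x ∈ K) (ho : Odd (orderOf x)) : x = 1 := by
  obtain ⟨n, hn⟩ := hK ⟨x, hx⟩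
  have hn' : x ^ 2 ^ n = 1 := congrArg Subtype.val hn
  have h1 := orderOf_dvd_of_pow_eq_one hn'
  have h2 : (orderOf x).Coprime (2 ^ n) := (Nat.coprime_two_right.2 ho).pow_right n
  exact orderOf_eq_one_iff.1 (Nat.Coprime.eq_one_of_dvd h2 h1)

/-- a power of an element of the coset `t K` lies in `t K` and has odd order -/
theorem exists_odd_pow [Finite G] {K : Subgroup G} {t x : G} (ht : t ∈ normalizer (K : Set G))
    (ho : Odd (orderOf t)) (hx : t⁻¹ * x ∈ K) : ∃ n : ℕ, t⁻¹ * x ^ n ∈ K ∧ Odd (orderOf (x ^ n)) := by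
  obtain ⟨a, m, hm, hk⟩ := Nat.exists_eq_two_pow_mul_odd (orderOf_pos x).ne'
  have hco : (2 ^ a).Coprime (orderOf t) := (Nat.coprime_two_left.2 ho).pow_left a
  -- `2^a * j ≡ 1`
  obtain ⟨j, hj⟩ : ∃ j : ℕ, t ^ (2 ^ a * j) = t := by
    have h1 : (2 ^ a) ^ Nat.totient (orderOf t) ≡ 1 [MOD orderOf t] := Nat.ModEq.pow_totient hco
    rcases Nat.eq_zero_or_pos (Nat.totient (orderOf t)) with h0 | h0
    · exact absurd (Nat.totient_pos.2 (orderOf_pos t)) (by rw [h0]; exact lt_irrefl _)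
    · obtain ⟨k, hk'⟩ := Nat.exists_eq_succ_of_ne_zero h0.ne'
      refine ⟨(2 ^ a) ^ k, ?_⟩
      have e : 2 ^ a * (2 ^ a) ^ k = (2 ^ a) ^ Nat.totient (orderOf t) := by rw [hk', pow_succ']
      rw [e]
      have h2 := (pow_eq_pow_iff_modEq (x := t)).2 h1
      rwa [pow_one] at h2
  refine ⟨2 ^ a * j, ?_, ?_⟩
  · have h1 := pow_coset ht hx (2 ^ a * j)
    rwa [hj] at h1
  · rw [pow_mul]
    have h2 : orderOf (x ^ 2 ^ a) = m := by
      rw [orderOf_pow' x (by positivity), hk, Nat.gcd_mul_right_left, Nat.mul_div_cancel_left _ (by positivity)]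
    have h3 : orderOf ((x ^ 2 ^ a) ^ j) ∣ m := by
      rw [← h2]; exact orderOf_pow_dvd j
    exact hm.of_dvd_nat h3

/-- **coprime conjugacy in the coset `t K`** -/
theorem conj_of_coset [Finite G] {K : Subgroup G} {t x : G} (hK : IsPGroup 2 K) (ht : t ∈ normalizer (K : Set G))
    (ho : Odd (orderOf t)) (hx : t⁻¹ * x ∈ K) (hxo : Odd (orderOf x)) : ∃ k ∈ K, k * x * k⁻¹ = t := by
  have hK2 : IsPGroup 2 K := hK
  set B := K ⊔ zpowers t with hB
  have hnB : B ≤ normalizer (K : Set G) := sup_le le_normalizer ((zpowers_le).2 ht)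
  have htB : t ∈ B := (le_sup_right : zpowers t ≤ B) (mem_zpowers t)
  have hxB : x ∈ B := by
    have := mul_mem htB ((le_sup_left : K ≤ B) hx)
    rwa [mul_inv_cancel_left] at this
  -- `K ⊓ ⟨y⟩ = 1`
  have hinf : ∀ y : G, Odd (orderOf y) → ∀ z ∈ zpowers y, z ∈ K → z = 1 := by
    intro y hy z hz hzK
    refine eq_one_of_odd hK2 hzK (hy.of_dvd_nat ?_)
    exact orderOf_dvd_of_mem_zpowers hz
  -- index
  have hidx : ∀ y : G, Odd (orderOf y) → y ∈ B → K ⊔ zpowers y = B → Cpl K B (zpowers y) := by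
    intro y hy hyB hsup
    have hyle : zpowers y ≤ B := (zpowers_le).2 hyB
    refine ⟨hyle, ?_⟩
    have hKB : K ≤ B := le_sup_left
    have hn : (K.subgroupOf B).Normal := ⟨fun n hn g => conj_mem_of_normalizer (g := (g : G)) (x := (n : G))
      (hnB g.2) hn⟩
    have h1 := relIndex_sup_left ((zpowers y).subgroupOf B) (K.subgroupOf B)
    rw [← subgroupOf_sup hKB hyle, hsup, subgroupOf_self, relIndex_top_right, relIndex_subgroupOf hyle,
      ← inf_relIndex_right] at h1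
    have h2 : K ⊓ zpowers y = ⊥ := by
      rw [eq_bot_iff]
      intro z hz
      exact mem_bot.2 (hinf y hy z hz.2 hz.1)
    rw [h2, relIndex_bot_left] at h1
    exact h1.symm
  have hnt : NT K B := by
    refine ⟨le_sup_left, hnB, hK2, ?_⟩
    rw [← (hidx t ho htB rfl).card, Nat.card_zpowers]
    exact ho
  have hsup : K ⊔ zpowers x = B := by
    apply le_antisymm (sup_le le_sup_left ((zpowers_le).2 hxB))
    refine sup_le le_sup_left ((zpowers_le).2 ?_)
    have h1 : t = x * (t⁻¹ * x)⁻¹ := by group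
    rw [h1]
    exact mul_mem ((le_sup_right : zpowers x ≤ _) (mem_zpowers x)) (inv_mem ((le_sup_left : K ≤ _) hx))
  obtain ⟨k, hk, e⟩ := hnt.conj (hidx x hxo hxB hsup) (hidx t ho htB rfl)
  refine ⟨k, hk, ?_⟩
  have h1 : k * x * k⁻¹ ∈ zpowers t := by
    rw [← e]
    exact conj_mem_cj (mem_zpowers x)
  have h2 : t⁻¹ * (k * x * k⁻¹) ∈ K := by
    have e2 : t⁻¹ * (k * x * k⁻¹) = (t⁻¹ * k * t) * (t⁻¹ * x) * k⁻¹ := by group
    rw [e2]
    exact mul_mem (mul_mem (conj_inv_mem_of_normalizer ht hk) hx) (inv_mem hk)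
  have h3 := hinf t ho _ (mul_mem (inv_mem (mem_zpowers t)) h1) h2
  exact (inv_mul_eq_one.1 h3).symm

theorem mul_congr {K : Subgroup G} {x x' y y' : G} (hy : y ∈ normalizer (K : Set G)) (hx : x⁻¹ * x' ∈ K)
    (hy' : y⁻¹ * y' ∈ K) : (x * y)⁻¹ * (x' * y') ∈ K := by
  have e : (x * y)⁻¹ * (x' * y') = (y⁻¹ * (x⁻¹ * x') * y) * (y⁻¹ * y') := by group
  rw [e]
  exact mul_mem (conj_inv_mem_of_normalizer hy hx) hy'

theorem inv_congr {K : Subgroup G} {x x' : G} (hx : x ∈ normalizer (K : Set G)) (h : x⁻¹ * x' ∈ K) :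
    x⁻¹⁻¹ * x'⁻¹ ∈ K := by
  have e : x⁻¹⁻¹ * x'⁻¹ = x * (x⁻¹ * x')⁻¹ * x⁻¹ := by group
  rw [e]
  exact conj_mem_of_normalizer hx (inv_mem h)

theorem comm_congr {K : Subgroup G} {x x' y y' : G} (hx' : x ∈ normalizer (K : Set G))
    (hy' : y ∈ normalizer (K : Set G)) (hx : x⁻¹ * x' ∈ K) (hy : y⁻¹ * y' ∈ K) :
    (x * y * x⁻¹ * y⁻¹)⁻¹ * (x' * y' * x'⁻¹ * y'⁻¹) ∈ K :=
  mul_congr (inv_mem hy') (mul_congr (inv_mem hx') (mul_congr hy' hx hy) (inv_congr hx' hx)) (inv_congr hy' hy)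

/-- two commuting elements of odd order -/
theorem odd_mul {x y : G} (h : x * y = y * x) (hx : Odd (orderOf x)) (hy : Odd (orderOf y)) :
    Odd (orderOf (x * y)) :=
  (hx.mul hy).of_dvd_nat ((show Commute x y from h).orderOf_mul_dvd_mul_orderOf)

/-- **the torus element trivial on the node**: `z`, `z^m` commute modulo the 2-group `K` -/
theorem exists_tau [Finite G] {K : Subgroup G} {z x : G} (hK : IsPGroup 2 K) (hz : z ∈ normalizer (K : Set G))
    (hx : x ∈ normalizer (K : Set G)) (hzo : Odd (orderOf z)) (hxo : Odd (orderOf x))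
    (hc : z * x * z⁻¹ * x⁻¹ ∈ K) : ∃ x', x⁻¹ * x' ∈ K ∧ x' * z = z * x' ∧ Odd (orderOf x') := by
  -- `x⁻¹ z x ∈ z K`
  have h1 : z⁻¹ * (x⁻¹ * z * x) ∈ K := by
    have e : z⁻¹ * (x⁻¹ * z * x) = z⁻¹ * (x⁻¹ * (z * x * z⁻¹ * x⁻¹) * x) * z := by group
    rw [e]
    exact conj_inv_mem_of_normalizer hz (conj_inv_mem_of_normalizer hx hc)
  have h2 : Odd (orderOf (x⁻¹ * z * x)) := by
    have e : x⁻¹ * z * x = MulAut.conj x⁻¹ z := by rw [MulAut.conj_apply, inv_inv]
    rw [e, (MulAut.conj x⁻¹).orderOf_eq]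
    exact hzo
  obtain ⟨k, hk, e1⟩ := conj_of_coset hK hz hzo h1 h2
  -- `x k⁻¹` commutes with `z`
  have e2 : x * k⁻¹ * z = z * (x * k⁻¹) := by
    calc x * k⁻¹ * z = x * k⁻¹ * (k * (x⁻¹ * z * x) * k⁻¹) := by rw [e1]
      _ = z * (x * k⁻¹) := by group
  have h3 : x⁻¹ * (x * k⁻¹) ∈ K := by
    rw [inv_mul_cancel_left]
    exact inv_mem hk
  obtain ⟨N, h4, h5⟩ := exists_odd_pow hx hxo h3
  exact ⟨(x * k⁻¹) ^ N, h4, ((show Commute (x * k⁻¹) z from e2).pow_left N), h5⟩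

/-- the centraliser of `τ` in `P` -/
def CP (P : Subgroup G) (τ : G) : Subgroup G := P ⊓ centralizer {τ}

theorem mem_CP {P : Subgroup G} {τ x : G} : x ∈ CP P τ ↔ x ∈ P ∧ x * τ = τ * x := by
  unfold CP
  rw [mem_inf, mem_centralizer_singleton_iff]

/-- **`m` in the derived group of `C_P(τ)`** -/
theorem exists_m [Finite G] {K P : Subgroup G} {τ m0 : G} (hK : IsPGroup 2 K) (hPK : P ≤ normalizer (K : Set G))
    (hKP : K ≤ P) (hτ : Odd (orderOf τ)) (hτK : τ ∈ normalizer (K : Set G))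
    (hτP : ∀ p ∈ P, τ * p * τ⁻¹ * p⁻¹ ∈ K) (perf : P ≤ ⁅P, P⁆ ⊔ K) (hm0 : m0 ∈ P) :
    ∃ m ∈ ⁅CP P τ, CP P τ⁆, m0⁻¹ * m ∈ K := by
  set C := CP P τ with hC
  have hCP : C ≤ P := fun x hx => (mem_CP.1 hx).1
  -- `C` covers `P / K`
  have hcov : ∀ x ∈ P, ∃ c ∈ C, x⁻¹ * c ∈ K := by
    intro x hx
    have h1 : τ⁻¹ * (x⁻¹ * τ * x) ∈ K := by
      have e : τ⁻¹ * (x⁻¹ * τ * x) = τ⁻¹ * (x⁻¹ * (τ * x * τ⁻¹ * x⁻¹) * x) * τ := by group
      rw [e]
      exact conj_inv_mem_of_normalizer hτK (conj_inv_mem_of_normalizer (hPK hx) (hτP x hx))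
    have h2 : Odd (orderOf (x⁻¹ * τ * x)) := by
      have e : x⁻¹ * τ * x = MulAut.conj x⁻¹ τ := by rw [MulAut.conj_apply, inv_inv]
      rw [e, (MulAut.conj x⁻¹).orderOf_eq]
      exact hτ
    obtain ⟨k, hk, e1⟩ := conj_of_coset hK hτK hτ h1 h2
    refine ⟨x * k⁻¹, mem_CP.2 ⟨mul_mem hx (inv_mem (hKP hk)), ?_⟩, ?_⟩
    · calc x * k⁻¹ * τ = x * k⁻¹ * (k * (x⁻¹ * τ * x) * k⁻¹) := by rw [e1]
        _ = τ * (x * k⁻¹) := by group
    · rw [inv_mul_cancel_left]
      exact inv_mem hk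
  have hCC : ⁅C, C⁆ ≤ P := by
    rw [commutator_le]
    intro x hx x' hx'
    rw [commutatorElement_def]
    exact mul_mem (mul_mem (mul_mem (hCP hx) (hCP hx')) (inv_mem (hCP hx))) (inv_mem (hCP hx'))
  have h1 : ⁅P, P⁆ ≤ ⁅C, C⁆ ⊔ K := by
    rw [commutator_le]
    intro x hx x' hx'
    obtain ⟨c, hc, e⟩ := hcov x hx
    obtain ⟨c', hc', e'⟩ := hcov x' hx'
    have h2 := comm_congr (hPK hx) (hPK hx') e e'
    rw [commutatorElement_def]
    have h3 : c * c' * c⁻¹ * c'⁻¹ ∈ ⁅C, C⁆ := commutator_mem_commutator hc hc'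
    have e3 : x * x' * x⁻¹ * x'⁻¹ = (c * c' * c⁻¹ * c'⁻¹) *
        ((x * x' * x⁻¹ * x'⁻¹)⁻¹ * (c * c' * c⁻¹ * c'⁻¹))⁻¹ := by group
    rw [e3]
    exact mul_mem ((le_sup_left : ⁅C, C⁆ ≤ _) h3) ((le_sup_right : K ≤ _) (inv_mem h2))
  have h2 : m0 ∈ ⁅C, C⁆ ⊔ K := (perf.trans (sup_le h1 le_sup_right)) hm0
  have h3 : m0 ∈ ((⁅C, C⁆ ⊔ K : Subgroup G) : Set G) := h2
  rw [coe_mul_of_left_le_normalizer_right _ _ (hCC.trans hPK)] at h3
  obtain ⟨m, hm, κ, hκ, e⟩ := h3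
  refine ⟨m, hm, ?_⟩
  have e2 : m0⁻¹ * m = κ⁻¹ := by
    have e' : m * κ = m0 := e
    rw [← e']; group
  rw [e2]
  exact inv_mem hκ

end Cfsg.Agent.Omega.Lie.Nodes.Apt

end

section


/-!
# Step (S) of the node theorem (#14331): the root group `A_g` is centralised by the node group

* `sum_eq_zero`: a finite 2-group transitive on `Ω`, an equivariant map from `Ω` to an `F`-space of dimension `< |Ω|`:
  the sum of the values is `0`.
* `const`: `P` transitive on `Ω`, a 2-subgroup fixing `e` transitive on the other points, an equivariant map from `Ω` to a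
  space of dimension `< |Ω| - 1` is constant.
* `main`: (S).
* `char_eq_one`: a group generated by 2-elements has no character `≠ 1` into `F^×`.
-/

set_option autoImplicit false

namespace Cfsg.Agent.Omega.Lie.Nodes.Fixed

open Module

section perm

variable {F X Ω : Type*} [Field F] [Finite F] [CharP F 2] [AddCommGroup X] [Module F X] [Fintype Ω]

theorem add_self (F : Type*) {X : Type*} [Field F] [CharP F 2] [AddCommGroup X] [Module F X] (x : X) : x + x = 0 := by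
  have h : ((1 : F) + 1) • x = 0 := by
    rw [CharTwo.add_self_eq_zero, zero_smul]
  rwa [add_smul, one_smul] at h

theorem sum_eq_zero {A : Type*} [Group A] [Finite A] [MulAction A Ω] (hA : IsPGroup 2 A)
    (htr : ∀ w w' : Ω, ∃ a : A, a • w = w') (φ : Ω → X)
    (hρ : ∀ a : A, ∃ ρ : X →ₗ[F] X, ∀ w, ρ (φ w) = φ (a • w))
    (hd : finrank F (Submodule.span F (Set.range φ)) < Fintype.card Ω) : ∑ w, φ w = 0 := by
  classical
  have : FiniteDimensional F (Submodule.span F (Set.range φ)) :=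
    FiniteDimensional.span_of_finite F (Set.finite_range φ)
  set L : (Ω → F) →ₗ[F] X := Fintype.linearCombination F φ with hL
  have hLa : ∀ c : Ω → F, L c = ∑ w, c w • φ w := fun c => by
    rw [hL, Fintype.linearCombination_apply]
  have hr : LinearMap.range L = Submodule.span F (Set.range φ) := Fintype.range_linearCombination F φ
  have hk : LinearMap.ker L ≠ ⊥ := by
    intro h0
    have h1 := LinearMap.finrank_range_add_finrank_ker L
    rw [hr, h0, finrank_bot, add_zero, Module.finrank_fintype_fun_eq_card] at h1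
    omega
  have hinv : ∀ (a : A) (c : Ω → F), L c = 0 → L (fun w => c (a⁻¹ • w)) = 0 := by
    intro a c hc
    obtain ⟨ρ, h⟩ := hρ a
    rw [hLa]
    have e1 : ∑ w, c (a⁻¹ • w) • φ w = ∑ w, c w • φ (a • w) := by
      rw [← Equiv.sum_comp (MulAction.toPerm a)]
      refine Finset.sum_congr rfl fun w _ => ?_
      rw [MulAction.toPerm_apply, inv_smul_smul]
    rw [e1]
    have e2 : ρ (L c) = ∑ w, c w • φ (a • w) := by
      rw [hLa, map_sum]
      exact Finset.sum_congr rfl fun w _ => by rw [map_smul, h]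
    rw [← e2, hc, map_zero]
  letI : MulAction A (LinearMap.ker L) :=
    { smul := fun a c => ⟨fun w => c.1 (a⁻¹ • w), hinv a c.1 c.2⟩
      one_smul := fun c => by
        apply Subtype.ext
        funext w
        change c.1 ((1 : A)⁻¹ • w) = c.1 w
        rw [inv_one, one_smul]
      mul_smul := fun a b c => by
        apply Subtype.ext
        funext w
        change c.1 ((a * b)⁻¹ • w) = c.1 (b⁻¹ • a⁻¹ • w)
        rw [mul_inv_rev, mul_smul] }
  have hsm : ∀ (a : A) (c : LinearMap.ker L) (w : Ω), (a • c).1 w = c.1 (a⁻¹ • w) := fun _ _ _ => rfl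
  obtain ⟨k, hk1, hk0⟩ := Submodule.exists_mem_ne_zero_of_ne_bot hk
  have hdvd : 2 ∣ Nat.card (LinearMap.ker L) := by
    have h2 : addOrderOf (⟨k, hk1⟩ : LinearMap.ker L) = 2 := by
      apply addOrderOf_eq_prime
      · rw [two_nsmul]
        exact add_self F _
      · intro h
        exact hk0 (congrArg Subtype.val h)
    rw [← h2]
    exact addOrderOf_dvd_natCard _
  have h0 : (0 : LinearMap.ker L) ∈ MulAction.fixedPoints A (LinearMap.ker L) := by
    intro a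
    apply Subtype.ext
    funext w
    rw [hsm]
    rfl
  obtain ⟨b, hb, hb0⟩ := hA.exists_fixed_point_of_prime_dvd_card_of_fixed_point _ hdvd h0
  have hb1 : ∃ w, b.1 w ≠ 0 := by
    by_contra hcon
    push Not at hcon
    exact hb0 (Subtype.ext (funext fun w => (hcon w).symm))
  obtain ⟨w₀, hw₀⟩ := hb1
  have hconst : ∀ w, b.1 w = b.1 w₀ := by
    intro w
    obtain ⟨a, ha⟩ := htr w w₀
    have := congrArg (fun c : LinearMap.ker L => c.1 w₀) (hb a)
    simp only [hsm] at this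
    rw [← this, ← ha, inv_smul_smul]
  have h3 : b.1 w₀ • ∑ w, φ w = 0 := by
    have h4 := b.2
    rw [LinearMap.mem_ker, hLa] at h4
    rw [Finset.smul_sum, ← h4]
    exact Finset.sum_congr rfl fun w _ => by rw [hconst w]
  exact (smul_eq_zero.1 h3).resolve_left hw₀

theorem const {P : Type*} [Group P] [Finite P] [MulAction P Ω] (e : Ω) (htP : ∀ w : Ω, ∃ p : P, p • e = w)
    (A : Subgroup P) (hA : IsPGroup 2 A) (hAe : ∀ a ∈ A, a • e = e)
    (htr : ∀ w w' : Ω, w ≠ e → w' ≠ e → ∃ a ∈ A, a • w = w') (φ : Ω → X)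
    (hρ : ∀ p : P, ∃ ρ : X →ₗ[F] X, ∀ w, ρ (φ w) = φ (p • w))
    (hd : finrank F (Submodule.span F (Set.range φ)) + 1 < Fintype.card Ω) (w : Ω) : φ w = ∑ w', φ w' := by
  classical
  have : FiniteDimensional F (Submodule.span F (Set.range φ)) :=
    FiniteDimensional.span_of_finite F (Set.finite_range φ)
  have hne : ∀ (a : A) (w : Ω), w ≠ e → (a : P) • w ≠ e := by
    intro a w hw h
    apply hw
    have h1 := hAe _ a.2
    have h2 : (a : P) • w = (a : P) • e := by rw [h, h1]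
    exact MulAction.injective _ h2
  letI : MulAction A {w : Ω // w ≠ e} :=
    { smul := fun a w => ⟨(a : P) • w.1, hne a w.1 w.2⟩
      one_smul := fun w => Subtype.ext (by
        change ((1 : A) : P) • w.1 = w.1
        rw [Subgroup.coe_one, one_smul])
      mul_smul := fun a b w => Subtype.ext (by
        change ((a * b : A) : P) • w.1 = (a : P) • (b : P) • w.1
        rw [Subgroup.coe_mul, mul_smul]) }
  have h1 : ∑ w : {w : Ω // w ≠ e}, φ w = 0 := by
    refine sum_eq_zero (F := F) hA ?_ (fun w : {w : Ω // w ≠ e} => φ w) ?_ ?_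
    · rintro ⟨w, hw⟩ ⟨w', hw'⟩
      obtain ⟨a, ha, h⟩ := htr w w' hw hw'
      exact ⟨⟨a, ha⟩, Subtype.ext h⟩
    · intro a
      obtain ⟨ρ, h⟩ := hρ a
      exact ⟨ρ, fun w => h w.1⟩
    · have h2 : Submodule.span F (Set.range fun w : {w : Ω // w ≠ e} => φ w) ≤
          Submodule.span F (Set.range φ) := by
        apply Submodule.span_mono
        rintro _ ⟨w, rfl⟩
        exact ⟨w.1, rfl⟩
      have h3 := Submodule.finrank_mono h2
      have h4 : Fintype.card {w : Ω // w ≠ e} = Fintype.card Ω - 1 := by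
        rw [Fintype.card_subtype_compl]
        simp
      omega
  have hsum : ∀ e' : Ω, ∑ w, φ w = φ e' + ∑ w : {w : Ω // w ≠ e'}, φ w := by
    intro e'
    rw [← Finset.add_sum_erase _ _ (Finset.mem_univ e')]
    congr 1
    exact Finset.sum_subtype _ (fun w => by simp) _
  obtain ⟨p, rfl⟩ := htP w
  rw [hsum (p • e)]
  have h5 : ∑ w : {w : Ω // w ≠ p • e}, φ w = 0 := by
    obtain ⟨ρ, h⟩ := hρ p
    have h6 : ∑ w : {w : Ω // w ≠ p • e}, φ w = ∑ w : {w : Ω // w ≠ e}, φ (p • w.1) := by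
      refine Fintype.sum_equiv ((MulAction.toPerm p⁻¹ : Equiv.Perm Ω).subtypeEquiv (fun w => ?_)) _ _ (fun w => ?_)
      · rw [MulAction.toPerm_apply, ne_eq, ne_eq, inv_smul_eq_iff]
      · change φ w = φ (p • (p⁻¹ • w.1))
        rw [smul_inv_smul]
    rw [h6]
    have h7 : ρ (∑ w : {w : Ω // w ≠ e}, φ w) = ∑ w : {w : Ω // w ≠ e}, φ (p • w.1) := by
      rw [map_sum]
      exact Finset.sum_congr rfl fun w _ => h _
    rw [← h7, h1, map_zero]
  rw [h5, add_zero]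

end perm

/-! ### Symmetric maps into `N` -/

section sym

variable {F M : Type*} [Field F] [Finite F] [CharP F 2] [AddCommGroup M] [Module F M] [Finite M]

/-- the maps `M → N`, zero on `N^⊥`, symmetric for `f` -/
def SymMap (f : M →ₗ[F] M →ₗ[F] F) (N : Submodule F M) : Submodule F (M →ₗ[F] M) where
  carrier := {φ | (∀ m, φ m ∈ N) ∧ (∀ m, (∀ n ∈ N, f m n = 0) → φ m = 0) ∧ ∀ m m', f (φ m) m' = f (φ m') m}
  add_mem' := by
    rintro φ ψ ⟨h1, h2, h3⟩ ⟨k1, k2, k3⟩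
    refine ⟨fun m => add_mem (h1 m) (k1 m), fun m hm => ?_, fun m m' => ?_⟩
    · rw [LinearMap.add_apply, h2 m hm, k2 m hm, add_zero]
    · simp only [LinearMap.add_apply, map_add, h3 m m', k3 m m']
  zero_mem' := ⟨fun m => N.zero_mem, fun m _ => rfl, fun m m' => by simp⟩
  smul_mem' := by
    rintro c φ ⟨h1, h2, h3⟩
    refine ⟨fun m => N.smul_mem c (h1 m), fun m hm => ?_, fun m m' => ?_⟩
    · rw [LinearMap.smul_apply, h2 m hm, smul_zero]
    · simp only [LinearMap.smul_apply, map_smul, h3 m m']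

omit [Finite F] [CharP F 2] [Finite M] in
theorem exists_lift {V : Type*} [AddCommGroup V] [Module F V] [FiniteDimensional F V] (g : M →ₗ[F] V) :
    ∃ k ≤ finrank F V, ∃ v : Fin k → M, ∀ m, ∃ c : Fin k → F, g m = ∑ i, c i • g (v i) := by
  let b := Module.finBasis F (LinearMap.range g)
  have hv : ∀ i, ∃ v : M, g v = b i := fun i => (b i).2
  choose v hv using hv
  refine ⟨_, Submodule.finrank_le (LinearMap.range g), v, fun m => ?_⟩
  have hm : g m ∈ LinearMap.range g := ⟨m, rfl⟩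
  refine ⟨fun i => b.repr ⟨g m, hm⟩ i, ?_⟩
  have h2 := congrArg Subtype.val (b.sum_repr ⟨g m, hm⟩)
  rw [AddSubmonoidClass.coe_finsetSum] at h2
  refine h2.symm.trans (Finset.sum_congr rfl fun i _ => ?_)
  rw [hv]
  rfl

omit [Finite F] [CharP F 2] in
theorem finrank_symMap (f : M →ₗ[F] M →ₗ[F] F) (hs : ∀ m m', f m m' = f m' m)
    (hnd : ∀ m, (∀ m', f m m' = 0) → m = 0) (N : Submodule F M) :
    finrank F (SymMap f N) ≤ (finrank F N + 1).choose 2 := by
  classical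
  have : FiniteDimensional F M := Module.Finite.of_finite
  obtain ⟨g, hga⟩ : ∃ g : M →ₗ[F] (N →ₗ[F] F), ∀ m (n : N), g m n = f m n :=
    ⟨(LinearMap.domRestrict' N).comp f, fun m n => rfl⟩
  obtain ⟨k, hk', v, hv⟩ := exists_lift g
  have hk : k ≤ finrank F N := by
    have : finrank F (Module.Dual F N) = finrank F N := Subspace.dual_finrank_eq
    exact hk'.trans this.le
  -- decomposition
  have hdec : ∀ m, ∃ (c : Fin k → F) (m₀ : M), m = ∑ i, c i • v i + m₀ ∧ ∀ n ∈ N, f m₀ n = 0 := by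
    intro m
    obtain ⟨c, hc⟩ := hv m
    refine ⟨c, m - ∑ i, c i • v i, by abel, fun n hn => ?_⟩
    have h1 : g (m - ∑ i, c i • v i) = 0 := by
      rw [map_sub, hc, map_sum, sub_eq_zero]
      exact Finset.sum_congr rfl fun i _ => by rw [map_smul]
    have h2 := hga (m - ∑ i, c i • v i) ⟨n, hn⟩
    rw [h1] at h2
    exact h2.symm
  let Φ : SymMap f N →ₗ[F] (Sym2 (Fin k) → F) :=
    { toFun := fun φ s => Sym2.lift ⟨fun i j => f (φ.1 (v i)) (v j), fun i j => φ.2.2.2 (v i) (v j)⟩ s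
      map_add' := by
        intro φ ψ
        funext s
        induction s with
        | _ i j => simp
      map_smul' := by
        intro c φ
        funext s
        induction s with
        | _ i j => simp }
  have hΦ : ∀ (φ : SymMap f N) i j, Φ φ s(i, j) = f (φ.1 (v i)) (v j) := fun _ _ _ => rfl
  have hinj : Function.Injective Φ := by
    rw [← LinearMap.ker_eq_bot, LinearMap.ker_eq_bot']
    intro φ hφ
    have h1 : ∀ i j, f (φ.1 (v i)) (v j) = 0 := fun i j => by rw [← hΦ, hφ]; rfl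
    have h2 : ∀ i, φ.1 (v i) = 0 := by
      intro i
      apply hnd
      intro m'
      obtain ⟨c, m₀, rfl, h0⟩ := hdec m'
      rw [map_add, map_sum, hs _ m₀, h0 _ (φ.2.1 _), add_zero]
      exact Finset.sum_eq_zero fun j _ => by rw [map_smul, h1, smul_zero]
    apply Subtype.ext
    apply LinearMap.ext
    intro m
    obtain ⟨c, m₀, rfl, h0⟩ := hdec m
    rw [map_add, map_sum, φ.2.2.1 m₀ h0, add_zero]
    exact Finset.sum_eq_zero fun i _ => by rw [map_smul, h2, smul_zero]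
  have h1 := LinearMap.finrank_le_finrank_of_injective hinj
  rw [Module.finrank_fintype_fun_eq_card, Sym2.card, Fintype.card_fin] at h1
  exact h1.trans (Nat.choose_le_choose _ (by omega))

end sym

/-! ### (S) -/

section main

variable {F M P Ω : Type*} [Field F] [Finite F] [CharP F 2] [AddCommGroup M] [Module F M] [Finite M]
  [Group P] [Finite P] [DistribMulAction P M] [SMulCommClass P F M] [MulAction P Ω]

/-- **(S)**: `a` is centralised by `P`. -/
theorem main (f : M →ₗ[F] M →ₗ[F] F) (hs : ∀ m m', f m m' = f m' m) (hnd : ∀ m, (∀ m', f m m' = 0) → m = 0)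
    (hf : ∀ (p : P) m m', f (p • m) (p • m') = f m m') (N : Submodule F M)
    (hN : ∀ (p : P), ∀ m ∈ N, p • m ∈ N) (hiso : ∀ m ∈ N, ∀ m' ∈ N, f m m' = 0)
    (a : M →ₗ[F] M) (haf : ∀ m m', f (a m) (a m') = f m m') (haN : ∀ m, a m - m ∈ N)
    (e : Ω) (htP : ∀ w : Ω, ∃ p : P, p • e = w)
    (A : Subgroup P) (hA : IsPGroup 2 A) (hAe : ∀ a ∈ A, a • e = e)
    (htr : ∀ w w' : Ω, w ≠ e → w' ≠ e → ∃ a ∈ A, a • w = w')
    (hst : ∀ p : P, p • e = e → ∀ m, p • a m = a (p • m))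
    (hcard : (finrank F N + 1).choose 2 + 1 < Nat.card Ω) (p : P) (m : M) : p • a m = a (p • m) := by
  classical
  have hfin : Finite Ω := Nat.finite_of_card_ne_zero (by omega)
  have := Fintype.ofFinite Ω
  -- the conjugates of `a - 1`
  let τ : P → M →ₗ[F] M := fun p => DistribSMul.toLinearMap F M p
  have hτ : ∀ p m, τ p m = p • m := fun _ _ => rfl
  let cj : P → (M →ₗ[F] M) →ₗ[F] (M →ₗ[F] M) := fun p =>
    { toFun := fun φ => (τ p).comp (φ.comp (τ p⁻¹))
      map_add' := fun φ ψ => by ext m; simp [hτ]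
      map_smul' := fun c φ => by ext m; simp [hτ, smul_comm] }
  have hcj : ∀ p φ m, cj p φ m = p • φ (p⁻¹ • m) := fun _ _ _ => rfl
  choose q hq using htP
  set φ : Ω → M →ₗ[F] M := fun w => cj (q w) (a - LinearMap.id) with hφ
  have hφa : ∀ w m, φ w m = q w • (a ((q w)⁻¹ • m) - (q w)⁻¹ • m) := fun _ _ => rfl
  have hst' : ∀ p p' : P, p • e = p' • e → ∀ m, p • a (p⁻¹ • m) = p' • a (p'⁻¹ • m) := by
    intro p p' h m
    have h1 : (p⁻¹ * p') • e = e := by rw [mul_smul, ← h, inv_smul_smul]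
    have h2 := hst _ h1 (p'⁻¹ • m)
    rw [← mul_smul, mul_assoc, mul_inv_cancel, mul_one] at h2
    rw [← h2, mul_smul, smul_inv_smul]
  have hφq : ∀ (p : P) m, φ (p • e) m = p • (a (p⁻¹ • m) - p⁻¹ • m) := by
    intro p m
    rw [hφa, smul_sub, smul_sub, smul_inv_smul, smul_inv_smul, hst' (q (p • e)) p (hq _) m]
  have hequi : ∀ (p : P) w, cj p (φ w) = φ (p • w) := by
    intro p w
    ext m
    have h1 : p • w = (p * q w) • e := by rw [mul_smul, hq]
    rw [h1, hφq, hcj, hφa, mul_inv_rev, mul_smul, mul_smul]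
  have hsym : ∀ w, φ w ∈ SymMap f N := by
    intro w
    have key : ∀ m m', f (a m - m) m' = f (a m' - m') m := by
      intro m m'
      have h1 := haf m m'
      have h2 := hiso _ (haN m) _ (haN m')
      have e1 : f (a m) (a m') = f m m' + f (a m - m) m' + f m (a m' - m') + f (a m - m) (a m' - m') := by
        simp only [map_sub, LinearMap.sub_apply]; ring
      rw [e1, h2, add_zero, hs m (a m' - m')] at h1
      have h3 : f (a m - m) m' + f (a m' - m') m = 0 := by linear_combination h1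
      exact CharTwo.add_eq_zero.1 h3
    have hz : ∀ m, (∀ n ∈ N, f m n = 0) → a m - m = 0 := by
      intro m hm
      apply hnd
      intro m'
      rw [key, hs, hm _ (haN m')]
    have hfi : ∀ (p : P) m m', f (p • m) m' = f m (p⁻¹ • m') := by
      intro p m m'
      rw [← hf p m (p⁻¹ • m'), smul_inv_smul]
    refine ⟨fun m => ?_, fun m hm => ?_, fun m m' => ?_⟩
    · rw [hφa]
      exact hN _ _ (haN _)
    · rw [hφa, hz, smul_zero]
      intro n hn
      rw [hfi, inv_inv]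
      exact hm _ (hN _ _ hn)
    · rw [hφa, hφa, hfi, hfi, key]
  have hd : finrank F (Submodule.span F (Set.range φ)) + 1 < Fintype.card Ω := by
    have h1 : Submodule.span F (Set.range φ) ≤ SymMap f N := by
      rw [Submodule.span_le]
      rintro _ ⟨w, rfl⟩
      exact hsym w
    have : FiniteDimensional F M := Module.Finite.of_finite
    have h2 := Submodule.finrank_mono h1
    have h3 := finrank_symMap f hs hnd N
    rw [Nat.card_eq_fintype_card] at hcard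
    omega
  have hc := const (F := F) e (fun w => ⟨q w, hq w⟩) A hA hAe htr φ (fun p => ⟨cj p, fun w => hequi p w⟩) hd
  have h1 : φ (p • e) = φ ((1 : P) • e) := by rw [hc, hc ((1 : P) • e)]
  have h2 := LinearMap.congr_fun h1 (p • m)
  rw [hφq, hφq, inv_smul_smul, inv_one, one_smul, one_smul, smul_sub] at h2
  exact sub_left_injective h2

end main

/-! ### Characters of groups generated by 2-elements -/

/-- A group generated by 2-elements has no nontrivial character into the multiplicative group of a finite field of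
characteristic two. -/
theorem char_eq_one {F P : Type*} [Field F] [Finite F] [CharP F 2] [Group P] (χ : P →* Fˣ)
    (hP : ∀ H : Subgroup P, (∀ x, (∃ k : ℕ, x ^ 2 ^ k = 1) → x ∈ H) → H = ⊤) (x : P) : χ x = 1 := by
  have h1 := hP χ.ker (fun y hy => by
    obtain ⟨k, hk⟩ := hy
    rw [MonoidHom.mem_ker]
    have h2 : (χ y) ^ 2 ^ k = 1 := by rw [← map_pow, hk, map_one]
    have h3 : ((χ y : Fˣ) : F) ^ 2 ^ k = 1 := by
      rw [← Units.val_pow_eq_pow_val, h2, Units.val_one]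
    apply Units.ext
    rw [Units.val_one]
    have h4 : ((χ y : F) - 1) ^ 2 ^ k = 0 := by
      rw [sub_pow_char_pow, h3, one_pow, sub_self]
    exact sub_eq_zero.1 (pow_eq_zero_iff (by positivity) |>.1 h4))
  have h2 : x ∈ χ.ker := by rw [h1]; trivial
  exact h2

/-! ### The stabiliser of `e` centralises `a` -/

section stab

variable {F M H : Type*} [Field F] [AddCommGroup M] [Module F M] [Group H] [DistribMulAction H M] [SMulCommClass H F M]

/-- `D = e + [M,A,A]`, `E = e^⊥`, `es` a vector outside `E`; `c` is the scalar by which `p` acts on `M / E`, `c'` the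
scalar by which it acts on `[es, a] + D`. -/
theorem stab (A : Subgroup H) (D E : Submodule F M) (es : M)
    (inj : ∀ a ∈ A, ∀ a' ∈ A, a • es - a' • es ∈ D → a = a') (hE : ∀ a ∈ A, ∀ m ∈ E, a • m - m ∈ D)
    (p a : H) (ha : a ∈ A) (hpa : p * a * p⁻¹ ∈ A) (c c' : F) (hc : p • es - c • es ∈ E)
    (hc' : p • (a • es - es) - c' • (a • es - es) ∈ D) (hc0 : c ≠ 0) (hcc : c = c') : p * a * p⁻¹ = a := by
  apply inj _ hpa _ ha
  have h1 := hE _ hpa _ hc
  have e1 : (p * a * p⁻¹) • (p • es - c • es) - (p • es - c • es) =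
      p • (a • es - es) - c • ((p * a * p⁻¹) • es - es) := by
    have e2 : (p * a * p⁻¹) • p • es = p • a • es := by rw [← mul_smul, ← mul_smul]; group
    rw [smul_sub, e2, smul_comm (p * a * p⁻¹) c es, smul_sub c, smul_sub p]
    abel
  rw [e1] at h1
  have h2 := sub_mem hc' h1
  have e3 : p • (a • es - es) - c' • (a • es - es) - (p • (a • es - es) - c • ((p * a * p⁻¹) • es - es)) =
      c • ((p * a * p⁻¹) • es - a • es) := by
    rw [← hcc, smul_sub c, smul_sub c, smul_sub c]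
    abel
  rw [e3] at h2
  exact (D.smul_mem_iff hc0).1 h2

end stab

section chars

variable {F M P : Type*} [Field F] [Finite F] [CharP F 2] [AddCommGroup M] [Module F M] [Group P]
  [DistribMulAction P M] [SMulCommClass P F M]

theorem char_val_eq_one (χ : P →* F)
    (hP : ∀ H : Subgroup P, (∀ x, (∃ k : ℕ, x ^ 2 ^ k = 1) → x ∈ H) → H = ⊤) (x : P) : χ x = 1 := by
  have h := char_eq_one χ.toHomUnits hP x
  have := congrArg Units.val h
  simpa using this

/-- type (σ), (α): `N = ⟨x₀, x⟩` of dimension two -/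
theorem mul_eq_one_of_two (hP : ∀ H : Subgroup P, (∀ x, (∃ k : ℕ, x ^ 2 ^ k = 1) → x ∈ H) → H = ⊤)
    (N : Submodule F M) (hN : ∀ p : P, ∀ m ∈ N, p • m ∈ N) {x₀ x : M} (hx₀ : x₀ ∈ N) (hx : x ∈ N)
    (hspan : ∀ m ∈ N, ∃ α β : F, m = α • x₀ + β • x)
    (hli : ∀ α β : F, α • x₀ + β • x = 0 → α = 0 ∧ β = 0) (p : P) {ε c' δ : F} (h1 : p • x₀ = ε • x₀)
    (h2 : p • x = c' • x + δ • x₀) : ε * c' = 1 := by
  classical
  let τ : P →* (N →ₗ[F] N) :=
    { toFun := fun p => (DistribSMul.toLinearMap F M p).restrict (hN p)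
      map_one' := by
        ext m
        change (1 : P) • (m : M) = m
        exact one_smul _ _
      map_mul' := fun p p' => by
        ext m
        change (p * p') • (m : M) = p • p' • (m : M)
        exact mul_smul _ _ _ }
  have hτ : ∀ p (m : N), ((τ p m : N) : M) = p • (m : M) := fun _ _ => rfl
  let v : Fin 2 → N := ![⟨x₀, hx₀⟩, ⟨x, hx⟩]
  have hv0 : v 0 = ⟨x₀, hx₀⟩ := rfl
  have hv1 : v 1 = ⟨x, hx⟩ := rfl
  have hlv : LinearIndependent F v := by
    rw [LinearIndependent.pair_iff']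
    · intro a h
      have h3 := congrArg Subtype.val h
      change a • x₀ = x at h3
      have h4 := (hli a (-1) (by rw [h3, neg_one_smul, add_neg_cancel])).2
      exact one_ne_zero (neg_eq_zero.1 h4)
    · intro h
      have h3 : x₀ = 0 := congrArg Subtype.val h
      exact one_ne_zero (hli 1 0 (by rw [h3, smul_zero, zero_smul, add_zero])).1
  have hsv : ⊤ ≤ Submodule.span F (Set.range v) := by
    rintro ⟨m, hm⟩ -
    obtain ⟨α, β, e1⟩ := hspan m hm
    have e2 : (⟨m, hm⟩ : N) = α • v 0 + β • v 1 := Subtype.ext e1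
    rw [e2]
    exact add_mem (Submodule.smul_mem _ _ (Submodule.subset_span ⟨0, rfl⟩))
      (Submodule.smul_mem _ _ (Submodule.subset_span ⟨1, rfl⟩))
  let b : Basis (Fin 2) F N := Basis.mk hlv hsv
  have hb : ∀ i, b i = v i := fun i => Basis.mk_apply hlv hsv i
  have hdet := char_val_eq_one ((LinearMap.det : (N →ₗ[F] N) →* F).comp τ) hP p
  rw [MonoidHom.comp_apply, ← LinearMap.det_toMatrix b, Matrix.det_fin_two] at hdet
  have hr : ∀ α β : F, ∀ i, b.repr (α • v 0 + β • v 1) i = ![α, β] i := by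
    intro α β i
    rw [map_add, map_smul, map_smul, ← hb, ← hb, b.repr_self, b.repr_self]
    fin_cases i <;> simp
  have e0 : τ p (v 0) = ε • v 0 + (0 : F) • v 1 := by
    apply Subtype.ext
    rw [hτ, zero_smul, add_zero]
    exact h1
  have e1 : τ p (v 1) = δ • v 0 + c' • v 1 := by
    apply Subtype.ext
    rw [hτ]
    change p • x = δ • x₀ + c' • x
    rw [h2, add_comm]
  simp only [LinearMap.toMatrix_apply, hb, e0, e1, hr] at hdet
  simpa using hdet

omit [SMulCommClass P F M] in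
/-- type (β): `P` preserves a quadratic form of `N` up to scalars -/
theorem mul_eq_one_of_quad (hP : ∀ H : Subgroup P, (∀ x, (∃ k : ℕ, x ^ 2 ^ k = 1) → x ∈ H) → H = ⊤)
    (N : Submodule F M) (hN : ∀ p : P, ∀ m ∈ N, p • m ∈ N) (q : M → F)
    (hq : ∀ p : P, ∃ μ : F, ∀ m ∈ N, q (p • m) = μ * q m) {x₀ x : M} (hx₀ : x₀ ∈ N) (hx : x ∈ N)
    (hne : q (x₀ + x) - q x₀ - q x ≠ 0) (p : P) {ε c' : F}
    (hpol : q (p • x₀ + p • x) - q (p • x₀) - q (p • x) = ε * c' * (q (x₀ + x) - q x₀ - q x)) : ε * c' = 1 := by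
  classical
  have hex : ∃ y ∈ N, q y ≠ 0 := by
    by_contra hcon
    push Not at hcon
    apply hne
    rw [hcon _ (add_mem hx₀ hx), hcon _ hx₀, hcon _ hx, sub_zero, sub_zero]
  obtain ⟨y, hy, hy0⟩ := hex
  choose μ hμ using hq
  let χ : P →* F :=
    { toFun := μ
      map_one' := by
        have h1 := hμ 1 y hy
        rw [one_smul] at h1
        have h2 : (μ 1 - 1) * q y = 0 := by rw [sub_mul, one_mul, ← h1, sub_self]
        exact sub_eq_zero.1 ((mul_eq_zero.1 h2).resolve_right hy0)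
      map_mul' := fun p p' => by
        have h1 := hμ (p * p') y hy
        rw [mul_smul, hμ p _ (hN p' y hy), hμ p' y hy, ← mul_assoc] at h1
        exact (mul_right_cancel₀ hy0 h1).symm }
  have h1 : μ p = 1 := char_val_eq_one χ hP p
  have h2 : q (p • x₀ + p • x) = q (x₀ + x) := by
    rw [← smul_add, hμ p _ (add_mem hx₀ hx), h1, one_mul]
  rw [h2, hμ p _ hx₀, hμ p _ hx, h1, one_mul, one_mul] at hpol
  have h3 : (ε * c' - 1) * (q (x₀ + x) - q x₀ - q x) = 0 := by rw [sub_mul, one_mul, ← hpol, sub_self]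
  exact sub_eq_zero.1 ((mul_eq_zero.1 h3).resolve_right hne)

end chars

/-! ### (S) for subgroups -/

section sub

open scoped Pointwise

variable {F M H : Type*} [Field F] [Finite F] [CharP F 2] [AddCommGroup M] [Module F M] [Finite M]
  [Group H] [Finite H] [DistribMulAction H M] [SMulCommClass H F M]

/-- **(S)**, for subgroups `A ≤ P` of `H` and the orbit of a point `e`. -/
theorem main_sub (f : M →ₗ[F] M →ₗ[F] F) (hs : ∀ m m', f m m' = f m' m)
    (hnd : ∀ m, (∀ m', f m m' = 0) → m = 0) (P A : Subgroup H) (hAP : A ≤ P)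
    (hf : ∀ p ∈ P, ∀ m m', f (p • m) (p • m') = f m m') (N : Submodule F M)
    (hN : ∀ p ∈ P, ∀ m ∈ N, p • m ∈ N) (hiso : ∀ m ∈ N, ∀ m' ∈ N, f m m' = 0)
    (a : H) (haf : ∀ m m', f (a • m) (a • m') = f m m') (haN : ∀ m, a • m - m ∈ N)
    (e : Submodule F M) (hA : IsPGroup 2 A) (hAe : ∀ b ∈ A, b • e = e)
    (htr : ∀ p ∈ P, ∀ p' ∈ P, p • e ≠ e → p' • e ≠ e → ∃ b ∈ A, b • p • e = p' • e)
    (hst : ∀ p ∈ P, p • e = e → p * a * p⁻¹ = a)
    (hcard : (finrank F N + 1).choose 2 + 1 < Nat.card (MulAction.orbit P e)) :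
    ∀ p ∈ P, ∀ m : M, (p * a * p⁻¹) • m = a • m := by
  intro p hp m
  have key := main (P := P) (Ω := MulAction.orbit P e) f hs hnd (fun p m m' => hf p p.2 m m') N
    (fun p m hm => hN p p.2 m hm) hiso (DistribSMul.toLinearMap F M a) haf haN
    ⟨e, MulAction.mem_orbit_self e⟩ (by
      rintro ⟨_, q, rfl⟩
      exact ⟨q, rfl⟩) (A.subgroupOf P) (hA.of_injective (Subgroup.subgroupOfEquivOfLe hAP).toMonoidHom
        (Subgroup.subgroupOfEquivOfLe hAP).injective)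
    (fun b hb => Subtype.ext (hAe b (Subgroup.mem_subgroupOf.1 hb))) (by
      rintro ⟨_, q, rfl⟩ ⟨_, q', rfl⟩ h1 h2
      obtain ⟨b, hb, h⟩ := htr q q.2 q' q'.2 (fun h => h1 (Subtype.ext h)) (fun h => h2 (Subtype.ext h))
      exact ⟨⟨b, hAP hb⟩, Subgroup.mem_subgroupOf.2 hb, Subtype.ext h⟩) (by
      intro q hq m
      have h1 := hst q q.2 (congrArg Subtype.val hq)
      change (q : H) • a • m = a • (q : H) • m
      rw [← mul_smul, ← mul_smul]
      congr 1
      exact mul_inv_eq_iff_eq_mul.1 h1) hcard ⟨p, hp⟩ (p⁻¹ • m)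
  change p • a • p⁻¹ • m = a • p • p⁻¹ • m at key
  rw [mul_smul, mul_smul, key, smul_inv_smul]

end sub

end Cfsg.Agent.Omega.Lie.Nodes.Fixed

end

end
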