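import Cfsg.Agent.Mrg.Omega.BTwo.ModG
import Cfsg.Agent.Mrg.Omega.Lie.Nodes.SigGrp
import Cfsg.Agent.Mrg.Omega.BTwo.Conj
import Cfsg.Agent.Mrg.Omega.BTwo.Str
import Cfsg.Agent.Mrg.Omega.BTwo.RadQ

-- merged: Cfsg.Agent.Mrg.Omega.Lie.Nodes.AptLin
section

section


/-!
# NODE LIE, residues `(0, j)`: module side of the apartment

`m ∈ C(R i)` swaps `⟨e⟩` and `⟨n k⟩` and preserves `N_k = ⟨e⟩ + Z_k + ⟨n k⟩`: then `m` preserves `Z_k`, and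
`z · z^m` acts trivially on `N_k` for every torus element `z`.
-/

set_option autoImplicit false
set_option linter.unusedSectionVars false

namespace Cfsg.Agent.Omega.Lie.Nodes

open Subgroup Cfsg.Agent.Omega.BTwo

universe u v w

variable {G : Type u} [Group G] {ι : Type w} {V : Subgroup G} {R : ι → Subgroup G} {i j : ι} {F : Type v}
  [Field F] {v : F → F → G} {w1 w2 : F → G} {M B : Type u} [AddCommGroup M] [AddCommGroup B]
  [DistribMulAction (NR R i) M] [DistribMulAction (NR R i) B] [Module F M] {p : G → M} {r : G → B}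
  {f : M →+ M →+ B} {φ : M →ₗ[F] M →ₗ[F] F} {s : NR R i → (F ≃+* F)} [CharP F 2]

section basic

variable (h : FMod V R i j v w1 w2 M B p r f φ s)
include h

theorem p_mem_V_iff {x : G} (hx : x ∈ WW V (R i)) : x ∈ V ↔ ∃ c : F, p x = c • p (v 0 1) := by
  rw [← h.fr.p_mem_iff hx (h.bt.R_le i), h.mem_V]
  exact ⟨fun ⟨c, e⟩ => ⟨c, e.symm⟩, fun ⟨c, e⟩ => ⟨c, e.symm⟩⟩

/-- an element of `N(R i)` fixing `⟨e⟩` normalises `V` -/
theorem norm_V [Finite G] {g : NR R i} {c : F} (hg : g • p (v 0 1) = c • p (v 0 1)) :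
    (g : G) ∈ normalizer (V : Set G) := by
  apply mem_normalizer_of_conj
  intro x hx
  have hxW := V_le_WW V (R i) hx
  have hx' : (g : G) * x * (g : G)⁻¹ ∈ WW V (R i) :=
    conj_mem_of_normalizer (normalizer_le_WW V (R i) g.2) hxW
  rw [p_mem_V_iff h hx']
  obtain ⟨d, hd⟩ := (p_mem_V_iff h hxW).1 hx
  refine ⟨s g d * c, ?_⟩
  rw [← h.fr.p_act g x hxW, hd, h.semi, hg, smul_smul]

theorem act_smul {g : NR R i} (hg : (g : G) ∈ centralizer (R i : Set G)) (l : F) (m : M) :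
    g • (l • m) = l • (g • m) := h.lin_cen hg l m

end basic

section Z

variable [Finite G] [Finite F] {h : FMod V R i j v w1 w2 M B p r f φ s} {t : F → G} {τ : Lie.TorD V R i j v t}
  {N : Type u} [AddCommGroup N] [Module F N] {P1 P2 : G → N} {y : YPair V R i j w1 w2 N P1 P2}
  {n : N →ₗ[F] M} {sf : N →ₗ[F] N →ₗ[F] M} {q : N → N →ₗ[F] F}

/-- `N_k` -/
abbrev NK (p : G → M) (v : F → F → G) (n : N →ₗ[F] M) (sf : N →ₗ[F] N →ₗ[F] M) (k : N) : Submodule F M :=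
  Ng (p (v 0 1)) n (fun a b => sf a b) k

/-- `Z_k` -/
abbrev ZK (sf : N →ₗ[F] N →ₗ[F] M) (k : N) : Submodule F M := Zg F (fun a b => sf a b) k

/-- the `a`-eigenvectors of `t a` -/
theorem eig_a (g : Eig h τ y n sf q) {a : Fˣ} (ha : (a : F) ≠ 1) {x : M} (hx : tT τ a • x = (a : F) • x) :
    ∃ l, x = n l := by
  have h1 := h.phi_T_e τ a x
  rw [hx, map_smul, LinearMap.smul_apply, smul_eq_mul] at h1
  have h2 : φ x (p (v 0 1)) = 0 := by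
    have h3 : ((a : F) * (1 - a)) * φ x (p (v 0 1)) = 0 := by linear_combination h1
    exact (mul_eq_zero.1 h3).resolve_left (mul_ne_zero a.ne_zero (sub_ne_zero.2 (Ne.symm ha)))
  obtain ⟨γ, d, hd, l, rfl⟩ := (g.mem_U x).1 h2
  rw [smul_add, smul_add, h.T_smul_e τ, hd a, g.n_mem l a, smul_add, smul_add, smul_smul] at hx
  have h3 : (γ * (a : F)⁻¹ - a * γ) • p (v 0 1) + (1 - (a : F)) • d + n 0 = 0 := by
    rw [map_zero, add_zero, sub_smul, sub_smul, one_smul]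
    have h4 : (γ * (a : F)⁻¹) • p (v 0 1) + d = ((a : F) * γ) • p (v 0 1) + (a : F) • d :=
      add_right_cancel hx
    have h5 : (γ * (a : F)⁻¹) • p (v 0 1) = ((a : F) * γ) • p (v 0 1) + (a : F) • d - d := by
      rw [← h4]; abel
    rw [h5]
    abel
  obtain ⟨h4, h5, -⟩ := g.indep _ _ _ ((h.M0 τ).smul_mem _ hd) h3
  have h6 : γ = 0 := by
    have h7 : γ * ((a : F) - (a : F)⁻¹) = 0 := by linear_combination -h4
    exact (mul_eq_zero.1 h7).resolve_right (h.sub_inv_ne a.ne_zero ha)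
  have h7 : d = 0 := (smul_eq_zero.1 h5).resolve_left (sub_ne_zero.2 (Ne.symm ha))
  exact ⟨l, by rw [h6, h7, zero_smul, zero_add, zero_add]⟩

theorem mem_NK {k : N} {m : M} : m ∈ NK p v n sf k ↔
    ∃ c : F, ∃ z ∈ ZK sf k, ∃ r : F, m = c • p (v 0 1) + z + r • n k := mem_Ng

theorem ZK_le (g : Eig h τ y n sf q) {k : N} : ZK sf k ≤ h.M0 τ := (nfr_of g).Zg_le

/-- the components in `N_k` are unique -/
theorem NK_uniq (g : Eig h τ y n sf q) {k : N} (hk : k ≠ 0) {c c' : F} {z z' : M} {ρ ρ' : F}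
    (hz : z ∈ ZK sf k) (hz' : z' ∈ ZK sf k)
    (e : c • p (v 0 1) + z + ρ • n k = c' • p (v 0 1) + z' + ρ' • n k) : c = c' ∧ z = z' ∧ ρ = ρ' := by
  have h1 : (c - c') • p (v 0 1) + (z - z') + n ((ρ - ρ') • k) = 0 := by
    rw [sub_smul, map_smul, sub_smul]
    have : c • p (v 0 1) - c' • p (v 0 1) + (z - z') + (ρ • n k - ρ' • n k) =
      (c • p (v 0 1) + z + ρ • n k) - (c' • p (v 0 1) + z' + ρ' • n k) := by abel
    rw [this, e, sub_self]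
  obtain ⟨h2, h3, h4⟩ := g.indep _ _ _ ((h.M0 τ).sub_mem (ZK_le g hz) (ZK_le g hz')) h1
  refine ⟨sub_eq_zero.1 h2, sub_eq_zero.1 h3, sub_eq_zero.1 ((smul_eq_zero.1 h4).resolve_right hk)⟩

theorem n_notMem_D (g : Eig h τ y n sf q) {k : N} (hk : k ≠ 0) {c : F} (hc : c • n k ∈ h.fr.sb (DD V R)) :
    c = 0 := by
  obtain ⟨γ, d, hd, e⟩ := (g.mem_D _).1 hc
  have h1 : γ • p (v 0 1) + d + n ((-c) • k) = 0 := by
    rw [map_smul, neg_smul, e]; abel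
  obtain ⟨-, -, h2⟩ := g.indep _ _ _ hd h1
  exact neg_eq_zero.1 ((smul_eq_zero.1 h2).resolve_right hk)

/-- `m` swaps `⟨e⟩` and `⟨n k⟩` and preserves `N_k` -/
structure SwapM (h : FMod V R i j v w1 w2 M B p r f φ s) (n : N →ₗ[F] M) (sf : N →ₗ[F] N →ₗ[F] M) (k : N)
    (m : NR R i) (β γ : F) : Prop where
  cen : (m : G) ∈ centralizer (R i : Set G)
  me : m • p (v 0 1) = β • n k
  mn : m • n k = γ • p (v 0 1)
  β0 : β ≠ 0
  γ0 : γ ≠ 0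
  pres : ∀ x ∈ NK p v n sf k, m • x ∈ NK p v n sf k
  pres' : ∀ x ∈ NK p v n sf k, m⁻¹ • x ∈ NK p v n sf k

namespace SwapM

variable {k : N} {m : NR R i} {β γ : F} (sw : SwapM h n sf k m β γ)
include sw

theorem cen' : ((m⁻¹ : NR R i) : G) ∈ centralizer (R i : Set G) := by
  rw [coe_inv]
  exact inv_mem sw.cen

theorem me' : m⁻¹ • n k = β⁻¹ • p (v 0 1) := by
  rw [inv_smul_eq_iff, act_smul h sw.cen, sw.me, smul_smul, inv_mul_cancel₀ sw.β0, one_smul]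

theorem mn' : m⁻¹ • p (v 0 1) = γ⁻¹ • n k := by
  rw [inv_smul_eq_iff, act_smul h sw.cen, sw.mn, smul_smul, inv_mul_cancel₀ sw.γ0, one_smul]

theorem inv : SwapM h n sf k m⁻¹ γ⁻¹ β⁻¹ where
  cen := sw.cen'
  me := sw.mn'
  mn := sw.me'
  β0 := inv_ne_zero sw.γ0
  γ0 := inv_ne_zero sw.β0
  pres := sw.pres'
  pres' := by
    rw [inv_inv]
    exact sw.pres

/-- the `e`-component of `m • d`, `d ∈ Z`, is `0` -/
theorem comp_e (g : Eig h τ y n sf q) (hk : k ≠ 0) {d : M} (hd : d ∈ ZK sf k) :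
    ∃ z ∈ ZK sf k, ∃ r : F, m • d = z + r • n k := by
  obtain ⟨a, ha⟩ := h.exists_unit
  have hdN : d ∈ NK p v n sf k := Zg_le_Ng hd
  obtain ⟨c, z, hz, r, e⟩ := mem_NK.1 (sw.pres d hdN)
  -- `z' = m⁻¹ t m` normalises `V`, hence `D`
  set x := m⁻¹ * tT τ a * m with hx
  have hxe : x • p (v 0 1) = (a : F) • p (v 0 1) := by
    rw [hx, mul_smul, mul_smul, sw.me, h.T_lin τ, g.n_mem k a, act_smul h sw.cen', act_smul h sw.cen', sw.me',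
      smul_smul, smul_smul]
    congr 1
    have := sw.β0
    field_simp
  have hxV : (x : G) ∈ normalizer (DD V R : Set G) := h.bt.NV_le_ND (norm_V h hxe)
  -- `d` and `x • d` are in `D`
  have hdD : d ∈ h.fr.sb (DD V R) := (g.mem_D _).2 ⟨0, d, ZK_le g hd, by rw [zero_smul, zero_add]⟩
  have hxd := h.fr.sb_smul hxV hdD
  have h1 := (h.fr.sb (DD V R)).sub_mem hxd hdD
  -- `m • (x • d - d) = (a⁻¹ - 1) c e + (a - 1) r n_k`
  have h2 : m • (x • d - d) = (c * (a : F)⁻¹ - c) • p (v 0 1) + ((a : F) * r - r) • n k := by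
    rw [smul_sub, ← mul_smul, hx, show m * (m⁻¹ * tT τ a * m) = tT τ a * m by group, mul_smul, e, smul_add,
      smul_add, h.T_smul_e τ, ZK_le g hz a, h.T_lin τ, g.n_mem k a, smul_smul, sub_smul, sub_smul, mul_comm r]
    abel
  have h3 : x • d - d = (c * (a : F)⁻¹ - c) • (γ⁻¹ • n k) + ((a : F) * r - r) • (β⁻¹ • p (v 0 1)) := by
    rw [← inv_smul_smul m (x • d - d), h2, smul_add, act_smul h sw.cen', act_smul h sw.cen', sw.me', sw.mn']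
  rw [h3] at h1
  have h4 : ((a : F) * r - r) • (β⁻¹ • p (v 0 1)) ∈ h.fr.sb (DD V R) := by
    rw [smul_smul]
    exact h.D_smul_e τ _
  have h5 : (c * (a : F)⁻¹ - c) • (γ⁻¹ • n k) ∈ h.fr.sb (DD V R) := by
    have := (h.fr.sb (DD V R)).sub_mem h1 h4
    rwa [add_sub_cancel_right] at this
  rw [smul_smul] at h5
  have h6 := n_notMem_D g hk h5
  have h7 : c * ((a : F)⁻¹ - 1) = 0 := by
    have h8 := (mul_eq_zero.1 h6).resolve_right (inv_ne_zero sw.γ0)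
    linear_combination h8
  have h8 : c = 0 := by
    refine (mul_eq_zero.1 h7).resolve_right fun h9 => ha ?_
    rw [← inv_inv (a : F), sub_eq_zero.1 h9, inv_one]
  exact ⟨z, hz, r, by rw [e, h8, zero_smul, zero_add]⟩

/-- **`m` preserves `Z_k`** -/
theorem pres_Z (g : Eig h τ y n sf q) (hk : k ≠ 0) {d : M} (hd : d ∈ ZK sf k) : m • d ∈ ZK sf k := by
  obtain ⟨z, hz, r, e⟩ := sw.comp_e g hk hd
  obtain ⟨z', hz', r', e'⟩ := sw.inv.comp_e g hk hz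
  have h1 : d = m⁻¹ • z + (r * β⁻¹) • p (v 0 1) := by
    rw [← inv_smul_smul m d, e, smul_add, act_smul h sw.cen', sw.me', smul_smul]
  rw [e'] at h1
  have h2 := NK_uniq g hk (c := 0) (c' := r * β⁻¹) (ρ := 0) (ρ' := r') hd hz' (by
    rw [zero_smul, zero_smul, zero_add, add_zero, h1]; abel)
  have h3 : r = 0 := (mul_eq_zero.1 h2.1.symm).resolve_right (inv_ne_zero sw.β0)
  rw [e, h3, zero_smul, add_zero]
  exact hz

/-- the conjugate torus element on `e`, `Z`, `n k` -/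
theorem conj_e (g : Eig h τ y n sf q) (a : Fˣ) :
    (m * tT τ a * m⁻¹) • p (v 0 1) = (a : F) • p (v 0 1) := by
  rw [mul_smul, mul_smul, sw.mn', h.T_lin τ, g.n_mem k a, act_smul h sw.cen, act_smul h sw.cen, sw.mn, smul_smul,
    smul_smul]
  congr 1
  have := sw.γ0
  field_simp

theorem conj_n (g : Eig h τ y n sf q) (a : Fˣ) : (m * tT τ a * m⁻¹) • n k = (a : F)⁻¹ • n k := by
  have _ := g
  rw [mul_smul, mul_smul, sw.me', h.T_lin τ, h.T_e τ, act_smul h sw.cen, act_smul h sw.cen, sw.me, smul_smul,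
    smul_smul]
  congr 1
  have := sw.β0
  field_simp

theorem conj_Z (g : Eig h τ y n sf q) (hk : k ≠ 0) (a : Fˣ) {d : M} (hd : d ∈ ZK sf k) :
    (m * tT τ a * m⁻¹) • d = d := by
  rw [mul_smul, mul_smul, ZK_le g (sw.inv.pres_Z g hk hd) a, smul_inv_smul]

end SwapM

end Z

end Cfsg.Agent.Omega.Lie.Nodes

end

section


/-!
# NODE LIE, residues `(0, j)`: the apartment of the quadrangle closes

`p₀ p₁ p₂ p₃` points, `W₀ .. W₃` with `[Wᵢ, Wᵢ] ≤ pᵢ`, lines `pᵢ pᵢ₊₁ ≤ Wᵢ ⊓ Wᵢ₊₁`.  `Λ = ⟨W₃ ⊓ W₀, W₁ ⊓ W₂⟩` and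
`Λ' = ⟨W₀ ⊓ W₁, W₂ ⊓ W₃⟩` commute modulo `p₀ p₁ p₂ p₃`.  If `m` fixes `p₀, p₂` and swaps `p₁, p₃` and `n ∈ Λ` maps `p₀`
to `p₁` then `(nmnm)⁻¹ mnmn ∈ ⟨Λ, p₀ p₁ p₂ p₃⟩` fixes `p₀`.
-/

set_option autoImplicit false

namespace Cfsg.Agent.Omega.Lie.Nodes

open Subgroup Cfsg.Agent.Omega.BTwo

universe u

variable {G : Type u} [Group G]

/-- `{a ∈ N(S) | [a, B] ≤ S}` -/
def cmod (S B : Subgroup G) : Subgroup G where
  carrier := {a | a ∈ normalizer (S : Set G) ∧ ∀ b ∈ B, a * b * a⁻¹ * b⁻¹ ∈ S}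
  one_mem' := ⟨one_mem _, fun b _ => by
    rw [one_mul, inv_one, mul_one, mul_inv_cancel]; exact one_mem _⟩
  mul_mem' := by
    rintro a a' ⟨h1, h2⟩ ⟨h3, h4⟩
    refine ⟨mul_mem h1 h3, fun b hb => ?_⟩
    have e : a * a' * b * (a * a')⁻¹ * b⁻¹ = (a * (a' * b * a'⁻¹ * b⁻¹) * a⁻¹) * (a * b * a⁻¹ * b⁻¹) := by group
    rw [e]
    exact mul_mem (conj_mem_of_normalizer h1 (h4 b hb)) (h2 b hb)
  inv_mem' := by
    rintro a ⟨h1, h2⟩
    refine ⟨inv_mem h1, fun b hb => ?_⟩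
    have e : a⁻¹ * b * a⁻¹⁻¹ * b⁻¹ = a⁻¹ * (a * b * a⁻¹ * b⁻¹)⁻¹ * a := by group
    rw [e]
    exact conj_inv_mem_of_normalizer h1 (inv_mem (h2 b hb))

theorem le_cmod {S B A : Subgroup G} (h : A ≤ normalizer (S : Set G))
    (h' : ∀ a ∈ A, ∀ b ∈ B, a * b * a⁻¹ * b⁻¹ ∈ S) : A ≤ cmod S B := fun a ha => ⟨h ha, h' a ha⟩

/-- `A₁ ⊔ A₂` and `B₁ ⊔ B₂` commute modulo `S` -/
theorem comm_sup_sup {S A1 A2 B1 B2 : Subgroup G} (hA1 : A1 ≤ normalizer (S : Set G))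
    (hA2 : A2 ≤ normalizer (S : Set G)) (hB1 : B1 ≤ normalizer (S : Set G)) (hB2 : B2 ≤ normalizer (S : Set G))
    (h11 : ∀ a ∈ A1, ∀ b ∈ B1, a * b * a⁻¹ * b⁻¹ ∈ S) (h12 : ∀ a ∈ A1, ∀ b ∈ B2, a * b * a⁻¹ * b⁻¹ ∈ S)
    (h21 : ∀ a ∈ A2, ∀ b ∈ B1, a * b * a⁻¹ * b⁻¹ ∈ S) (h22 : ∀ a ∈ A2, ∀ b ∈ B2, a * b * a⁻¹ * b⁻¹ ∈ S) :
    ∀ a ∈ A1 ⊔ A2, ∀ b ∈ B1 ⊔ B2, a * b * a⁻¹ * b⁻¹ ∈ S := by
  have sym : ∀ {a b : G}, a * b * a⁻¹ * b⁻¹ ∈ S → b * a * b⁻¹ * a⁻¹ ∈ S := by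
    intro a b h
    have e : b * a * b⁻¹ * a⁻¹ = (a * b * a⁻¹ * b⁻¹)⁻¹ := by group
    rw [e]; exact inv_mem h
  have h1 : A1 ⊔ A2 ≤ cmod S B1 := sup_le (le_cmod hA1 h11) (le_cmod hA2 h21)
  have h2 : A1 ⊔ A2 ≤ cmod S B2 := sup_le (le_cmod hA1 h12) (le_cmod hA2 h22)
  have h3 : B1 ⊔ B2 ≤ cmod S (A1 ⊔ A2) :=
    sup_le (le_cmod hB1 fun b hb a ha => sym ((h1 ha).2 b hb)) (le_cmod hB2 fun b hb a ha => sym ((h2 ha).2 b hb))
  exact fun a ha b hb => sym ((h3 hb).2 a ha)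

/-- the four points of an apartment -/
structure Apt (p0 p1 p2 p3 W0 W1 W2 W3 : Subgroup G) : Prop where
  w0 : ∀ x ∈ W0, ∀ y ∈ W0, x * y * x⁻¹ * y⁻¹ ∈ p0
  w1 : ∀ x ∈ W1, ∀ y ∈ W1, x * y * x⁻¹ * y⁻¹ ∈ p1
  w2 : ∀ x ∈ W2, ∀ y ∈ W2, x * y * x⁻¹ * y⁻¹ ∈ p2
  w3 : ∀ x ∈ W3, ∀ y ∈ W3, x * y * x⁻¹ * y⁻¹ ∈ p3
  p00 : p0 ≤ W0
  p01 : p0 ≤ W1
  p03 : p0 ≤ W3
  p11 : p1 ≤ W1
  p10 : p1 ≤ W0
  p12 : p1 ≤ W2
  p22 : p2 ≤ W2
  p21 : p2 ≤ W1
  p23 : p2 ≤ W3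
  p33 : p3 ≤ W3
  p32 : p3 ≤ W2
  p30 : p3 ≤ W0
  comm : ∀ x ∈ p0 ⊔ p1 ⊔ p2 ⊔ p3, ∀ y ∈ p0 ⊔ p1 ⊔ p2 ⊔ p3, x * y = y * x

theorem le_normalizer_of' {K S : Subgroup G} (h : ∀ k ∈ K, ∀ s ∈ S, k * s * k⁻¹ ∈ S) :
    K ≤ normalizer (S : Set G) := by
  intro k hk
  rw [mem_normalizer_iff]
  intro x
  refine ⟨fun hx => h k hk x hx, fun hx => ?_⟩
  have := h k⁻¹ (inv_mem hk) _ hx
  rwa [inv_inv, show k⁻¹ * (k * x * k⁻¹) * k = x by group] at this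

/-- the general step: `W ⊓ W'` normalises `S` -/
theorem norm_aux {W W' p p' S A A' : Subgroup G} (hw : ∀ x ∈ W, ∀ y ∈ W, x * y * x⁻¹ * y⁻¹ ∈ p)
    (hw' : ∀ x ∈ W', ∀ y ∈ W', x * y * x⁻¹ * y⁻¹ ∈ p') (hp : p ≤ S) (hp' : p' ≤ S) (hA : A ≤ W) (hA' : A' ≤ W')
    (hS : S = A ⊔ A') : W ⊓ W' ≤ normalizer (S : Set G) := by
  refine le_normalizer_of' fun d hd => ?_
  have h : A ⊔ A' ≤ S.comap (MulAut.conj d).toMonoidHom := by
    refine sup_le (fun a ha => ?_) fun a ha => ?_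
    · show d * a * d⁻¹ ∈ S
      have h1 := mul_mem (hp (hw d hd.1 a (hA ha))) (hS.ge ((le_sup_left : A ≤ _) ha))
      rwa [inv_mul_cancel_right] at h1
    · show d * a * d⁻¹ ∈ S
      have h1 := mul_mem (hp' (hw' d hd.2 a (hA' ha))) (hS.ge ((le_sup_right : A' ≤ _) ha))
      rwa [inv_mul_cancel_right] at h1
  intro s hs
  exact h (hS.le hs)

namespace Apt

variable {p0 p1 p2 p3 W0 W1 W2 W3 : Subgroup G} (h : Apt p0 p1 p2 p3 W0 W1 W2 W3)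
include h

theorem n0 : W0 ⊓ W1 ≤ normalizer ((p0 ⊔ p1 ⊔ p2 ⊔ p3 : Subgroup G) : Set G) := by
  refine norm_aux (A := p0 ⊔ p3) (A' := p1 ⊔ p2) h.w0 h.w1
    (le_sup_left.trans (le_sup_left.trans le_sup_left)) (le_sup_right.trans (le_sup_left.trans le_sup_left))
    (sup_le h.p00 h.p30) (sup_le h.p11 h.p21) ?_
  ac_rfl

theorem n1 : W1 ⊓ W2 ≤ normalizer ((p0 ⊔ p1 ⊔ p2 ⊔ p3 : Subgroup G) : Set G) := by
  refine norm_aux (A := p1 ⊔ p0) (A' := p2 ⊔ p3) h.w1 h.w2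
    (le_sup_right.trans (le_sup_left.trans le_sup_left)) (le_sup_right.trans le_sup_left)
    (sup_le h.p11 h.p01) (sup_le h.p22 h.p32) ?_
  ac_rfl

theorem n2 : W2 ⊓ W3 ≤ normalizer ((p0 ⊔ p1 ⊔ p2 ⊔ p3 : Subgroup G) : Set G) := by
  refine norm_aux (A := p2 ⊔ p1) (A' := p3 ⊔ p0) h.w2 h.w3
    (le_sup_right.trans le_sup_left) le_sup_right (sup_le h.p22 h.p12) (sup_le h.p33 h.p03) ?_
  ac_rfl

theorem n3 : W3 ⊓ W0 ≤ normalizer ((p0 ⊔ p1 ⊔ p2 ⊔ p3 : Subgroup G) : Set G) := by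
  refine norm_aux (A := p3 ⊔ p2) (A' := p0 ⊔ p1) h.w3 h.w0
    le_sup_right (le_sup_left.trans (le_sup_left.trans le_sup_left)) (sup_le h.p33 h.p23) (sup_le h.p00 h.p10) ?_
  ac_rfl

theorem s0 : p0 ≤ p0 ⊔ p1 ⊔ p2 ⊔ p3 := by
  have _ := h
  exact le_sup_left.trans (le_sup_left.trans le_sup_left)
theorem s1 : p1 ≤ p0 ⊔ p1 ⊔ p2 ⊔ p3 := by
  have _ := h
  exact le_sup_right.trans (le_sup_left.trans le_sup_left)
theorem s2 : p2 ≤ p0 ⊔ p1 ⊔ p2 ⊔ p3 := by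
  have _ := h
  exact le_sup_right.trans le_sup_left
theorem s3 : p3 ≤ p0 ⊔ p1 ⊔ p2 ⊔ p3 := by
  have _ := h
  exact le_sup_right

/-- `Λ` and `Λ'` commute modulo `p₀ p₁ p₂ p₃` -/
theorem comm_mod : ∀ a ∈ (W3 ⊓ W0) ⊔ (W1 ⊓ W2), ∀ b ∈ (W0 ⊓ W1) ⊔ (W2 ⊓ W3),
    a * b * a⁻¹ * b⁻¹ ∈ p0 ⊔ p1 ⊔ p2 ⊔ p3 :=
  comm_sup_sup h.n3 h.n1 h.n0 h.n2 (fun a ha b hb => h.s0 (h.w0 a ha.2 b hb.1))
    (fun a ha b hb => h.s3 (h.w3 a ha.1 b hb.2)) (fun a ha b hb => h.s1 (h.w1 a ha.1 b hb.2))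
    (fun a ha b hb => h.s2 (h.w2 a ha.2 b hb.1))

/-- **the apartment closes** -/
theorem swap {m n : G} (m0 : cj m W0 = W0) (m1 : cj m W1 = W3) (m2 : cj m W2 = W2) (m3 : cj m W3 = W1)
    (q0 : cj m p0 = p0) (q1 : cj m p1 = p3) (q2 : cj m p2 = p2) (q3 : cj m p3 = p1)
    (hn : n ∈ (W3 ⊓ W0) ⊔ (W1 ⊓ W2)) (hn0 : cj n p0 = p1) :
    (n * m * n * m)⁻¹ * (m * n * m * n) ∈ ((W3 ⊓ W0) ⊔ (W1 ⊓ W2)) ⊔ (p0 ⊔ p1 ⊔ p2 ⊔ p3) ∧
      cj ((n * m * n * m)⁻¹ * (m * n * m * n)) p0 = p0 := by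
  set A := (W3 ⊓ W0) ⊔ (W1 ⊓ W2) with hA
  set A' := (W0 ⊓ W1) ⊔ (W2 ⊓ W3) with hA'
  set S := p0 ⊔ p1 ⊔ p2 ⊔ p3 with hS
  have hmA : cj m A = A' := by
    rw [hA, cj_sup, cj_inf, cj_inf, m0, m1, m2, m3, inf_comm W1 W0, inf_comm W3 W2]
  have hmA' : cj m A' = A := by
    rw [hA', cj_sup, cj_inf, cj_inf, m0, m1, m2, m3, inf_comm W0 W3, inf_comm W2 W1]
  have hmS : cj m S = S := by
    rw [hS, cj_sup, cj_sup, cj_sup, q0, q1, q2, q3]
    ac_rfl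
  have hmm : cj (m * m) A = A := by rw [cj_mul, hmA, hmA']
  have hmmS : cj (m * m) S = S := by rw [cj_mul, hmS, hmS]
  have hmm' : (m * m)⁻¹ ∈ normalizer (A : Set G) := inv_mem (cj_eq_self_iff.1 hmm)
  have hmmS' : (m * m)⁻¹ ∈ normalizer (S : Set G) := inv_mem (cj_eq_self_iff.1 hmmS)
  set n' := m * n * m⁻¹ with hn'
  have hn'A : n' ∈ A' := by rw [← hmA]; exact conj_mem_cj hn
  set s := n'⁻¹ * n⁻¹ * n' * n with hs
  have hsS : s ∈ S := by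
    have h1 := h.comm_mod n⁻¹ (inv_mem hn) n'⁻¹ (inv_mem hn'A)
    have e : s = (n⁻¹ * n'⁻¹ * n⁻¹⁻¹ * n'⁻¹⁻¹)⁻¹ := by rw [hs]; group
    rw [e]
    exact inv_mem h1
  have key : (n * m * n * m)⁻¹ * (m * n * m * n) =
      ((m * m)⁻¹ * s * (m * m)⁻¹⁻¹) * ((m * m)⁻¹ * n⁻¹ * (m * m)⁻¹⁻¹) * n := by
    rw [hs, hn']; group
  constructor
  · rw [key]
    refine mul_mem (mul_mem ?_ ?_) ((le_sup_left : A ≤ _) hn)
    · exact (le_sup_right : S ≤ _) (conj_mem_of_normalizer hmmS' hsS)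
    · exact (le_sup_left : A ≤ _) (conj_mem_of_normalizer hmm' (inv_mem hn))
  · have e : (n * m * n * m)⁻¹ * (m * n * m * n) = (m * m)⁻¹ * (s * (n⁻¹ * (m * m * n))) := by
      rw [hs, hn']; group
    have hm0 : cj (m * m) p0 = p0 := by rw [cj_mul, q0, q0]
    have hm1 : cj (m * m) p1 = p1 := by rw [cj_mul, q1, q3]
    have hs0 : cj s p0 = p0 := by
      rw [cj_eq_self_iff, mem_normalizer_iff]
      intro x
      constructor
      · intro hx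
        rw [h.comm s hsS x (h.s0 hx), mul_inv_cancel_right]
        exact hx
      · intro hx
        have h1 := h.comm s hsS _ (h.s0 hx)
        have h2 : s * x * s⁻¹ = x := by
          have h3 : s * (s * x * s⁻¹) = s * x := by rw [h1]; group
          exact mul_left_cancel h3
        rwa [h2] at hx
    have e3 : cj (n⁻¹ * (m * m * n)) p0 = p0 := by
      rw [cj_mul n⁻¹ (m * m * n), cj_mul (m * m) n, hn0, hm1, ← hn0, cj_inv_cj]
    rw [e, cj_mul (m * m)⁻¹ (s * (n⁻¹ * (m * m * n))), cj_mul s (n⁻¹ * (m * m * n)), e3, hs0]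
    rw [cj_eq_iff, inv_inv, hm0]

/-- the point opposite to `p₀` -/
theorem opp [Finite G] {l : Subgroup G} {x : G} (hx0 : cj x W0 = W1) (hxl : cj x l = l) (h3l : p3 ≤ l)
    (h2l : p2 ≤ l) (hl2 : l ≤ W3) (h03 : p0 ⊓ p3 = ⊥) (hcard : Nat.card p2 = Nat.card p3)
    (hd : ∀ v ∈ l, (∀ d ∈ W3 ⊓ W0, d * v = v * d) → v ∈ p3) : cj x p3 = p2 := by
  have h1 : l ⊓ W0 = p3 := by
    apply le_antisymm
    · rintro v ⟨hv, hv0⟩
      refine hd v hv fun d hd' => ?_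
      have h1 : d * v * d⁻¹ * v⁻¹ ∈ p0 ⊓ p3 := ⟨h.w0 d hd'.2 v hv0, h.w3 d hd'.1 v (hl2 hv)⟩
      rw [h03, mem_bot, mul_inv_eq_one, mul_inv_eq_iff_eq_mul] at h1
      exact h1
    · exact le_inf h3l h.p30
  have h2 : p2 ≤ cj x p3 := by
    rw [← h1, cj_inf, hxl, hx0]
    exact le_inf h2l h.p21
  symm
  refine eq_of_le_of_card_ge h2 ?_
  rw [card_cj, hcard]

end Apt

end Cfsg.Agent.Omega.Lie.Nodes

end

section


/-!
# NODE LIE, residues `(0, j)`: the apartment, from `m` and the opposite point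

`BT V R`; `r ∈ X` swaps `R i, R j`; `m` fixes `R i`, `m² ` fixes `V` and `R j`; `p₂ = (R k)^{r m}` is fixed by `m`.
-/

set_option autoImplicit false
set_option linter.unusedSectionVars false

namespace Cfsg.Agent.Omega.Lie.Nodes

open Subgroup Cfsg.Agent.Omega.BTwo

universe u w

variable {G : Type u} [Group G] {ι : Type w} {V : Subgroup G} {R : ι → Subgroup G} (b : BT V R) {i j : ι}

section

include b

/-- `W` of a point is well defined -/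
theorem cj_WW_uniq {g g' : G} {k k' : ι} (h : cj g (R k) = cj g' (R k')) :
    cj g (WW V (R k)) = cj g' (WW V (R k')) := by
  have h1 : cj (g'⁻¹ * g) (R k) = R k' := by rw [cj_mul, h, cj_inv_cj]
  have h2 := b.cj_WW h1
  rw [cj_mul] at h2
  rw [← h2, cj_cj_inv]

theorem WW_cj_comm {g : G} {k : ι} : ∀ x ∈ cj g (WW V (R k)), ∀ y ∈ cj g (WW V (R k)),
    x * y * x⁻¹ * y⁻¹ ∈ cj g (R k) := by
  rintro _ ⟨x, hx, rfl⟩ _ ⟨y, hy, rfl⟩
  have h := conj_mem_cj (g := g) (b.WW_comm k hx hy)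
  have e : g * (x * y * x⁻¹ * y⁻¹) * g⁻¹ =
      g * x * g⁻¹ * (g * y * g⁻¹) * (g * x * g⁻¹)⁻¹ * (g * y * g⁻¹)⁻¹ := by group
  rw [e] at h
  exact h

theorem R_le_WW (k l : ι) : R k ≤ WW V (R l) := (b.R_le k).trans (V_le_WW V (R l))

theorem cj_DD {g : G} (hg : g ∈ normalizer (V : Set G)) : cj g (DD V R) = DD V R :=
  cj_eq_self_iff.2 (b.NV_le_ND hg)

end

/-- the data of an apartment -/
structure AptData (V : Subgroup G) (R : ι → Subgroup G) (i j k : ι) (r m : G) (S : Subgroup G) : Prop where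
  ne : i ≠ j
  r_mem : r ∈ XX V R
  ri : cj r (R i) = R j
  rj : cj r (R j) = R i
  mi : cj m (R i) = R i
  mV : cj m (cj m V) = V
  mj : cj m (cj m (R j)) = R j
  ki : k ≠ i
  m2 : cj m (cj (r * m) (R k)) = cj (r * m) (R k)
  comm : ∀ x ∈ S, ∀ y ∈ S, x * y = y * x
  VS : V ≤ S
  VS' : cj m V ≤ S
  pS : cj (r * m) (R k) ≤ S
  /-- `D` is transitive on the points `≠ R i` of the line `V^m` -/
  tr : ∀ l, l ≠ i → ∃ d ∈ DD V R, cj d (cj m (R j)) = cj m (R l)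
  fix : ∀ x ∈ cj m V, (∀ d ∈ DD V R, d * x = x * d) → x ∈ R i

namespace AptData

variable {k : ι} {r m : G} {S : Subgroup G} (a : AptData V R i j k r m S)
include a b

theorem rm : cj (r * m) (R i) = R j := by
  have _ := b
  rw [cj_mul, a.mi, a.ri]

theorem mWi : cj m (WW V (R i)) = WW V (R i) := b.cj_WW a.mi

theorem l1 : cj (r * m) V ≤ WW V (R j) := by
  rw [← b.cj_WW a.ri, cj_mul]
  apply cj_mono
  rw [← a.mWi b]
  exact cj_mono (V_le_WW V (R i))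

theorem l1' : cj (r * m) V ≤ cj (r * m) (WW V (R k)) := by
  have _ := b
  exact cj_mono (V_le_WW V (R k))

theorem m2W : cj m (cj (r * m) (WW V (R k))) = cj (r * m) (WW V (R k)) := by
  have h1 : cj (m * (r * m)) (R k) = cj (r * m) (R k) := by rw [cj_mul, a.m2]
  have h2 := cj_WW_uniq b h1
  rwa [cj_mul] at h2

theorem mWj : cj m (cj m (WW V (R j))) = WW V (R j) := by
  have h1 : cj (m * m) (R j) = R j := by rw [cj_mul, a.mj]
  have h2 := b.cj_WW h1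
  rwa [cj_mul] at h2

theorem apt : Apt (R i) (R j) (cj (r * m) (R k)) (cj m (R j)) (WW V (R i)) (WW V (R j))
    (cj (r * m) (WW V (R k))) (cj m (WW V (R j))) where
  w0 := fun _ hx _ hy => b.WW_comm i hx hy
  w1 := fun _ hx _ hy => b.WW_comm j hx hy
  w2 := WW_cj_comm b
  w3 := WW_cj_comm b
  p00 := R_le_WW b i i
  p01 := R_le_WW b i j
  p03 := by
    conv_lhs => rw [← a.mi]
    exact cj_mono (R_le_WW b i j)
  p11 := R_le_WW b j j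
  p10 := R_le_WW b j i
  p12 := by
    rw [← a.rm b]
    exact cj_mono (R_le_WW b i k)
  p22 := cj_mono (R_le_WW b k k)
  p21 := (cj_mono (b.R_le k)).trans (a.l1 b)
  p23 := by
    conv_lhs => rw [← a.m2]
    exact cj_mono ((cj_mono (b.R_le k)).trans (a.l1 b))
  p33 := cj_mono (R_le_WW b j j)
  p32 := by
    conv_rhs => rw [← a.m2W b]
    apply cj_mono
    rw [← a.rm b]
    exact cj_mono (R_le_WW b i k)
  p30 := by
    rw [← a.mWi b]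
    exact cj_mono (R_le_WW b j i)
  comm := by
    have h1 : R i ⊔ R j ⊔ cj (r * m) (R k) ⊔ cj m (R j) ≤ S :=
      sup_le (sup_le (sup_le ((b.R_le i).trans a.VS) ((b.R_le j).trans a.VS)) a.pS)
        ((cj_mono (b.R_le j)).trans a.VS')
    exact fun x hx y hy => a.comm x (h1 hx) y (h1 hy)

theorem mmV : m * m ∈ normalizer (V : Set G) := by
  have _ := b
  rw [← cj_eq_self_iff, cj_mul, a.mV]

/-- `D₃ = D^m` -/
theorem D3 : cj m (WW V (R j)) ⊓ WW V (R i) = cj m (DD V R) := by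
  rw [b.D_eq' a.ne.symm, cj_inf, a.mWi b]

/-- `D₁ = D^{r m}` -/
theorem D1 : WW V (R j) ⊓ cj (r * m) (WW V (R k)) = cj (r * m) (DD V R) := by
  rw [b.D_eq' a.ki.symm, cj_inf]
  congr 1
  rw [cj_mul, a.mWi b, b.cj_WW a.ri]

/-- `D₃` is transitive on the points `≠ R i` of `V` -/
theorem tr3 {l : ι} (hl : l ≠ i) : ∃ d ∈ cj m (DD V R), cj d (R j) = R l := by
  obtain ⟨l', hl'⟩ := b.perm_inv (a.mmV b) l
  have hne : l' ≠ i := by
    rintro rfl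
    rw [cj_mul, a.mi, a.mi] at hl'
    exact hl (b.R_index hl').symm
  obtain ⟨d, hd, e⟩ := a.tr l' hne
  refine ⟨m * d * m⁻¹, conj_mem_cj hd, ?_⟩
  conv_lhs => rw [← a.mj]
  rw [cj_mul, cj_mul, cj_inv_cj, e, ← cj_mul, hl']

/-- `D₁` is transitive on the points `≠ R j` of `V` -/
theorem tr1 {l : ι} (hl : l ≠ j) : ∃ d ∈ cj (r * m) (DD V R), cj d (R i) = R l := by
  obtain ⟨l', hl'⟩ := b.perm_inv (b.X_le_NV a.r_mem) l
  have hne : l' ≠ i := by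
    rintro rfl
    rw [a.ri] at hl'
    exact hl (b.R_index hl').symm
  obtain ⟨d, hd, e⟩ := a.tr3 b hne
  refine ⟨r * d * r⁻¹, ?_, ?_⟩
  · rw [cj_mul]
    exact conj_mem_cj hd
  · conv_lhs => rw [← a.rj]
    rw [cj_mul, cj_mul, cj_inv_cj, e, hl']

/-- **the apartment** -/
theorem exists_n [Finite G] : ∃ n ∈ XX V R, cj n (R i) = R j ∧
    (n * m * n * m)⁻¹ * (m * n * m * n) ∈ XX V R ∧
    cj ((n * m * n * m)⁻¹ * (m * n * m * n)) (R i) = R i ∧ cj (n * m * n) (R i) = cj (r * m) (R k) := by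
  obtain ⟨l, hl1, hl2⟩ := b.third i j
  obtain ⟨d3, hd3, e3⟩ := a.tr3 b hl1
  obtain ⟨d1, hd1, e1⟩ := a.tr1 b hl2
  have hap := a.apt b
  set n := d3⁻¹ * d1 with hn
  have hn0 : cj n (R i) = R j := by rw [hn, cj_mul, e1, ← e3, cj_inv_cj]
  have hnm : n ∈ (cj m (WW V (R j)) ⊓ WW V (R i)) ⊔ (WW V (R j) ⊓ cj (r * m) (WW V (R k))) := by
    rw [a.D3 b, a.D1 b]
    exact mul_mem ((le_sup_left : cj m (DD V R) ≤ _) (inv_mem hd3)) ((le_sup_right : cj (r * m) (DD V R) ≤ _) hd1)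
  have hle : (cj m (WW V (R j)) ⊓ WW V (R i)) ⊔ (WW V (R j) ⊓ cj (r * m) (WW V (R k))) ≤ XX V R :=
    sup_le (inf_le_right.trans (W_le_X V R i)) (inf_le_left.trans (W_le_X V R j))
  have hle2 : R i ⊔ R j ⊔ cj (r * m) (R k) ⊔ cj m (R j) ≤ XX V R :=
    sup_le (sup_le (sup_le (hap.p00.trans (W_le_X V R i)) (hap.p10.trans (W_le_X V R i)))
      (hap.p21.trans (W_le_X V R j))) (hap.p30.trans (W_le_X V R i))
  have hsw := hap.swap (a.mWi b) rfl (a.m2W b) (a.mWj b) a.mi rfl a.m2 a.mj hnm hn0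
  refine ⟨n, hle hnm, hn0, (sup_le hle hle2) hsw.1, hsw.2, ?_⟩
  -- the opposite point
  have h2V : cj m (cj (r * m) V) ≤ cj m (WW V (R j)) := cj_mono (a.l1 b)
  have h2V' : cj m (cj (r * m) V) ≤ cj (r * m) (WW V (R k)) := by
    rw [← a.m2W b]
    exact cj_mono (a.l1' b)
  have h3l : cj m (R j) ≤ cj m (cj (r * m) V) := by
    apply cj_mono
    rw [← a.rm b]
    exact cj_mono (b.R_le i)
  have h2l : cj (r * m) (R k) ≤ cj m (cj (r * m) V) := by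
    conv_lhs => rw [← a.m2]
    exact cj_mono (cj_mono (b.R_le k))
  have hstab : ∀ {W p l : Subgroup G}, (∀ x ∈ W, ∀ y ∈ W, x * y * x⁻¹ * y⁻¹ ∈ p) → p ≤ l → l ≤ W →
      W ≤ normalizer (l : Set G) := by
    intro W p l h1 h2 h3
    refine le_normalizer_of' fun x hx y hy => ?_
    have h4 := mul_mem (h2 (h1 x hx y (h3 hy))) hy
    rwa [inv_mul_cancel_right] at h4
  have hxl : cj n (cj m (cj (r * m) V)) = cj m (cj (r * m) V) := by
    rw [cj_eq_self_iff]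
    exact sup_le (inf_le_left.trans (hstab hap.w3 h3l h2V)) (inf_le_right.trans (hstab hap.w2 h2l h2V')) hnm
  have hcard : ∀ k l : ι, Nat.card (R k) = Nat.card (R l) := by
    intro k l
    obtain ⟨x, -, e⟩ := b.trans_X_one k l
    rw [← e, card_cj]
  have h03 : R i ⊓ cj m (R j) = ⊥ := by
    conv_lhs => rw [← a.mi]
    rw [← cj_inf, b.R_inf i j a.ne, cj_bot]
  have hop := hap.opp (x := n) (l := cj m (cj (r * m) V)) (b.cj_WW hn0) hxl h3l h2l h2V h03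
    (by rw [card_cj, card_cj, hcard]) (by
      intro v hv hc
      rw [a.D3 b] at hc
      -- conjugate by `m⁻¹`, then by `r⁻¹`
      rw [mem_cj]
      have hv1 : m⁻¹ * v * m ∈ cj (r * m) V := mem_cj.1 hv
      have hv2 : r⁻¹ * (m⁻¹ * v * m) * r ∈ cj m V := by
        rw [cj_mul] at hv1
        exact mem_cj.1 hv1
      have h1 := a.fix _ hv2 fun d hd => by
        have hd' : r * d * r⁻¹ ∈ DD V R := conj_mem_of_normalizer (b.NV_le_ND (b.X_le_NV a.r_mem)) hd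
        have h2 := hc _ (conj_mem_cj (g := m) hd')
        calc d * (r⁻¹ * (m⁻¹ * v * m) * r) = r⁻¹ * m⁻¹ * (m * (r * d * r⁻¹) * m⁻¹ * v) * m * r := by group
          _ = r⁻¹ * m⁻¹ * (v * (m * (r * d * r⁻¹) * m⁻¹)) * m * r := by rw [h2]
          _ = r⁻¹ * (m⁻¹ * v * m) * r * d := by group
      have h3 := conj_mem_cj (g := r) h1
      rw [a.ri] at h3
      rwa [show r * (r⁻¹ * (m⁻¹ * v * m) * r) * r⁻¹ = m⁻¹ * v * m by group] at h3)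
  rw [cj_mul, cj_mul, hn0, hop]

end AptData

end Cfsg.Agent.Omega.Lie.Nodes

end

section


/-!
# NODE LIE, residues `(0, j)`: the element `τ₁` of odd order, trivial on the node

`Diag`: elements acting diagonally on `N_k`.  `NodeDat`: the data of a node of type `x = n k`.
-/

set_option autoImplicit false
set_option linter.unusedSectionVars false

namespace Cfsg.Agent.Omega.Lie.Nodes

open Subgroup Cfsg.Agent.Omega.BTwo

universe u v w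

/-! ### groups -/

section grp

variable {G : Type u} [Group G]

theorem mem_cmod {S B : Subgroup G} {x : G} : x ∈ cmod S B ↔ x ∈ normalizer (S : Set G) ∧
    ∀ b ∈ B, x * b * x⁻¹ * b⁻¹ ∈ S := Iff.rfl

theorem norm_cmod {S B : Subgroup G} {g : G} (hS : g ∈ normalizer (S : Set G)) (hB : g ∈ normalizer (B : Set G)) :
    g ∈ normalizer (cmod S B : Set G) := by
  have key : ∀ g : G, g ∈ normalizer (S : Set G) → g ∈ normalizer (B : Set G) → ∀ x ∈ cmod S B,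
      g * x * g⁻¹ ∈ cmod S B := by
    intro g hS hB x hx
    refine ⟨mul_mem (mul_mem hS hx.1) (inv_mem hS), fun b hb => ?_⟩
    have h1 := conj_mem_of_normalizer hS (hx.2 _ (conj_inv_mem_of_normalizer hB hb))
    have e : g * (x * (g⁻¹ * b * g) * x⁻¹ * (g⁻¹ * b * g)⁻¹) * g⁻¹ =
        g * x * g⁻¹ * b * (g * x * g⁻¹)⁻¹ * b⁻¹ := by group
    rwa [e] at h1
  rw [mem_normalizer_iff]
  intro x
  refine ⟨key g hS hB x, fun hx => ?_⟩
  have h1 := key g⁻¹ (inv_mem hS) (inv_mem hB) _ hx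
  rwa [inv_inv, show g⁻¹ * (g * x * g⁻¹) * g = x by group] at h1

theorem norm_inf {A B : Subgroup G} {g : G} (hA : g ∈ normalizer (A : Set G)) (hB : g ∈ normalizer (B : Set G)) :
    g ∈ normalizer ((A ⊓ B : Subgroup G) : Set G) := by
  rw [← cj_eq_self_iff, cj_inf, cj_eq_self_iff.2 hA, cj_eq_self_iff.2 hB]

/-- `x` acts on `T / S` as `x₀` -/
structure Qm (S T : Subgroup G) (x x0 : G) : Prop where
  nS : x ∈ normalizer (S : Set G)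
  nT : x0 ∈ normalizer (T : Set G)
  eq : ∀ w ∈ T, x * w * x⁻¹ * (x0 * w * x0⁻¹)⁻¹ ∈ S

theorem Qm.mul {S T : Subgroup G} {x x0 z z0 : G} (h : Qm S T x x0) (h' : Qm S T z z0) :
    Qm S T (x * z) (x0 * z0) where
  nS := mul_mem h.nS h'.nS
  nT := mul_mem h.nT h'.nT
  eq := fun w hw => by
    have h1 := conj_mem_of_normalizer h.nS (h'.eq w hw)
    have h2 := h.eq _ (conj_mem_of_normalizer h'.nT hw)
    have e : x * z * w * (x * z)⁻¹ * (x0 * z0 * w * (x0 * z0)⁻¹)⁻¹ =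
        (x * (z * w * z⁻¹ * (z0 * w * z0⁻¹)⁻¹) * x⁻¹) *
          (x * (z0 * w * z0⁻¹) * x⁻¹ * (x0 * (z0 * w * z0⁻¹) * x0⁻¹)⁻¹) := by group
    rw [e]
    exact mul_mem h1 h2

theorem Qm.self {S T : Subgroup G} {x : G} (hS : x ∈ normalizer (S : Set G)) (hT : x ∈ normalizer (T : Set G)) :
    Qm S T x x where
  nS := hS
  nT := hT
  eq := fun w _ => by rw [mul_inv_cancel]; exact one_mem _

theorem Qm.one {S T : Subgroup G} {x : G} (hS : x ∈ normalizer (S : Set G))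
    (h : ∀ w ∈ T, x * w * x⁻¹ * w⁻¹ ∈ S) : Qm S T x 1 where
  nS := hS
  nT := one_mem _
  eq := fun w hw => by
    rw [one_mul, inv_one, mul_one]
    exact h w hw

end grp

variable {G : Type u} [Group G] {ι : Type w} {V : Subgroup G} {R : ι → Subgroup G} {i j : ι} {F : Type v}
  [Field F] {v : F → F → G} {w1 w2 : F → G} {M B : Type u} [AddCommGroup M] [AddCommGroup B]
  [DistribMulAction (NR R i) M] [DistribMulAction (NR R i) B] [Module F M] {p : G → M} {r : G → B}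
  {f : M →+ M →+ B} {φ : M →ₗ[F] M →ₗ[F] F} {s : NR R i → (F ≃+* F)} [CharP F 2]
  [Finite G] [Finite F] {h : FMod V R i j v w1 w2 M B p r f φ s} {t : F → G} {τ : Lie.TorD V R i j v t}
  {N : Type u} [AddCommGroup N] [Module F N] {P1 P2 : G → N} {y : YPair V R i j w1 w2 N P1 P2}
  {n : N →ₗ[F] M} {sf : N →ₗ[F] N →ₗ[F] M} {q : N → N →ₗ[F] F}

/-! ### diagonal elements -/

/-- `x` acts diagonally on `N_k` -/
structure Diag (v : F → F → G) (p : G → M) (n : N →ₗ[F] M) (sf : N →ₗ[F] N →ₗ[F] M) (k : N) (x : NR R i)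
    (c ρ : F) : Prop where
  lin : ∀ (l : F) (m : M), x • (l • m) = l • (x • m)
  e : x • p (v 0 1) = c • p (v 0 1)
  z : ∀ d ∈ ZK sf k, x • d = d
  n : x • n k = ρ • n k

namespace Diag

variable {k : N}

theorem mul {x x' : NR R i} {c c' ρ ρ' : F} (a : Diag v p n sf k x c ρ) (a' : Diag v p n sf k x' c' ρ') :
    Diag v p n sf k (x * x') (c * c') (ρ * ρ') where
  lin := fun l m => by rw [mul_smul, mul_smul, a'.lin, a.lin]
  e := by rw [mul_smul, a'.e, a.lin, a.e, smul_smul, mul_comm]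
  z := fun d hd => by rw [mul_smul, a'.z d hd, a.z d hd]
  n := by rw [mul_smul, a'.n, a.lin, a.n, smul_smul, mul_comm]

theorem inv {x : NR R i} {c ρ : F} (a : Diag v p n sf k x c ρ) (hc : c ≠ 0) (hρ : ρ ≠ 0) :
    Diag v p n sf k x⁻¹ c⁻¹ ρ⁻¹ := by
  have hl : ∀ (l : F) (m : M), x⁻¹ • (l • m) = l • (x⁻¹ • m) := by
    intro l m
    rw [inv_smul_eq_iff, a.lin, smul_inv_smul]
  refine ⟨hl, ?_, fun d hd => ?_, ?_⟩
  · rw [inv_smul_eq_iff, a.lin, a.e, smul_smul, inv_mul_cancel₀ hc, one_smul]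
  · rw [inv_smul_eq_iff, a.z d hd]
  · rw [inv_smul_eq_iff, a.lin, a.n, smul_smul, inv_mul_cancel₀ hρ, one_smul]

theorem act {x : NR R i} (a : Diag v p n sf k x 1 1) {m : M} (hm : m ∈ NK p v n sf k) : x • m = m := by
  obtain ⟨c, z, hz, ρ, rfl⟩ := mem_NK.1 hm
  rw [smul_add, smul_add, a.lin, a.lin, a.e, a.z z hz, a.n, one_smul, one_smul]

end Diag

theorem mem_SG_iff (g : Eig h τ y n sf q) {k : N} {x : G} :
    x ∈ (gfr_of g).SG k ↔ x ∈ WW V (R i) ∧ p x ∈ NK p v n sf k := Iff.rfl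

/-- `x ∈ cmod (R i) (SG k)` iff `x` is trivial on `N_k` -/
theorem mem_cmod_iff (g : Eig h τ y n sf q) {k : N} {x : NR R i} :
    (x : G) ∈ cmod (R i) ((gfr_of g).SG k) ↔ ∀ m ∈ NK p v n sf k, x • m = m := by
  have hW : ∀ w ∈ WW V (R i), (x : G) * w * (x : G)⁻¹ ∈ WW V (R i) := fun w hw =>
    conj_mem_of_normalizer (normalizer_le_WW V (R i) x.2) hw
  constructor
  · rintro ⟨-, hx⟩ m hm
    obtain ⟨w, hw, rfl⟩ := h.fr.p_surj m
    rw [h.fr.p_act x w hw]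
    exact (h.fr.p_eq_iff (hW w hw) hw).2 (hx w ⟨hw, hm⟩)
  · intro hx
    refine ⟨x.2, fun w hw => ?_⟩
    have h1 := hx _ hw.2
    rw [h.fr.p_act x w hw.1] at h1
    exact (h.fr.p_eq_iff (hW w hw.1) hw.1).1 h1

theorem norm_SG (g : Eig h τ y n sf q) {k : N} {x : NR R i}
    (hx : ∀ m ∈ NK p v n sf k, x • m ∈ NK p v n sf k) : (x : G) ∈ normalizer ((gfr_of g).SG k : Set G) := by
  apply mem_normalizer_of_conj
  intro w hw
  refine ⟨conj_mem_of_normalizer (normalizer_le_WW V (R i) x.2) hw.1, ?_⟩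
  show p ((x : G) * w * (x : G)⁻¹) ∈ _
  rw [← h.fr.p_act x w hw.1]
  exact hx _ hw.2

theorem Diag.pres {k : N} {x : NR R i} {c ρ : F} (a : Diag v p n sf k x c ρ) {m : M}
    (hm : m ∈ NK p v n sf k) : x • m ∈ NK p v n sf k := by
  obtain ⟨c', z, hz, ρ', rfl⟩ := mem_NK.1 hm
  rw [smul_add, smul_add, a.lin, a.lin, a.e, a.z z hz, a.n, smul_smul, smul_smul]
  exact mem_NK.2 ⟨_, z, hz, _, rfl⟩

theorem diag_t (g : Eig h τ y n sf q) (k : N) (a : Fˣ) : Diag v p n sf k (tT τ a) (a : F)⁻¹ a where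
  lin := h.T_lin τ a
  e := h.T_e τ a
  z := fun _ hd => ZK_le g hd a
  n := g.n_mem k a

theorem SwapM.diag {k : N} {m : NR R i} {β γ : F} (sw : SwapM h n sf k m β γ) (g : Eig h τ y n sf q)
    (hk : k ≠ 0) (a : Fˣ) : Diag v p n sf k (m * tT τ a * m⁻¹) a (a : F)⁻¹ where
  lin := fun l x => by
    rw [mul_smul, mul_smul, mul_smul, mul_smul, act_smul h sw.cen', h.T_lin τ, act_smul h sw.cen]
  e := sw.conj_e g a
  z := fun _ hd => sw.conj_Z g hk a hd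
  n := sw.conj_n g a

/-! ### the node data -/

/-- the data of a node of type `x = n k`; `O` is a normal 2-subgroup of `P` with `[P, c] ≤ O` for `[P, c] ≤ C(N_k)` -/
structure NodeDat (g : Eig h τ y n sf q) (k : N) (P O : Subgroup G) : Prop where
  k0 : k ≠ 0
  PR : P ≤ centralizer (R i : Set G)
  PN : ∀ x : NR R i, (x : G) ∈ P → ∀ m ∈ NK p v n sf k, x • m ∈ NK p v n sf k
  PT : ∀ a : F, a ≠ 0 → t a ∈ normalizer (P : Set G)
  OP : O ≤ P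
  OK : O ≤ cmod (R i) ((gfr_of g).SG k)
  PO : P ≤ normalizer (O : Set G)
  OT : ∀ a : F, a ≠ 0 → t a ∈ normalizer (O : Set G)
  two : IsPGroup 2 O
  perf : P ≤ ⁅P, P⁆ ⊔ O
  lift : ∀ c : G, c ∈ normalizer (P : Set G) → c ∈ normalizer (O : Set G) →
    (∀ x ∈ P, c * x * c⁻¹ * x⁻¹ ∈ cmod (R i) ((gfr_of g).SG k)) → ∀ x ∈ P, c * x * c⁻¹ * x⁻¹ ∈ O
  XS : XX V R ≤ normalizer (((gfr_of g).SG k ⊔ cj (nn w1 w2 1) ((gfr_of g).SG k) : Subgroup G) : Set G)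
  PS : P ≤ normalizer (((gfr_of g).SG k ⊔ cj (nn w1 w2 1) ((gfr_of g).SG k) : Subgroup G) : Set G)
  com : ∀ x ∈ (gfr_of g).SG k ⊔ cj (nn w1 w2 1) ((gfr_of g).SG k),
    ∀ z ∈ (gfr_of g).SG k ⊔ cj (nn w1 w2 1) ((gfr_of g).SG k), x * z = z * x
  low : ∀ x ∈ P, ∀ z ∈ cj (nn w1 w2 1) ((gfr_of g).SG k), x * z * x⁻¹ * z⁻¹ ∈ WW V (R i)

section sg

variable (g : Eig h τ y n sf q) (k : N)

/-- `D ⊓ SG k = DZ k` -/
theorem DD_inf_SG {x : G} (hx : x ∈ DD V R) (hS : x ∈ (gfr_of g).SG k) (hk : k ≠ 0) : x ∈ (gfr_of g).DZ k := by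
  refine ⟨hS.1, ?_⟩
  obtain ⟨c, z, hz, ρ, e⟩ := mem_NK.1 hS.2
  have h1 : p x ∈ h.fr.sb (DD V R) := h.fr.p_mem hS.1 hx
  obtain ⟨γ, d, hd, e'⟩ := (g.mem_D _).1 h1
  have h2 : (c - γ) • p (v 0 1) + (z - d) + n (ρ • k) = 0 := by
    rw [sub_smul, map_smul]
    have : c • p (v 0 1) - γ • p (v 0 1) + (z - d) + ρ • n k =
      (c • p (v 0 1) + z + ρ • n k) - (γ • p (v 0 1) + d) := by abel
    rw [this, ← e, ← e', sub_self]
  obtain ⟨-, -, h3⟩ := g.indep _ _ _ ((h.M0 τ).sub_mem (ZK_le g hz) hd) h2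
  have h4 : ρ = 0 := (smul_eq_zero.1 h3).resolve_right hk
  show p x ∈ eZ F (p (v 0 1)) (fun a b => sf a b) k
  rw [e, h4, zero_smul, add_zero]
  exact mem_eZ.2 ⟨c, z, hz, rfl⟩

theorem X_DZ : XX V R ≤ normalizer ((gfr_of g).DZ k : Set G) := (gfr_of g).X_norm_DZ h.bt h.co.mem_V y k

/-- `cj n (SG k) ≤ W j` -/
theorem cj_SG_le {x : G} (hx : cj x (R i) = R j) : cj x ((gfr_of g).SG k) ≤ WW V (R j) := by
  rw [← h.bt.cj_WW hx]
  exact cj_mono ((gfr_of g).SG_le_W k)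

/-- `Σ ⊓ W i ≤ SG k` -/
theorem sigma_inf (hk : k ≠ 0) {x : G} (hx : x ∈ (gfr_of g).SG k ⊔ cj (nn w1 w2 1) ((gfr_of g).SG k))
    (hxW : x ∈ WW V (R i)) (hc : ∀ x ∈ (gfr_of g).SG k, ∀ z ∈ cj (nn w1 w2 1) ((gfr_of g).SG k), x * z = z * x) :
    x ∈ (gfr_of g).SG k := by
  have hn : cj (nn w1 w2 1) ((gfr_of g).SG k) ≤ normalizer ((gfr_of g).SG k : Set G) := by
    refine le_normalizer_of' fun a ha b hb => ?_
    rw [← hc b hb a ha, mul_inv_cancel_right]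
    exact hb
  have h1 : x ∈ (((gfr_of g).SG k ⊔ cj (nn w1 w2 1) ((gfr_of g).SG k) : Subgroup G) : Set G) := hx
  rw [coe_mul_of_right_le_normalizer_left _ _ hn] at h1
  obtain ⟨a, ha, c, hc', e⟩ := h1
  have e' : a * c = x := e
  have hcD : c ∈ DD V R := by
    rw [h.bt.D_eq' h.co.ne]
    refine ⟨?_, cj_SG_le g k (h.co.nn_R1 h.bt one_ne_zero) hc'⟩
    have : c = a⁻¹ * x := by rw [← e']; group
    rw [this]
    exact (WW V (R i)).mul_mem ((WW V (R i)).inv_mem ha.1) hxW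
  have h2 : c ∈ (gfr_of g).DZ k := by
    have h3 := mem_cj.1 hc'
    have hX := h.co.nn_mem_X h.bt 1
    have h4 : (nn w1 w2 1)⁻¹ * c * nn w1 w2 1 ∈ DD V R :=
      conj_inv_mem_of_normalizer (h.bt.NV_le_ND (h.bt.X_le_NV hX)) hcD
    have h5 := conj_mem_of_normalizer (X_DZ g k hX) (DD_inf_SG g k h4 h3 hk)
    rwa [show nn w1 w2 1 * ((nn w1 w2 1)⁻¹ * c * nn w1 w2 1) * (nn w1 w2 1)⁻¹ = c by group] at h5
  rw [← e']
  exact mul_mem ha ((gfr_of g).DZ_le_SG k h2)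

end sg

namespace NodeDat

variable {g : Eig h τ y n sf q} {k : N} {P O : Subgroup G} (d : NodeDat g k P O)
include d

theorem PNR : P ≤ normalizer (R i : Set G) := d.PR.trans (centralizer_le_normalizer _)

theorem PSG : P ≤ normalizer ((gfr_of g).SG k : Set G) := fun x hx =>
  norm_SG g (x := ⟨x, d.PNR hx⟩) (d.PN ⟨x, d.PNR hx⟩ hx)

/-- `[X, P]` is trivial on `N_k` if `X` is -/
theorem diag_comm {X : NR R i} (dX : Diag v p n sf k X 1 1) {u : G} (hu : u ∈ P) :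
    (X : G) * u * (X : G)⁻¹ * u⁻¹ ∈ cmod (R i) ((gfr_of g).SG k) := by
  have h1 : ((X * ⟨u, d.PNR hu⟩ * X⁻¹ * (⟨u, d.PNR hu⟩ : NR R i)⁻¹ : NR R i) : G) ∈
      cmod (R i) ((gfr_of g).SG k) := by
    refine (mem_cmod_iff g (k := k)).2 fun m' hm' => ?_
    have h2 : (⟨u, d.PNR hu⟩ : NR R i)⁻¹ • m' ∈ NK p v n sf k := d.PN _ (inv_mem hu) m' hm'
    have h3 : X⁻¹ • ((⟨u, d.PNR hu⟩ : NR R i)⁻¹ • m') = (⟨u, d.PNR hu⟩ : NR R i)⁻¹ • m' := by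
      rw [inv_smul_eq_iff]
      exact (dX.act h2).symm
    rw [mul_smul, mul_smul, mul_smul, h3, smul_inv_smul]
    exact dX.act hm'
  exact h1

/-- `P` is trivial on `Σ / SG k` -/
theorem triv {x : G} (hx : x ∈ P) {z : G}
    (hz : z ∈ (gfr_of g).SG k ⊔ cj (nn w1 w2 1) ((gfr_of g).SG k)) : x * z * x⁻¹ * z⁻¹ ∈ (gfr_of g).SG k := by
  set S := (gfr_of g).SG k with hS
  set T := S ⊔ cj (nn w1 w2 1) S with hT
  have hST : S ≤ T := le_sup_left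
  have hx1 : x ∈ normalizer (S : Set G) := d.PSG hx
  have hx2 : x ∈ normalizer (T : Set G) := d.PS hx
  -- elements with the property
  let H : Subgroup G :=
    { carrier := {z | z ∈ T ∧ x * z * x⁻¹ * z⁻¹ ∈ S}
      one_mem' := ⟨one_mem _, by
        rw [mul_one, mul_inv_cancel, one_mul, inv_one]; exact one_mem _⟩
      mul_mem' := by
        rintro a b ⟨ha, ha'⟩ ⟨hb, hb'⟩
        refine ⟨mul_mem ha hb, ?_⟩
        have hxa := conj_mem_of_normalizer hx2 ha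
        have e : x * (a * b) * x⁻¹ * (a * b)⁻¹ = (x * a * x⁻¹) * (x * b * x⁻¹ * b⁻¹) * a⁻¹ := by group
        rw [e, d.com _ hxa _ (hST hb'), mul_assoc]
        exact mul_mem hb' ha'
      inv_mem' := by
        rintro a ⟨ha, ha'⟩
        refine ⟨inv_mem ha, ?_⟩
        have hxa := conj_mem_of_normalizer hx2 ha
        have e : x * a⁻¹ * x⁻¹ * a⁻¹⁻¹ = (x * a * x⁻¹)⁻¹ * a := by group
        have e2 : x * a * x⁻¹ * a⁻¹ = a⁻¹ * (x * a * x⁻¹) := d.com _ hxa _ (inv_mem ha)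
        rw [e]
        have h1 := inv_mem ha'
        rw [e2, mul_inv_rev, inv_inv] at h1
        exact h1 }
  have hH : T ≤ H := by
    refine sup_le (fun a ha => ⟨hST ha, mul_mem (conj_mem_of_normalizer hx1 ha) (inv_mem ha)⟩) fun a ha => ?_
    have haT : a ∈ T := (le_sup_right : cj (nn w1 w2 1) S ≤ T) ha
    refine ⟨haT, ?_⟩
    exact sigma_inf g k d.k0 (mul_mem (conj_mem_of_normalizer hx2 haT) (inv_mem haT)) (d.low x hx a ha)
      fun a ha b hb => d.com a (hST ha) b ((le_sup_right : cj (nn w1 w2 1) S ≤ T) hb)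
  exact (hH hz).2

end NodeDat

end Cfsg.Agent.Omega.Lie.Nodes

end

section


/-!
# NODE LIE, residues `(0, j)`: existence of `τ₁`

`τ₁ = z · z^{m₀} κ`: odd order, commutes with the torus element `z = t a`, trivial on `N_k`, scalar `a²` on `R i`,
trivial on `P / K`, acts as `z²` on `Σ / SG k`.
-/

set_option autoImplicit false
set_option linter.unusedSectionVars false

namespace Cfsg.Agent.Omega.Lie.Nodes

open Subgroup Cfsg.Agent.Omega.BTwo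

universe u v w

variable {G : Type u} [Group G] {ι : Type w} {V : Subgroup G} {R : ι → Subgroup G} {i j : ι} {F : Type v}
  [Field F] {v : F → F → G} {w1 w2 : F → G} {M B : Type u} [AddCommGroup M] [AddCommGroup B]
  [DistribMulAction (NR R i) M] [DistribMulAction (NR R i) B] [Module F M] {p : G → M} {r : G → B}
  {f : M →+ M →+ B} {φ : M →ₗ[F] M →ₗ[F] F} {s : NR R i → (F ≃+* F)} [CharP F 2]
  [Finite G] [Finite F] {h : FMod V R i j v w1 w2 M B p r f φ s} {t : F → G} {τ : Lie.TorD V R i j v t}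
  {N : Type u} [AddCommGroup N] [Module F N] {P1 P2 : G → N} {y : YPair V R i j w1 w2 N P1 P2}
  {n : N →ₗ[F] M} {sf : N →ₗ[F] N →ₗ[F] M} {q : N → N →ₗ[F] F}

/-- `Σ` -/
noncomputable abbrev Sig (g : Eig h τ y n sf q) (k : N) : Subgroup G :=
  (gfr_of g).SG k ⊔ cj (nn w1 w2 1) ((gfr_of g).SG k)

/-- `z` of odd order commutes with `w` modulo `O` if `z²` does -/
theorem comm_mod_of_sq {O : Subgroup G} {z w : G} (hz : z ∈ normalizer (O : Set G)) (ho : Odd (orderOf z))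
    (hc : (z * z) * w * (z * z)⁻¹ * w⁻¹ ∈ O) : z * w * z⁻¹ * w⁻¹ ∈ O := by
  let H : Subgroup G :=
    { carrier := {a | a ∈ normalizer (O : Set G) ∧ a * w * a⁻¹ * w⁻¹ ∈ O}
      one_mem' := ⟨one_mem _, by rw [one_mul, inv_one, mul_one, mul_inv_cancel]; exact one_mem _⟩
      mul_mem' := by
        rintro a a' ⟨h1, h2⟩ ⟨h3, h4⟩
        refine ⟨mul_mem h1 h3, ?_⟩
        have e : a * a' * w * (a * a')⁻¹ * w⁻¹ = (a * (a' * w * a'⁻¹ * w⁻¹) * a⁻¹) * (a * w * a⁻¹ * w⁻¹) := by group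
        rw [e]
        exact mul_mem (conj_mem_of_normalizer h1 h4) h2
      inv_mem' := by
        rintro a ⟨h1, h2⟩
        refine ⟨inv_mem h1, ?_⟩
        have e : a⁻¹ * w * a⁻¹⁻¹ * w⁻¹ = a⁻¹ * (a * w * a⁻¹ * w⁻¹)⁻¹ * a := by group
        rw [e]
        exact conj_inv_mem_of_normalizer h1 (inv_mem h2) }
  have h1 : z * z ∈ H := ⟨mul_mem hz hz, hc⟩
  obtain ⟨m, hm⟩ := ho
  have h2 : (z * z) ^ (m + 1) = z := by
    rw [← sq, ← pow_mul, show 2 * (m + 1) = (2 * m + 1) + 1 by ring, ← hm, pow_succ, pow_orderOf_eq_one, one_mul]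
  have h3 : z ∈ H := by
    have h4 := pow_mem h1 (m + 1)
    rwa [h2] at h4
  exact h3.2

/-- the properties of `τ₁` -/
structure TauDat (g : Eig h τ y n sf q) (k : N) (P O : Subgroup G) (a : Fˣ) (x : G) : Prop where
  odd : Odd (orderOf x)
  comm : x * t a = t a * x
  Ri : ∀ β, x * v β 0 * x⁻¹ = v (a * a * β) 0
  diag : ∃ X : NR R i, (X : G) = x ∧ Diag v p n sf k X 1 1
  nP : x ∈ normalizer (P : Set G)
  nO : x ∈ normalizer (O : Set G)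
  nS : x ∈ normalizer (Sig g k : Set G)
  qm : Qm ((gfr_of g).SG k) (Sig g k) x (t a * t a)

theorem cen_v {x : G} (h : FMod V R i j v w1 w2 M B p r f φ s) (hx : x ∈ centralizer (R i : Set G)) (β : F) :
    x * v β 0 * x⁻¹ = v β 0 := by
  rw [← mem_centralizer_iff.1 hx _ ((h.co.mem_R1 _).2 ⟨β, rfl⟩), mul_inv_cancel_right]

theorem odd_conj {m z : G} (hz : Odd (orderOf z)) : Odd (orderOf (m * z * m⁻¹)) := by
  have e : m * z * m⁻¹ = MulAut.conj m z := by rw [MulAut.conj_apply]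
  rw [e, (MulAut.conj m).orderOf_eq]
  exact hz

namespace NodeDat

variable {g : Eig h τ y n sf q} {k : N} {P O : Subgroup G} (d : NodeDat g k P O)
include d

theorem exists_tau {m0 : NR R i} {β γ : F} (sw : SwapM h n sf k m0 β γ) (hm0 : (m0 : G) ∈ P) (a : Fˣ) :
    ∃ x, TauDat g k P O a x := by
  set S := (gfr_of g).SG k with hS
  -- `z`
  have hzR : t a ∈ normalizer (R i : Set G) := τ.normR a.ne_zero
  have hzS : t a ∈ normalizer (S : Set G) := norm_SG g (x := tT τ a) fun m hm => (diag_t g k a).pres hm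
  have hzP : t a ∈ normalizer (P : Set G) := d.PT a a.ne_zero
  have hzO : t a ∈ normalizer (O : Set G) := d.OT a a.ne_zero
  have hzT : t a ∈ normalizer (Sig g k : Set G) := d.XS (τ.memX a a.ne_zero)
  -- `ζ`
  have hmO : (m0 : G) ∈ normalizer (O : Set G) := d.PO hm0
  have hmP : (m0 : G) ∈ normalizer (P : Set G) := le_normalizer hm0
  set ζ := (m0 : G) * t a * (m0 : G)⁻¹ with hζ
  have hζO : ζ ∈ normalizer (O : Set G) := mul_mem (mul_mem hmO hzO) (inv_mem hmO)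
  have hζP : ζ ∈ normalizer (P : Set G) := mul_mem (mul_mem hmP hzP) (inv_mem hmP)
  have hζe : ((m0 * tT τ a * m0⁻¹ : NR R i) : G) = ζ := rfl
  have dz := diag_t g k a
  have dζ := sw.diag g d.k0 a
  -- `c = z² w` is trivial on `N_k`, `w = [m₀, z]`
  set w := (m0 : G) * t a * (m0 : G)⁻¹ * (t a)⁻¹ with hw
  have hwP : w ∈ P := by
    have h1 := mul_mem hm0 (conj_mem_of_normalizer hzP (inv_mem hm0))
    rwa [show (m0 : G) * (t a * (m0 : G)⁻¹ * (t a)⁻¹) = w by rw [hw]; group] at h1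
  have hwO : w ∈ normalizer (O : Set G) := d.PO hwP
  have dc : Diag v p n sf k (tT τ a * (tT τ a * (m0 * tT τ a * m0⁻¹)) * (tT τ a)⁻¹) 1 1 := by
    have h4 := (dz.mul (dz.mul dζ)).mul (dz.inv (inv_ne_zero a.ne_zero) a.ne_zero)
    rwa [inv_mul_cancel₀ a.ne_zero, mul_inv_cancel₀ a.ne_zero, mul_one, mul_one, inv_inv,
      inv_mul_cancel₀ a.ne_zero, mul_inv_cancel₀ a.ne_zero] at h4
  have hcw : ∀ x ∈ P, (t a * t a * w) * x * (t a * t a * w)⁻¹ * x⁻¹ ∈ O := by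
    refine d.lift _ (mul_mem (mul_mem hzP hzP) (le_normalizer hwP)) (mul_mem (mul_mem hzO hzO) hwO) fun u hu => ?_
    have h4 := d.diag_comm dc hu
    have e : ((tT τ a * (tT τ a * (m0 * tT τ a * m0⁻¹)) * (tT τ a)⁻¹ : NR R i) : G) = t a * t a * w := by
      show t a * (t a * ((m0 : G) * t a * (m0 : G)⁻¹)) * (t a)⁻¹ = _
      rw [hw]; group
    rwa [e] at h4
  have hcsq : (t a * t a) * w * (t a * t a)⁻¹ * w⁻¹ ∈ O := by
    have h4 := hcw w hwP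
    rwa [show t a * t a * w * w * (t a * t a * w)⁻¹ * w⁻¹ = (t a * t a) * w * (t a * t a)⁻¹ * w⁻¹ by group] at h4
  have hc : t a * ζ * (t a)⁻¹ * ζ⁻¹ ∈ O := by
    have h4 := comm_mod_of_sq hzO (τ.odd a a.ne_zero) hcsq
    rwa [show t a * w * (t a)⁻¹ * w⁻¹ = t a * ζ * (t a)⁻¹ * ζ⁻¹ by rw [hw, hζ]; group] at h4
  obtain ⟨x', h1, h2, h3⟩ := Apt.exists_tau d.two hzO hζO (τ.odd a a.ne_zero) (odd_conj (τ.odd a a.ne_zero)) hc
  set κ := ζ⁻¹ * x' with hκ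
  have hx' : x' = ζ * κ := by rw [hκ]; group
  have hκP : κ ∈ P := d.OP h1
  have hκR : κ ∈ normalizer (R i : Set G) := d.PNR hκP
  have hκS : κ ∈ normalizer (S : Set G) := d.PSG hκP
  -- the diagonal action
  have dκ : Diag v p n sf k (⟨κ, hκR⟩ : NR R i) 1 1 := by
    have h4 := (mem_cmod_iff g (k := k) (x := ⟨κ, hκR⟩)).1 (d.OK h1)
    refine ⟨fun l m => act_smul h (g := ⟨κ, hκR⟩) (d.PR hκP) l m, ?_, fun z hz => h4 z (Zg_le_Ng hz), ?_⟩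
    · rw [one_smul]; exact h4 _ e_mem_Ng
    · rw [one_smul]; exact h4 _ n_mem_Ng
  refine ⟨t a * x', Apt.odd_mul h2.symm (τ.odd a a.ne_zero) h3, by rw [mul_assoc, h2], fun β => ?_,
    ⟨tT τ a * ((m0 * tT τ a * m0⁻¹) * ⟨κ, hκR⟩), ?_, ?_⟩, ?_, ?_, ?_, ?_⟩
  · -- on `R i`
    have hT : ∀ β, t a * v β 0 * (t a)⁻¹ = v (a * β) 0 := fun β => h.T_aux τ a β
    have e1 : t a * x' * v β 0 * (t a * x')⁻¹ =
        t a * (m0 * (t a * ((m0 : G)⁻¹ * (κ * v β 0 * κ⁻¹) * (m0 : G)⁻¹⁻¹) * (t a)⁻¹) * (m0 : G)⁻¹) * (t a)⁻¹ := by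
      rw [hx', hζ]; group
    rw [e1, cen_v h (d.PR hκP), cen_v h (inv_mem sw.cen), hT, cen_v h sw.cen, hT, mul_assoc]
  · rw [hx']
    rfl
  · have h4 := dz.mul (dζ.mul dκ)
    rw [mul_one, mul_one, inv_mul_cancel₀ a.ne_zero, mul_inv_cancel₀ a.ne_zero] at h4
    exact h4
  · rw [hx']
    exact mul_mem hzP (mul_mem hζP (le_normalizer hκP))
  · rw [hx']
    exact mul_mem hzO (mul_mem hζO (le_normalizer h1))
  · rw [hx', hζ]
    exact mul_mem hzT (mul_mem (mul_mem (mul_mem (d.PS hm0) hzT) (inv_mem (d.PS hm0))) (d.PS hκP))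
  · have q1 : ∀ x ∈ P, Qm S (Sig g k) x 1 := fun x hx => Qm.one (d.PSG hx) fun w hw => d.triv hx hw
    have qz : Qm S (Sig g k) (t a) (t a) := Qm.self hzS hzT
    have h4 := qz.mul ((((q1 _ hm0).mul qz).mul (q1 _ (inv_mem hm0))).mul (q1 _ hκP))
    rw [one_mul, mul_one, mul_one] at h4
    rw [hx', hζ]
    exact h4

end NodeDat

end Cfsg.Agent.Omega.Lie.Nodes

end

section


/-!
# II.0h1, split, `q ≥ 4`: `z z^{m₀}` is trivial on `W_N / R_i Ψ`, abstract part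

`A` elementary abelian, `S, V, V', D ≤ A`, `A = V' D`, `z` acts on `V`, `V'` mod `S` without fixed points and trivially on
`D / V`; `m₀` interchanges `V` and `V'`.  Then `m₀ z m₀⁻¹` is trivial on `C_A(z)` mod `S`.
-/

set_option autoImplicit false
set_option linter.unusedSectionVars false

namespace Cfsg.Agent.Omega.HOneQ.KerO

open Subgroup Cfsg.Agent.Omega.BTwo

variable {G : Type*} [Group G]

/-- `[g, ·]` is a homomorphism on an abelian group normalised by `g` -/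
theorem cm_mul {A : Subgroup G} (hA : ∀ x ∈ A, ∀ y ∈ A, x * y = y * x) {g : G} (hg : ∀ x ∈ A, g * x * g⁻¹ ∈ A)
    {x y : G} (hx : x ∈ A) (hy : y ∈ A) :
    g * (x * y) * g⁻¹ * (x * y)⁻¹ = (g * x * g⁻¹ * x⁻¹) * (g * y * g⁻¹ * y⁻¹) := by
  have h1 := hA x hx (g * y * g⁻¹ * y⁻¹) (mul_mem (hg y hy) (inv_mem hy))
  calc g * (x * y) * g⁻¹ * (x * y)⁻¹ = (g * x * g⁻¹ * x⁻¹) * (x * (g * y * g⁻¹ * y⁻¹)) * x⁻¹ := by group
    _ = _ := by rw [h1]; group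

theorem cm_inv {A : Subgroup G} (hA : ∀ x ∈ A, ∀ y ∈ A, x * y = y * x) {g : G} (hg : ∀ x ∈ A, g * x * g⁻¹ ∈ A)
    {x : G} (hx : x ∈ A) : g * x⁻¹ * g⁻¹ * x⁻¹⁻¹ = (g * x * g⁻¹ * x⁻¹)⁻¹ := by
  have h1 := cm_mul hA hg (inv_mem hx) hx
  have e : g * (x⁻¹ * x) * g⁻¹ * (x⁻¹ * x)⁻¹ = 1 := by group
  rw [e] at h1
  exact eq_inv_of_mul_eq_one_left h1.symm

/-- `{x ∈ A | [g, x] ∈ S}` -/
def fx (A S : Subgroup G) (hA : ∀ x ∈ A, ∀ y ∈ A, x * y = y * x) (g : G) (hg : ∀ x ∈ A, g * x * g⁻¹ ∈ A) :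
    Subgroup G where
  carrier := {x | x ∈ A ∧ g * x * g⁻¹ * x⁻¹ ∈ S}
  one_mem' := ⟨one_mem _, by rw [show g * 1 * g⁻¹ * 1⁻¹ = 1 by group]; exact one_mem _⟩
  mul_mem' := by
    rintro x y ⟨hx, h1⟩ ⟨hy, h2⟩
    refine ⟨mul_mem hx hy, ?_⟩
    rw [cm_mul hA hg hx hy]
    exact mul_mem h1 h2
  inv_mem' := by
    rintro x ⟨hx, h1⟩
    refine ⟨inv_mem hx, ?_⟩
    rw [cm_inv hA hg hx]
    exact inv_mem h1

theorem mem_fx {A S : Subgroup G} {hA : ∀ x ∈ A, ∀ y ∈ A, x * y = y * x} {g : G} {hg : ∀ x ∈ A, g * x * g⁻¹ ∈ A}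
    {x : G} : x ∈ fx A S hA g hg ↔ x ∈ A ∧ g * x * g⁻¹ * x⁻¹ ∈ S := Iff.rfl

/-- the data -/
structure Wt (A S V V' D : Subgroup G) (z m0 : G) : Prop where
  comm : ∀ x ∈ A, ∀ y ∈ A, x * y = y * x
  SD : S ≤ D
  VD : V ≤ D
  DA : D ≤ A
  V'A : V' ≤ A
  fact : ∀ x ∈ A, ∃ l ∈ V', ∃ d ∈ D, x = l * d
  cap : ∀ x ∈ V', x ∈ D → x ∈ S
  zA : ∀ x ∈ A, z * x * z⁻¹ ∈ A
  zS : ∀ x ∈ S, z * x * z⁻¹ ∈ S
  zV' : ∀ x ∈ V', z * x * z⁻¹ ∈ V'
  zD : ∀ d ∈ D, z * d * z⁻¹ * d⁻¹ ∈ V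
  z_inj : ∀ x ∈ V, z * x * z⁻¹ * x⁻¹ ∈ S → x ∈ S
  z_inj' : ∀ x ∈ V', z * x * z⁻¹ * x⁻¹ ∈ S → x ∈ S
  z_sur : ∀ x ∈ V, ∃ y ∈ V, z * y * z⁻¹ * y⁻¹ * x ∈ S
  z_sur' : ∀ x ∈ V', ∃ y ∈ V', z * y * z⁻¹ * y⁻¹ * x ∈ S
  mA : m0 ∈ normalizer (A : Set G)
  mS : m0 ∈ normalizer (S : Set G)
  mV : ∀ x, x ∈ V ↔ m0 * x * m0⁻¹ ∈ V'
  mV' : ∀ x, x ∈ V' ↔ m0 * x * m0⁻¹ ∈ V
  /-- `m₀ z m₀⁻¹` normalises `D` -/
  mD : ∀ d ∈ D, (m0 * z * m0⁻¹) * d * (m0 * z * m0⁻¹)⁻¹ ∈ D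
  /-- `m₀⁻¹ z m₀` normalises `D` -/
  mD' : ∀ d ∈ D, (m0⁻¹ * z * m0) * d * (m0⁻¹ * z * m0)⁻¹ ∈ D

namespace Wt

variable {A S V V' D : Subgroup G} {z m0 : G} (w : Wt A S V V' D z m0)
include w

theorem SA : S ≤ A := w.SD.trans w.DA

theorem VA : V ≤ A := w.VD.trans w.DA

theorem zetaA : ∀ x ∈ A, (m0 * z * m0⁻¹) * x * (m0 * z * m0⁻¹)⁻¹ ∈ A := by
  intro x hx
  have h1 := w.zA _ (conj_inv_mem_of_normalizer w.mA hx)
  have h2 := BTwo.conj_mem_of_normalizer w.mA h1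
  have e : (m0 * z * m0⁻¹) * x * (m0 * z * m0⁻¹)⁻¹ = m0 * (z * (m0⁻¹ * x * m0) * z⁻¹) * m0⁻¹ := by group
  rw [e]; exact h2

theorem zeta_eq (x : G) : (m0 * z * m0⁻¹) * x * (m0 * z * m0⁻¹)⁻¹ * x⁻¹ =
    m0 * (z * (m0⁻¹ * x * m0) * z⁻¹ * (m0⁻¹ * x * m0)⁻¹) * m0⁻¹ := by
  have _ := w
  group

/-- `[z, A] ≤ V' V` -/
theorem z_all {x : G} (hx : x ∈ A) : ∃ l ∈ V', ∃ v ∈ V, z * x * z⁻¹ * x⁻¹ = l * v := by
  obtain ⟨l, hl, d, hd, rfl⟩ := w.fact x hx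
  rw [cm_mul w.comm w.zA (w.V'A hl) (w.DA hd)]
  exact ⟨_, mul_mem (w.zV' l hl) (inv_mem hl), _, w.zD d hd, rfl⟩

/-- (1) `C_z ≤ D` -/
theorem Cz_le {x : G} (hx : x ∈ A) (h : z * x * z⁻¹ * x⁻¹ ∈ S) : x ∈ D := by
  obtain ⟨l, hl, d, hd, rfl⟩ := w.fact x hx
  rw [cm_mul w.comm w.zA (w.V'A hl) (w.DA hd)] at h
  have h1 : z * l * z⁻¹ * l⁻¹ ∈ S := by
    refine w.cap _ (mul_mem (w.zV' l hl) (inv_mem hl)) ?_
    have h2 := mul_mem (w.SD h) (inv_mem (w.VD (w.zD d hd)))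
    rwa [mul_inv_cancel_right] at h2
  exact mul_mem (w.SD (w.z_inj' l hl h1)) hd

/-- (1') `C_ζ ≤ D^{m₀}` -/
theorem Cζ_le {x : G} (hx : x ∈ A) (h : (m0 * z * m0⁻¹) * x * (m0 * z * m0⁻¹)⁻¹ * x⁻¹ ∈ S) :
    m0⁻¹ * x * m0 ∈ D := by
  rw [w.zeta_eq] at h
  have h1 := conj_inv_mem_of_normalizer w.mS h
  rw [show m0⁻¹ * (m0 * (z * (m0⁻¹ * x * m0) * z⁻¹ * (m0⁻¹ * x * m0)⁻¹) * m0⁻¹) * m0 =
    z * (m0⁻¹ * x * m0) * z⁻¹ * (m0⁻¹ * x * m0)⁻¹ by group] at h1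
  exact w.Cz_le (conj_inv_mem_of_normalizer w.mA hx) h1

/-- `m₀⁻¹ V m₀ = V'` -/
theorem mV_inv {x : G} (hx : x ∈ V) : m0⁻¹ * x * m0 ∈ V' := by
  rw [w.mV' (m0⁻¹ * x * m0), show m0 * (m0⁻¹ * x * m0) * m0⁻¹ = x by group]
  exact hx

theorem mV'_inv {x : G} (hx : x ∈ V') : m0⁻¹ * x * m0 ∈ V := by
  rw [w.mV (m0⁻¹ * x * m0), show m0 * (m0⁻¹ * x * m0) * m0⁻¹ = x by group]
  exact hx

/-- (2) `[ζ, D] ≤ V S` -/
theorem zeta_D {d : G} (hd : d ∈ D) :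
    ∃ v ∈ V, v⁻¹ * ((m0 * z * m0⁻¹) * d * (m0 * z * m0⁻¹)⁻¹ * d⁻¹) ∈ S := by
  obtain ⟨l, hl, v, hv, e⟩ := w.z_all (conj_inv_mem_of_normalizer w.mA (w.DA hd))
  have e1 : (m0 * z * m0⁻¹) * d * (m0 * z * m0⁻¹)⁻¹ * d⁻¹ = (m0 * l * m0⁻¹) * (m0 * v * m0⁻¹) := by
    rw [w.zeta_eq, e]; group
  have h1 : m0 * l * m0⁻¹ ∈ V := (w.mV' l).1 hl
  have h2 : m0 * v * m0⁻¹ ∈ V' := (w.mV v).1 hv
  refine ⟨_, h1, ?_⟩
  have h3 : (m0 * l * m0⁻¹)⁻¹ * ((m0 * z * m0⁻¹) * d * (m0 * z * m0⁻¹)⁻¹ * d⁻¹) = m0 * v * m0⁻¹ := by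
    rw [e1, inv_mul_cancel_left]
  have h4 : m0 * v * m0⁻¹ ∈ D := by
    rw [← h3]
    exact mul_mem (inv_mem (w.VD h1)) (mul_mem (w.mD d hd) (inv_mem hd))
  rw [h3]
  exact w.cap _ h2 h4

/-- (2') `[z, D^{m₀}] ≤ V' S` -/
theorem z_D' {x : G} (hx : x ∈ A) (hd : m0⁻¹ * x * m0 ∈ D) : ∃ l ∈ V', l⁻¹ * (z * x * z⁻¹ * x⁻¹) ∈ S := by
  obtain ⟨l, hl, v, hv, e⟩ := w.z_all hx
  refine ⟨l, hl, ?_⟩
  rw [e, inv_mul_cancel_left]
  have h1 : m0⁻¹ * v * m0 ∈ V' := w.mV_inv hv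
  have h2 : m0⁻¹ * v * m0 ∈ D := by
    have e1 : v = l⁻¹ * (z * x * z⁻¹ * x⁻¹) := by rw [e, inv_mul_cancel_left]
    have e2 : m0⁻¹ * v * m0 = (m0⁻¹ * l * m0)⁻¹ *
        (((m0⁻¹ * z * m0) * (m0⁻¹ * x * m0) * (m0⁻¹ * z * m0)⁻¹) * (m0⁻¹ * x * m0)⁻¹) := by
      rw [e1]; group
    rw [e2]
    exact mul_mem (inv_mem (w.VD (w.mV'_inv hl))) (mul_mem (w.mD' _ hd) (inv_mem hd))
  have h3 := BTwo.conj_mem_of_normalizer w.mS (w.cap _ h1 h2)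
  rwa [show m0 * (m0⁻¹ * v * m0) * m0⁻¹ = v by group] at h3

/-- `ζ` is surjective on `V / S` -/
theorem zeta_sur {x : G} (hx : x ∈ V) : ∃ y ∈ V, (m0 * z * m0⁻¹) * y * (m0 * z * m0⁻¹)⁻¹ * y⁻¹ * x ∈ S := by
  obtain ⟨y, hy, h1⟩ := w.z_sur' _ (w.mV_inv hx)
  refine ⟨m0 * y * m0⁻¹, (w.mV' y).1 hy, ?_⟩
  have h2 := BTwo.conj_mem_of_normalizer w.mS h1
  have e : (m0 * z * m0⁻¹) * (m0 * y * m0⁻¹) * (m0 * z * m0⁻¹)⁻¹ * (m0 * y * m0⁻¹)⁻¹ * x =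
      m0 * (z * y * z⁻¹ * y⁻¹ * (m0⁻¹ * x * m0)) * m0⁻¹ := by group
  rw [e]; exact h2

theorem zetaS {x : G} (hx : x ∈ S) : (m0 * z * m0⁻¹) * x * (m0 * z * m0⁻¹)⁻¹ ∈ S := by
  have h1 := BTwo.conj_mem_of_normalizer w.mS (w.zS _ (conj_inv_mem_of_normalizer w.mS hx))
  have e : (m0 * z * m0⁻¹) * x * (m0 * z * m0⁻¹)⁻¹ = m0 * (z * (m0⁻¹ * x * m0) * z⁻¹) * m0⁻¹ := by group
  rw [e]; exact h1

/-- **(3) `ζ` is trivial on `C_z` mod `S`** -/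
theorem Cz_Cζ {x : G} (hx : x ∈ A) (h : z * x * z⁻¹ * x⁻¹ ∈ S) :
    (m0 * z * m0⁻¹) * x * (m0 * z * m0⁻¹)⁻¹ * x⁻¹ ∈ S := by
  have hζ := w.zetaA
  have hxD := w.Cz_le hx h
  obtain ⟨v, hv, h1⟩ := w.zeta_D hxD
  obtain ⟨v0, hv0, h2⟩ := w.zeta_sur hv
  have hv0A := w.VA hv0
  set x0 := x * v0 with hx0
  have hx0A : x0 ∈ A := mul_mem hx hv0A
  have h3 : x0 ∈ fx A S w.comm _ hζ := by
    refine ⟨hx0A, ?_⟩
    rw [hx0, cm_mul w.comm hζ hx hv0A]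
    set a := (m0 * z * m0⁻¹) * x * (m0 * z * m0⁻¹)⁻¹ * x⁻¹ with ha
    set b := (m0 * z * m0⁻¹) * v0 * (m0 * z * m0⁻¹)⁻¹ * v0⁻¹ with hb
    have haA : a ∈ A := mul_mem (hζ x hx) (inv_mem hx)
    have hbA : b ∈ A := mul_mem (hζ v0 hv0A) (inv_mem hv0A)
    have h4 := mul_mem h2 h1
    have e : a * b = b * v * (v⁻¹ * a) := by
      rw [w.comm a haA b hbA]; group
    rw [e]
    exact h4
  have h4 := w.Cζ_le hx0A h3.2
  obtain ⟨l, hl, h5⟩ := w.z_D' hx0A h4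
  obtain ⟨l0, hl0, h6⟩ := w.z_sur' l hl
  have hl0A := w.V'A hl0
  have h7 : x0 * l0 ∈ fx A S w.comm _ w.zA := by
    refine ⟨mul_mem hx0A hl0A, ?_⟩
    rw [cm_mul w.comm w.zA hx0A hl0A]
    set a := z * x0 * z⁻¹ * x0⁻¹ with ha
    set b := z * l0 * z⁻¹ * l0⁻¹ with hb
    have haA : a ∈ A := mul_mem (w.zA x0 hx0A) (inv_mem hx0A)
    have hbA : b ∈ A := mul_mem (w.zA l0 hl0A) (inv_mem hl0A)
    have e : a * b = b * l * (l⁻¹ * a) := by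
      rw [w.comm a haA b hbA]; group
    rw [e]
    exact mul_mem h6 h5
  have h8 := w.Cz_le h7.1 h7.2
  have hx0D : x0 ∈ D := mul_mem hxD (w.VD hv0)
  have h9 : l0 ∈ S := by
    refine w.cap l0 hl0 ?_
    have := mul_mem (inv_mem hx0D) h8
    rwa [inv_mul_cancel_left] at this
  have h10 : l0 ∈ fx A S w.comm _ w.zA := ⟨hl0A, mul_mem (w.zS l0 h9) (inv_mem h9)⟩
  have h11 : v0 ∈ fx A S w.comm _ w.zA := by
    have e : v0 = x⁻¹ * (x0 * l0) * l0⁻¹ := by rw [hx0]; group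
    rw [e]
    exact mul_mem (mul_mem (inv_mem (show x ∈ fx A S w.comm _ w.zA from ⟨hx, h⟩)) h7) (inv_mem h10)
  have h12 := w.z_inj v0 hv0 h11.2
  have h13 : v0 ∈ fx A S w.comm _ hζ := ⟨hv0A, mul_mem (w.zetaS h12) (inv_mem h12)⟩
  have h14 := mul_mem h3 (inv_mem h13)
  rw [hx0, mul_inv_cancel_right] at h14
  exact h14.2

/-- **(4) `z ζ` is trivial on `A / S`**, if it is trivial on `V / S` and `V' / S` -/
theorem diag (hV : ∀ x ∈ V, (z * (m0 * z * m0⁻¹)) * x * (z * (m0 * z * m0⁻¹))⁻¹ * x⁻¹ ∈ S)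
    (hV' : ∀ x ∈ V', (z * (m0 * z * m0⁻¹)) * x * (z * (m0 * z * m0⁻¹))⁻¹ * x⁻¹ ∈ S) {x : G} (hx : x ∈ A) :
    (z * (m0 * z * m0⁻¹)) * x * (z * (m0 * z * m0⁻¹))⁻¹ * x⁻¹ ∈ S := by
  have hA : ∀ x ∈ A, (z * (m0 * z * m0⁻¹)) * x * (z * (m0 * z * m0⁻¹))⁻¹ ∈ A := by
    intro x hx
    have h1 := w.zA _ (w.zetaA x hx)
    have e : (z * (m0 * z * m0⁻¹)) * x * (z * (m0 * z * m0⁻¹))⁻¹ =
        z * ((m0 * z * m0⁻¹) * x * (m0 * z * m0⁻¹)⁻¹) * z⁻¹ := by group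
    rw [e]; exact h1
  obtain ⟨l, hl, d, hd, rfl⟩ := w.fact x hx
  obtain ⟨v0, hv0, h1⟩ := w.z_sur _ (w.zD d hd)
  have hdA := w.DA hd
  have hv0A := w.VA hv0
  have h2 : z * (d * v0) * z⁻¹ * (d * v0)⁻¹ ∈ S := by
    rw [cm_mul w.comm w.zA hdA hv0A, w.comm _ (mul_mem (w.zA d hdA) (inv_mem hdA)) _
      (mul_mem (w.zA v0 hv0A) (inv_mem hv0A))]
    exact h1
  have h3 := w.Cz_Cζ (mul_mem hdA hv0A) h2
  have h4 : d * v0 ∈ fx A S w.comm _ hA := by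
    refine ⟨mul_mem hdA hv0A, ?_⟩
    set ζ := m0 * z * m0⁻¹ with hζ
    have e : (z * ζ) * (d * v0) * (z * ζ)⁻¹ * (d * v0)⁻¹ =
        (z * (ζ * (d * v0) * ζ⁻¹ * (d * v0)⁻¹) * z⁻¹) * (z * (d * v0) * z⁻¹ * (d * v0)⁻¹) := by group
    rw [e]
    exact mul_mem (w.zS _ h3) h2
  have h5 : l * d ∈ fx A S w.comm _ hA := by
    have e : l * d = l * (d * v0) * v0⁻¹ := by group
    rw [e]
    exact mul_mem (mul_mem (show l ∈ fx A S w.comm _ hA from ⟨w.V'A hl, hV' l hl⟩) h4)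
      (inv_mem (show v0 ∈ fx A S w.comm _ hA from ⟨hv0A, hV v0 hv0⟩))
  exact h5.2

end Wt

end Cfsg.Agent.Omega.HOneQ.KerO

end

end

-- merged: Cfsg.Agent.Mrg.Omega.Lie.Nodes.AptR
section

section


/-!
# NODE LIE, residues `(0, j)`: the swap `r ∈ X` inverting the torus element, `τ₁` on `V` and on the line `V₂'`
-/

set_option autoImplicit false
set_option linter.unusedSectionVars false

namespace Cfsg.Agent.Omega.Lie.Nodes

open Subgroup Cfsg.Agent.Omega.BTwo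

universe u v w

variable {G : Type u} [Group G] {ι : Type w} {V : Subgroup G} {R : ι → Subgroup G} {i j : ι} {F : Type v}
  [Field F] {v : F → F → G} {w1 w2 : F → G} {M B : Type u} [AddCommGroup M] [AddCommGroup B]
  [DistribMulAction (NR R i) M] [DistribMulAction (NR R i) B] [Module F M] {p : G → M} {r : G → B}
  {f : M →+ M →+ B} {φ : M →ₗ[F] M →ₗ[F] F} {s : NR R i → (F ≃+* F)} [CharP F 2]
  [Finite G] [Finite F] {h : FMod V R i j v w1 w2 M B p r f φ s} {t : F → G} {τ : Lie.TorD V R i j v t}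
  {N : Type u} [AddCommGroup N] [Module F N] {P1 P2 : G → N} {y : YPair V R i j w1 w2 N P1 P2}
  {n : N →ₗ[F] M} {sf : N →ₗ[F] N →ₗ[F] M} {q : N → N →ₗ[F] F}

/-- the preimage of `⟨n k⟩` -/
noncomputable abbrev VG (g : Eig h τ y n sf q) (k : N) : Subgroup G := pre (gfr_of g).fr (Submodule.span F {n k})

theorem mem_VG {g : Eig h τ y n sf q} {k : N} {x : G} :
    x ∈ VG g k ↔ x ∈ WW V (R i) ∧ ∃ c : F, p x = c • n k := by
  show x ∈ WW V (R i) ∧ p x ∈ Submodule.span F {n k} ↔ _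
  rw [Submodule.mem_span_singleton]
  exact and_congr_right fun _ => ⟨fun ⟨c, e⟩ => ⟨c, e.symm⟩, fun ⟨c, e⟩ => ⟨c, e.symm⟩⟩

theorem VG_le_SG (g : Eig h τ y n sf q) (k : N) : VG g k ≤ (gfr_of g).SG k := fun x hx => by
  obtain ⟨hW, c, e⟩ := mem_VG.1 hx
  refine ⟨hW, ?_⟩
  show p x ∈ NK p v n sf k
  rw [e]
  exact Submodule.smul_mem _ _ n_mem_Ng

theorem R_le_VG (g : Eig h τ y n sf q) (k : N) : R i ≤ VG g k := fun x hx => by
  have hW : x ∈ WW V (R i) := V_le_WW V (R i) (h.bt.R_le i hx)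
  exact mem_VG.2 ⟨hW, 0, by rw [zero_smul]; exact (h.fr.p_ker x hW).2 hx⟩

/-- `cj m V = VG` -/
theorem SwapM.cj_V {k : N} {m : NR R i} {β γ : F} (sw : SwapM h n sf k m β γ) (g : Eig h τ y n sf q) :
    cj (m : G) V = VG g k := by
  ext x
  rw [mem_cj, mem_VG]
  have hWn := normalizer_le_WW V (R i) m.2
  constructor
  · intro hx
    have hxW := V_le_WW V (R i) hx
    have e1 : x = m * ((m : G)⁻¹ * x * m) * (m : G)⁻¹ := by group
    have hx' : x ∈ WW V (R i) := by rw [e1]; exact conj_mem_of_normalizer hWn hxW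
    refine ⟨hx', ?_⟩
    obtain ⟨c, hc⟩ := (p_mem_V_iff h hxW).1 hx
    refine ⟨c * β, ?_⟩
    rw [e1, ← h.fr.p_act m _ hxW, hc, act_smul h sw.cen, sw.me, smul_smul]
  · rintro ⟨hx, c, hc⟩
    have hx' : (m : G)⁻¹ * x * m ∈ WW V (R i) := conj_inv_mem_of_normalizer hWn hx
    rw [p_mem_V_iff h hx']
    refine ⟨c * β⁻¹, ?_⟩
    have h1 := h.fr.p_act m⁻¹ x hx
    rw [coe_inv, inv_inv] at h1
    rw [← h1, hc, act_smul h sw.cen', sw.me', smul_smul]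

theorem SwapM.cj_VG {k : N} {m : NR R i} {β γ : F} (sw : SwapM h n sf k m β γ) (g : Eig h τ y n sf q) :
    cj (m : G) (VG g k) = V := by
  rw [cj_eq_iff, ← sw.inv.cj_V g, coe_inv]

/-- **`r ∈ X` swaps `R i`, `R j` and inverts `t a`** -/
theorem exists_r (h : FMod V R i j v w1 w2 M B p r f φ s) (τ : Lie.TorD V R i j v t)
    (y : YPair V R i j w1 w2 N P1 P2) (a : Fˣ) : ∃ x, (∃ y0 ∈ YY V R, x = nn w1 w2 1 * y0) ∧ x ∈ XX V R ∧
      cj x (R i) = R j ∧ cj x (R j) = R i ∧ x⁻¹ * t a * x = (t a)⁻¹ ∧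
      (∀ b c, x * v b c * x⁻¹ = v c b) ∧ cj x V = V := by
  set n0 := nn w1 w2 1 with hn0
  have hX : n0 ∈ XX V R := h.co.nn_mem_X h.bt 1
  have hzX : t a ∈ XX V R := τ.memX a a.ne_zero
  have hact : ∀ b c, n0 * v b c * n0⁻¹ = v c b := by
    intro b c
    have h1 := h.co.nn_act one_ne_zero b c
    rw [inv_one, one_mul, one_mul] at h1
    exact h1
  have hact' : ∀ b c, n0⁻¹ * v b c * n0 = v c b := by
    intro b c
    rw [← hact c b]; group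
  have hYC := y.cen_X_V h.co h.btc
  have hzY : t a ∈ normalizer (YY V R : Set G) := h.bt.NV_le_NY (h.bt.X_le_NV hzX)
  have hYp : IsPGroup 2 (YY V R) := by
    rw [← hYC]
    exact y.cen_X_V_isPGroup h.co h.btc
  have h1 : (t a)⁻¹ * (n0⁻¹ * (t a)⁻¹ * n0) ∈ YY V R := by
    rw [← hYC]
    refine mem_inf.2 ⟨mul_mem (inv_mem hzX) (mul_mem (mul_mem (inv_mem hX) (inv_mem hzX)) hX), ?_⟩
    rw [mem_centralizer_iff]
    intro x hx
    obtain ⟨b, c, rfl⟩ := (h.co.mem_V x).1 hx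
    have hinv : ∀ b c, (t a)⁻¹ * v b c * t a = v ((a : F)⁻¹ * b) (a * c) := by
      intro b c
      have h2 := τ.act (a : F)⁻¹ b c (inv_ne_zero a.ne_zero)
      rw [τ.inv a.ne_zero, inv_inv, inv_inv] at h2
      exact h2
    have e : (t a)⁻¹ * (n0⁻¹ * (t a)⁻¹ * n0) * v b c * ((t a)⁻¹ * (n0⁻¹ * (t a)⁻¹ * n0))⁻¹ =
        (t a)⁻¹ * (n0⁻¹ * ((t a)⁻¹ * (n0 * v b c * n0⁻¹) * t a) * n0) * t a := by group
    rw [hact, hinv, hact', hinv] at e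
    rw [← mul_assoc (a : F)⁻¹, ← mul_assoc (a : F), inv_mul_cancel₀ a.ne_zero, mul_inv_cancel₀ a.ne_zero, one_mul,
      one_mul, mul_inv_eq_iff_eq_mul] at e
    exact e.symm
  have ho : Odd (orderOf (n0⁻¹ * (t a)⁻¹ * n0)) := by
    have h2 := odd_conj (m := n0⁻¹) (z := (t a)⁻¹) (by rw [orderOf_inv]; exact τ.odd a a.ne_zero)
    rwa [inv_inv] at h2
  obtain ⟨y0, hy0, e1⟩ := Apt.conj_of_coset hYp hzY (τ.odd a a.ne_zero) h1 ho
  have hyX : y0⁻¹ ∈ XX V R := YY_le_XX (inv_mem hy0)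
  have hyR : ∀ l, cj y0⁻¹ (R l) = R l := fun l =>
    cj_eq_self_iff.2 (h.bt.cen_le_N l (YY_le_cen (inv_mem hy0)))
  have hyv : ∀ b c, y0⁻¹ * v b c * y0⁻¹⁻¹ = v b c := by
    intro b c
    rw [← mem_centralizer_iff.1 (YY_le_cen (inv_mem hy0)) _ (h.co.v_mem b c), mul_inv_cancel_right]
  refine ⟨n0 * y0⁻¹, ⟨y0⁻¹, inv_mem hy0, rfl⟩, mul_mem hX hyX, ?_, ?_, ?_, fun b c => ?_, ?_⟩
  · rw [cj_mul, hyR, h.co.nn_R1 h.bt one_ne_zero]
  · rw [cj_mul, hyR, h.co.nn_R2 h.bt one_ne_zero]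
  · have e2 : (n0 * y0⁻¹)⁻¹ * t a * (n0 * y0⁻¹) = (y0 * (n0⁻¹ * (t a)⁻¹ * n0) * y0⁻¹)⁻¹ := by group
    rw [e2, e1]
  · have e2 : n0 * y0⁻¹ * v b c * (n0 * y0⁻¹)⁻¹ = n0 * (y0⁻¹ * v b c * y0⁻¹⁻¹) * n0⁻¹ := by group
    rw [e2, hyv, hact]
  · exact cj_eq_self_iff.2 (h.bt.X_le_NV (mul_mem hX hyX))

/-- the torus element fixes only the points `R i`, `R j` -/
theorem tor_fix (h : FMod V R i j v w1 w2 M B p r f φ s) (τ : Lie.TorD V R i j v t) {a : Fˣ} (ha : (a : F) ≠ 1)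
    {l : ι} (hl : l ≠ i) (hfix : cj (t a) (R l) = R l) : l = j := by
  by_contra hlj
  obtain ⟨w, hw, e⟩ := h.bt.trans i h.co.ne.symm hl
  obtain ⟨x, hx⟩ := h.co.W1_act w hw
  have hR : ∀ g, g ∈ R l ↔ ∃ c, v (x * c) c = g := by
    intro g
    rw [← e, mem_cj, h.co.mem_R2]
    constructor
    · rintro ⟨c, hc⟩
      refine ⟨c, ?_⟩
      have h1 := hx 0 c
      rw [zero_add] at h1
      rw [← h1, hc]; group
    · rintro ⟨c, rfl⟩
      refine ⟨c, ?_⟩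
      have h1 := hx 0 c
      rw [zero_add] at h1
      rw [← h1]; group
  have h1 : v x 1 ∈ R l := (hR _).2 ⟨1, by rw [mul_one]⟩
  have h2 : t a * v x 1 * (t a)⁻¹ ∈ R l := by
    rw [← hfix]
    exact conj_mem_cj h1
  rw [τ.act a x 1 a.ne_zero, mul_one, hR] at h2
  obtain ⟨c, hc⟩ := h2
  obtain ⟨h3, h4⟩ := h.co.v_inj hc
  rw [h4] at h3
  have h5 : x * ((a : F) - (a : F)⁻¹) = 0 := by linear_combination -h3
  have h6 : x = 0 := (mul_eq_zero.1 h5).resolve_right (h.sub_inv_ne a.ne_zero ha)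
  rw [h6] at h1
  have h7 : v 0 1 ∈ R j := (h.co.mem_R2 _).2 ⟨1, rfl⟩
  have h8 := h.bt.eq_one hlj h1 h7
  exact one_ne_zero (h.co.v_one 0 1 h8).2

namespace TauDat

variable {g : Eig h τ y n sf q} {k : N} {P O : Subgroup G} {a : Fˣ} {x : G} (D : TauDat g k P O a x)
include D

theorem NRi : x ∈ normalizer (R i : Set G) := by
  obtain ⟨X, rfl, -⟩ := D.diag
  exact X.2

theorem NV : x ∈ normalizer (V : Set G) := by
  obtain ⟨X, rfl, dX⟩ := D.diag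
  exact norm_V h dX.e

/-- `τ₁` centralises `R j` -/
theorem Rj (ha : (a : F) ≠ 1) : cj x (R j) = R j ∧ ∀ β, x * v 0 β * x⁻¹ = v 0 β := by
  obtain ⟨l, hl⟩ := h.bt.perm x D.NV j
  have hli : l ≠ i := by
    rintro rfl
    have h1 : cj x (R j) = cj x (R l) := by rw [hl, cj_eq_self_iff.2 D.NRi]
    exact h.co.ne.symm (h.bt.R_index (cj_injective h1))
  have hzj : cj (t a) (R j) = R j := cj_eq_self_iff.2 (τ.normR' a.ne_zero)
  have hlj : l = j := by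
    refine tor_fix h τ ha hli ?_
    rw [← hl, ← cj_mul, ← D.comm, cj_mul, hzj]
  rw [hlj] at hl
  refine ⟨hl, fun β => ?_⟩
  obtain ⟨X, hX, dX⟩ := D.diag
  -- `τ₁ v 0 β τ₁⁻¹ ∈ R j` and `≡ v 0 β` modulo `R i`
  have h1 : x * v 0 β * x⁻¹ ∈ R j := by
    rw [← hl]
    exact conj_mem_cj ((h.co.mem_R2 _).2 ⟨β, rfl⟩)
  obtain ⟨c, hc⟩ := (h.co.mem_R2 _).1 h1
  have hvW : ∀ b c, v b c ∈ WW V (R i) := fun b c => V_le_WW V (R i) (h.co.v_mem b c)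
  have h2 := h.fr.p_act X _ (hvW 0 β)
  rw [hX, ← hc, h.p_v 0 β, h.p_v 0 c, dX.lin, dX.e, one_smul] at h2
  have h3 : (β - c) • p (v 0 1) = 0 := by rw [sub_smul, h2, sub_self]
  rw [← hc, sub_eq_zero.1 (h.e_smul_eq_zero h3)]

/-- the fixed points of `τ₁` on `V` -/
theorem cenV (ha : (a : F) ≠ 1) {u : G} (hu : u ∈ V) : x * u * x⁻¹ = u ↔ u ∈ R j := by
  obtain ⟨b, c, rfl⟩ := (h.co.mem_V u).1 hu
  have e : x * v b c * x⁻¹ = v (a * a * b) c := by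
    have e1 : v b c = v b 0 * v 0 c := by rw [← h.co.v_add, add_zero, zero_add]
    have e2 : x * (v b 0 * v 0 c) * x⁻¹ = (x * v b 0 * x⁻¹) * (x * v 0 c * x⁻¹) := by group
    rw [e1, e2, D.Ri, (D.Rj ha).2, ← h.co.v_add, add_zero, zero_add]
  rw [e, h.co.mem_R2]
  constructor
  · intro h1
    have h2 := (h.co.v_inj h1).1
    have h3 : ((a : F) * (a - (a : F)⁻¹)) * b = 0 := by
      rw [mul_sub, mul_inv_cancel₀ a.ne_zero]
      linear_combination h2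
    have h4 : b = 0 := (mul_eq_zero.1 h3).resolve_left (mul_ne_zero a.ne_zero (h.sub_inv_ne a.ne_zero ha))
    exact ⟨c, by rw [h4]⟩
  · rintro ⟨c', hc'⟩
    obtain ⟨h2, h3⟩ := h.co.v_inj hc'
    rw [← h2, mul_zero]

end TauDat

end Cfsg.Agent.Omega.Lie.Nodes

end

section


/-!
# NODE LIE, residues `(0, j)`: the opposite point and the apartment

`NodeDat.exists_apt`: the apartment data `AptData` from a node of type `x = n k`.
-/

set_option autoImplicit false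
set_option linter.unusedSectionVars false

namespace Cfsg.Agent.Omega.Lie.Nodes

open Subgroup Cfsg.Agent.Omega.BTwo

universe u v w

variable {G : Type u} [Group G] {ι : Type w} {V : Subgroup G} {R : ι → Subgroup G} {i j : ι} {F : Type v}
  [Field F] {v : F → F → G} {w1 w2 : F → G} {M B : Type u} [AddCommGroup M] [AddCommGroup B]
  [DistribMulAction (NR R i) M] [DistribMulAction (NR R i) B] [Module F M] {p : G → M} {r : G → B}
  {f : M →+ M →+ B} {φ : M →ₗ[F] M →ₗ[F] F} {s : NR R i → (F ≃+* F)} [CharP F 2]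
  [Finite G] [Finite F] {h : FMod V R i j v w1 w2 M B p r f φ s} {t : F → G} {τ : Lie.TorD V R i j v t}
  {N : Type u} [AddCommGroup N] [Module F N] {P1 P2 : G → N} {y : YPair V R i j w1 w2 N P1 P2}
  {n : N →ₗ[F] M} {sf : N →ₗ[F] N →ₗ[F] M} {q : N → N →ₗ[F] F}

/-- the properties of the swap -/
structure RDat (V : Subgroup G) (R : ι → Subgroup G) (i j : ι) (v : F → F → G) (w1 w2 t : F → G) (a : Fˣ)
    (x : G) : Prop where
  y0 : ∃ y0 ∈ YY V R, x = nn w1 w2 1 * y0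
  X : x ∈ XX V R
  ri : cj x (R i) = R j
  rj : cj x (R j) = R i
  inv : x⁻¹ * t a * x = (t a)⁻¹
  act : ∀ b c, x * v b c * x⁻¹ = v c b
  V : cj x V = V

section D

/-- `D` does not centralise `n k` -/
theorem exists_d0 (g : Eig h τ y n sf q) {k : N} (hk : k ≠ 0) : ∃ d ∈ h.M0 τ, φ d (n k) ≠ 0 := by
  by_contra hcon
  push Not at hcon
  have h1 : n k ∈ Submodule.span F {p (v 0 1)} := by
    have : Finite M := Finite.of_surjective (fun x : WW V (R i) => p x) fun m => by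
      obtain ⟨x, hx, e1⟩ := h.fr.p_surj m
      exact ⟨⟨x, hx⟩, e1⟩
    refine (nfr_of g).perp_perp _ _ fun m' hm' => ?_
    have h2 := hm' _ (Submodule.mem_span_singleton_self _)
    obtain ⟨γ, d, hd, l, rfl⟩ := (g.mem_U m').1 h2
    rw [map_add, map_add, map_smul, g.phi_e1, g.phi_11, h.phi_symm, hcon d hd, smul_zero, add_zero, add_zero]
  obtain ⟨c, hc⟩ := Submodule.mem_span_singleton.1 h1
  have h2 : (-c) • p (v 0 1) + 0 + n k = 0 := by rw [← hc, neg_smul]; abel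
  exact hk (g.indep _ _ _ (h.M0 τ).zero_mem h2).2.2

theorem exists_d (g : Eig h τ y n sf q) {k : N} (hk : k ≠ 0) (c : F) : ∃ d ∈ DD V R, φ (p d) (n k) = c := by
  obtain ⟨d0, hd0, hne⟩ := exists_d0 g hk
  have h1 : (c * (φ d0 (n k))⁻¹) • d0 ∈ h.M0 τ := (h.M0 τ).smul_mem _ hd0
  obtain ⟨d, hd, hdW, e⟩ := h.M0_le τ y h1
  refine ⟨d, hd, ?_⟩
  rw [e, map_smul, LinearMap.smul_apply, smul_eq_mul, mul_assoc, inv_mul_cancel₀ hne, mul_one]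

/-- conjugation of `V'` by elements of `W i` -/
theorem conj_VG {g : Eig h τ y n sf q} {k : N} {d d' : G} (hd : d ∈ WW V (R i)) (hd' : d' ∈ WW V (R i))
    (he : φ (p d) (n k) = φ (p d') (n k)) {x : G} (hx : x ∈ VG g k) : d * x * d⁻¹ = d' * x * d'⁻¹ := by
  obtain ⟨hW, c, hc⟩ := mem_VG.1 hx
  have h1 := h.comm_eq hd hW
  have h2 := h.comm_eq hd' hW
  rw [hc, map_smul, he, ← map_smul, ← hc, ← h2] at h1
  exact mul_right_cancel h1

/-- `D` is transitive on the points `≠ R i` of `V'` -/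
theorem trD (g : Eig h τ y n sf q) {k : N} (hk : k ≠ 0) {m : G} (hm : m ∈ centralizer (R i : Set G))
    (hmV : cj m V = VG g k) {l l' : ι} (hl : l ≠ i) (hl' : l' ≠ i) :
    ∃ d ∈ DD V R, cj d (cj m (R l)) = cj m (R l') := by
  obtain ⟨w, hw, e⟩ := h.bt.trans i hl hl'
  have hw' : m * w * m⁻¹ ∈ WW V (R i) :=
    conj_mem_of_normalizer (normalizer_le_WW V (R i) (centralizer_le_normalizer _ hm)) hw
  obtain ⟨d, hd, e1⟩ := exists_d g hk (φ (p (m * w * m⁻¹)) (n k))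
  refine ⟨d, hd, ?_⟩
  have h1 : cj (m * w * m⁻¹) (cj m (R l)) = cj m (R l') := by
    rw [← cj_mul, inv_mul_cancel_right, cj_mul, e]
  rw [← h1]
  ext x
  have hle : cj m (R l) ≤ VG g k := by
    rw [← hmV]
    exact cj_mono (h.bt.R_le l)
  have hdW := D_le_W V R i hd
  have key : ∀ u ∈ cj m (R l), d * u * d⁻¹ = m * w * m⁻¹ * u * (m * w * m⁻¹)⁻¹ := fun u hu =>
    conj_VG hdW hw' e1 (hle hu)
  constructor
  · rintro ⟨u, hu, rfl⟩
    exact ⟨u, hu, (key u hu).symm⟩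
  · rintro ⟨u, hu, rfl⟩
    exact ⟨u, hu, key u hu⟩

/-- `C_{V'}(D) = R i` -/
theorem fixD (g : Eig h τ y n sf q) {k : N} (hk : k ≠ 0) {x : G} (hx : x ∈ VG g k)
    (hc : ∀ d ∈ DD V R, d * x = x * d) : x ∈ R i := by
  obtain ⟨hW, c, e⟩ := mem_VG.1 hx
  obtain ⟨d, hd, e1⟩ := exists_d g hk 1
  have h1 := h.comm_eq (D_le_W V R i hd) hW
  rw [e, map_smul, e1, hc d hd] at h1
  have h2 : x * d * d⁻¹ * x⁻¹ = 1 := by group
  rw [h2, smul_eq_mul, mul_one] at h1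
  have h3 := (h.co.v_one _ _ h1.symm).1
  rw [← h.fr.p_ker x hW, e, h3, zero_smul]

end D

namespace TauDat

variable {g : Eig h τ y n sf q} {k : N} {P O : Subgroup G} {a : Fˣ} {x : G} (D : TauDat g k P O a x)
  {ρ : G} (E : RDat V R i j v w1 w2 t a ρ)
include D E

theorem conj_cen (ha : (a : F) ≠ 1) : ρ⁻¹ * x * ρ ∈ centralizer (R i : Set G) := by
  rw [mem_centralizer_iff]
  intro u hu
  obtain ⟨β, rfl⟩ := (h.co.mem_R1 u).1 hu
  have h1 : ρ⁻¹ * x * ρ * v β 0 * (ρ⁻¹ * x * ρ)⁻¹ = ρ⁻¹ * (x * (ρ * v β 0 * ρ⁻¹) * x⁻¹) * ρ := by group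
  rw [E.act, (D.Rj ha).2, ← E.act β 0] at h1
  have h2 : ρ⁻¹ * (ρ * v β 0 * ρ⁻¹) * ρ = v β 0 := by group
  rw [h2, mul_inv_eq_iff_eq_mul] at h1
  exact h1.symm

/-- **`τ₁` on the line `V₂' = (V')^ρ`** -/
theorem act_VG (ha : (a : F) ≠ 1) (hk : k ≠ 0) {w : G} (hw : w ∈ VG g k) :
    p (ρ⁻¹ * x * ρ * w * (ρ⁻¹ * x * ρ)⁻¹) = ((a : F)⁻¹ * (a : F)⁻¹) • p w := by
  set S := (gfr_of g).SG k with hS
  obtain ⟨hwW, c, hc⟩ := mem_VG.1 hw
  set T := ρ⁻¹ * x * ρ with hT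
  have hTC : T ∈ centralizer (R i : Set G) := D.conj_cen E ha
  have hTR : T ∈ normalizer (R i : Set G) := centralizer_le_normalizer _ hTC
  have hTW : T * w * T⁻¹ ∈ WW V (R i) := conj_mem_of_normalizer (normalizer_le_WW V (R i) hTR) hwW
  -- `T` commutes with `t a`
  have hTt : T * t a = t a * T := by
    have e1 : t a = ρ⁻¹ * (t a)⁻¹ * ρ := by
      have e2 : ρ⁻¹ * (t a)⁻¹ * ρ = (ρ⁻¹ * t a * ρ)⁻¹ := by group
      rw [e2, E.inv, inv_inv]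
    have e3 : x * (t a)⁻¹ = (t a)⁻¹ * x := by
      have := D.comm
      calc x * (t a)⁻¹ = (t a)⁻¹ * (t a * x) * (t a)⁻¹ := by group
        _ = (t a)⁻¹ * (x * t a) * (t a)⁻¹ := by rw [this]
        _ = (t a)⁻¹ * x := by group
    calc T * t a = ρ⁻¹ * x * ρ * (ρ⁻¹ * (t a)⁻¹ * ρ) := by rw [← e1]
      _ = ρ⁻¹ * (x * (t a)⁻¹) * ρ := by group
      _ = ρ⁻¹ * ((t a)⁻¹ * x) * ρ := by rw [e3]
      _ = (ρ⁻¹ * (t a)⁻¹ * ρ) * T := by rw [hT]; group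
      _ = t a * T := by rw [← e1]
  -- `y = w^ρ ∈ Σ`
  set u := ρ * w * ρ⁻¹ with hu
  have hcjS : cj ρ S = cj (nn w1 w2 1) S := by
    obtain ⟨y0, hy0, e⟩ := E.y0
    rw [e, cj_mul, cj_eq_self_iff.2 ((gfr_of g).Y_norm_SG h.bt h.co.ne k hy0)]
  have huS : u ∈ cj (nn w1 w2 1) S := by
    rw [← hcjS]
    exact conj_mem_cj (VG_le_SG g k hw)
  have huT : u ∈ Sig g k := (le_sup_right : cj (nn w1 w2 1) S ≤ _) huS
  have huW : u ∈ WW V (R j) := cj_SG_le g k (h.co.nn_R1 h.bt one_ne_zero) huS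
  have hxj : x ∈ normalizer (WW V (R j) : Set G) :=
    normalizer_le_WW V (R j) (cj_eq_self_iff.1 (D.Rj ha).1)
  have htj : t a * t a ∈ normalizer (WW V (R j) : Set G) :=
    mul_mem (normalizer_le_WW V (R j) (τ.normR' a.ne_zero)) (normalizer_le_WW V (R j) (τ.normR' a.ne_zero))
  -- the difference
  set z := x * u * x⁻¹ * (t a * t a * u * (t a * t a)⁻¹)⁻¹ with hz
  have hzS : z ∈ S := D.qm.eq u huT
  have hzD : z ∈ DD V R := by
    rw [h.bt.D_eq' h.co.ne]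
    exact mem_inf.2 ⟨hzS.1, mul_mem (conj_mem_of_normalizer hxj huW) (inv_mem (conj_mem_of_normalizer htj huW))⟩
  have hzZ : ρ⁻¹ * z * ρ ∈ (gfr_of g).DZ k :=
    conj_inv_mem_of_normalizer (X_DZ g k E.X) (DD_inf_SG g k hzD hzS hk)
  -- `t a` inverse action
  have htt : ρ⁻¹ * (t a * t a * u * (t a * t a)⁻¹) * ρ = (t a)⁻¹ * ((t a)⁻¹ * w * (t a)⁻¹⁻¹) * (t a)⁻¹⁻¹ := by
    rw [← E.inv, hu]; group
  have e1 : T * w * T⁻¹ = (ρ⁻¹ * z * ρ) * ((t a)⁻¹ * ((t a)⁻¹ * w * (t a)⁻¹⁻¹) * (t a)⁻¹⁻¹) := by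
    rw [← htt, hz, hT, hu]; group
  have htiR : (t a)⁻¹ ∈ normalizer (WW V (R i) : Set G) :=
    inv_mem (normalizer_le_WW V (R i) (τ.normR a.ne_zero))
  have hw1 : (t a)⁻¹ * w * (t a)⁻¹⁻¹ ∈ WW V (R i) := conj_mem_of_normalizer htiR hwW
  have hw2 : (t a)⁻¹ * ((t a)⁻¹ * w * (t a)⁻¹⁻¹) * (t a)⁻¹⁻¹ ∈ WW V (R i) := conj_mem_of_normalizer htiR hw1
  have hp1 : ∀ c' : F, ∀ w' ∈ WW V (R i), p w' = c' • n k → p ((t a)⁻¹ * w' * (t a)⁻¹⁻¹) = (c' * (a : F)⁻¹) • n k := by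
    intro c' w' hw' e
    have h1 := h.fr.p_act (tT τ a)⁻¹ w' hw'
    have h2 : (((tT τ a)⁻¹ : NR R i) : G) = (t a)⁻¹ := rfl
    rw [h2] at h1
    rw [← h1, e, inv_smul_eq_iff, h.T_lin τ, g.n_mem k a, smul_smul, mul_assoc, inv_mul_cancel₀ a.ne_zero,
      mul_one]
  have hp2 := hp1 _ _ hw1 (hp1 _ _ hwW hc)
  have e2 : p (T * w * T⁻¹) = p (ρ⁻¹ * z * ρ) + (c * (a : F)⁻¹ * (a : F)⁻¹) • n k := by
    rw [e1, h.fr.p_mul _ hzZ.1 _ hw2, hp2]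
  obtain ⟨γ, d, hd, e3⟩ := mem_eZ.1 hzZ.2
  have e4 : p (ρ⁻¹ * z * ρ) = γ • p (v 0 1) + d := e3
  -- eigenvector
  have e5 : p (T * w * T⁻¹) = (⟨T, hTR⟩ : NR R i) • p w := (h.fr.p_act ⟨T, hTR⟩ w hwW).symm
  have hcm : (⟨T, hTR⟩ : NR R i) * tT τ a = tT τ a * ⟨T, hTR⟩ := Subtype.ext hTt
  have e6 : tT τ a • p (T * w * T⁻¹) = (a : F) • p (T * w * T⁻¹) := by
    rw [e5, ← mul_smul, ← hcm, mul_smul, hc, h.T_lin τ, g.n_mem k a]
    rw [act_smul h (g := ⟨T, hTR⟩) hTC, act_smul h (g := ⟨T, hTR⟩) hTC, act_smul h (g := ⟨T, hTR⟩) hTC,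
      smul_comm]
  obtain ⟨l, hl⟩ := eig_a g ha e6
  rw [e4] at e2
  have h5 : γ • p (v 0 1) + d + n ((c * (a : F)⁻¹ * (a : F)⁻¹) • k - l) = 0 := by
    rw [map_sub, map_smul, ← hl, e2]; abel
  obtain ⟨h6, h7, -⟩ := g.indep _ _ _ (ZK_le g hd) h5
  rw [e2, h6, h7, zero_smul, zero_add, zero_add, hc, smul_smul]
  congr 1
  ring

/-- `τ₁` normalises `V₂'` -/
theorem norm_VG (ha : (a : F) ≠ 1) (hk : k ≠ 0) : ρ⁻¹ * x * ρ ∈ normalizer (VG g k : Set G) := by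
  apply mem_normalizer_of_conj
  intro w hw
  obtain ⟨hwW, c, hc⟩ := mem_VG.1 hw
  refine mem_VG.2 ⟨conj_mem_of_normalizer (normalizer_le_WW V (R i)
    (centralizer_le_normalizer _ (D.conj_cen E ha))) hwW, ((a : F)⁻¹ * (a : F)⁻¹) * c, ?_⟩
  rw [D.act_VG E ha hk hw, hc, smul_smul]

/-- no fixed points outside `R j` on `V₂'` -/
theorem fix_VG (ha : (a : F) ≠ 1) (hk : k ≠ 0) {u : G} (hu : u ∈ cj ρ (VG g k)) (hx : x * u * x⁻¹ = u) :
    u ∈ R j := by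
  have hw := mem_cj.1 hu
  set w := ρ⁻¹ * u * ρ with hw'
  obtain ⟨hwW, c, hc⟩ := mem_VG.1 hw
  have h1 := D.act_VG E ha hk hw
  have e1 : ρ⁻¹ * x * ρ * w * (ρ⁻¹ * x * ρ)⁻¹ = w := by
    calc ρ⁻¹ * x * ρ * w * (ρ⁻¹ * x * ρ)⁻¹ = ρ⁻¹ * (x * u * x⁻¹) * ρ := by rw [hw']; group
      _ = w := by rw [hx]
  rw [e1, hc, smul_smul] at h1
  have h2 : ((1 - (a : F)⁻¹ * (a : F)⁻¹) * c) • n k = 0 := by
    rw [sub_mul, one_mul, sub_smul, ← h1, sub_self]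
  have h3 : n (((1 - (a : F)⁻¹ * (a : F)⁻¹) * c) • k) = 0 := by rw [map_smul, h2]
  have h4 : (0 : F) • p (v 0 1) + 0 + n (((1 - (a : F)⁻¹ * (a : F)⁻¹) * c) • k) = 0 := by
    rw [h3, zero_smul, add_zero, add_zero]
  have h5 := (smul_eq_zero.1 (g.indep _ _ _ (h.M0 τ).zero_mem h4).2.2).resolve_right hk
  have h6 : 1 - (a : F)⁻¹ * (a : F)⁻¹ ≠ 0 := by
    intro h7
    apply h.sub_inv_ne a.ne_zero ha
    have h8 : (a : F) * (1 - (a : F)⁻¹ * (a : F)⁻¹) = a - (a : F)⁻¹ := by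
      rw [mul_sub, mul_one, ← mul_assoc, mul_inv_cancel₀ a.ne_zero, one_mul]
    rw [← h8, h7, mul_zero]
  have h7 : c = 0 := (mul_eq_zero.1 h5).resolve_left h6
  have h8 : w ∈ R i := by rw [← h.fr.p_ker w hwW, hc, h7, zero_smul]
  have h9 := conj_mem_cj (g := ρ) h8
  rw [E.ri] at h9
  rwa [hw', show ρ * (ρ⁻¹ * u * ρ) * ρ⁻¹ = u by group] at h9

end TauDat

end Cfsg.Agent.Omega.Lie.Nodes

end

section


/-!
# NODE LIE, residues `(0, j)`: existence of the apartment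

`NodeDat.exists_apt`: `m ∈ P` and `AptData V R i j l ρ m Σ`.
-/

set_option autoImplicit false
set_option linter.unusedSectionVars false

namespace Cfsg.Agent.Omega.Lie.Nodes

open Subgroup Cfsg.Agent.Omega.BTwo

universe u v w

section grp

variable {G : Type u} [Group G]

/-- the derived group of `C` centralises `Q` if `C` acts on `Q` modulo the central abelian group `A` -/
theorem derived_cen {C A Q : Subgroup G} (hA : ∀ x ∈ A, ∀ z ∈ A, x * z = z * x) (hCA : C ≤ centralizer (A : Set G))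
    (hC : ∀ c ∈ C, ∀ u ∈ Q, c * u * c⁻¹ * u⁻¹ ∈ A) : ⁅C, C⁆ ≤ centralizer (Q : Set G) := by
  have hcA : ∀ c ∈ C, ∀ x ∈ A, c * x * c⁻¹ = x := by
    intro c hc x hx
    rw [← mem_centralizer_iff.1 (hCA hc) x hx, mul_inv_cancel_right]
  -- conjugation of `x u` with `x ∈ A`, `u ∈ Q`
  have key : ∀ c ∈ C, ∀ x ∈ A, ∀ u ∈ Q, c * (x * u) * c⁻¹ = (c * u * c⁻¹ * u⁻¹) * x * u := by
    intro c hc x hx u hu
    have e : c * (x * u) * c⁻¹ = (c * x * c⁻¹) * (c * u * c⁻¹ * u⁻¹) * u := by group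
    rw [e, hcA c hc x hx, hA x hx _ (hC c hc u hu)]
  have hinv : ∀ c ∈ C, ∀ u ∈ Q, (c⁻¹ * u * c⁻¹⁻¹ * u⁻¹) * (c * u * c⁻¹ * u⁻¹) = 1 := by
    intro c hc u hu
    have hθ := hC c⁻¹ (inv_mem hc) u hu
    have h1 := key c hc _ hθ u hu
    have e : c * (c⁻¹ * u * c⁻¹⁻¹ * u⁻¹ * u) * c⁻¹ = u := by group
    rw [e] at h1
    have h2 := hA _ hθ _ (hC c hc u hu)
    rw [h2]
    exact (mul_eq_right.1 h1.symm)
  rw [commutator_le]
  intro c hc c' hc'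
  rw [commutatorElement_def, mem_centralizer_iff]
  intro u hu
  have h1 := hC c'⁻¹ (inv_mem hc') u hu
  have h2 := hC c⁻¹ (inv_mem hc) u hu
  have h3 := hC c' hc' u hu
  have h4 := hC c hc u hu
  set θ1 := c'⁻¹ * u * c'⁻¹⁻¹ * u⁻¹ with e1
  set θ2 := c⁻¹ * u * c⁻¹⁻¹ * u⁻¹ with e2
  set θ3 := c' * u * c'⁻¹ * u⁻¹ with e3
  set θ4 := c * u * c⁻¹ * u⁻¹ with e4
  have s1 : c'⁻¹ * u * c'⁻¹⁻¹ = θ1 * u := by rw [e1]; group
  have s2 : c⁻¹ * (θ1 * u) * c⁻¹⁻¹ = θ2 * θ1 * u := key c⁻¹ (inv_mem hc) θ1 h1 u hu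
  have s3 : c' * (θ2 * θ1 * u) * c'⁻¹ = θ3 * (θ2 * θ1) * u := key c' hc' _ (mul_mem h2 h1) u hu
  have s4 : c * (θ3 * (θ2 * θ1) * u) * c⁻¹ = θ4 * (θ3 * (θ2 * θ1)) * u :=
    key c hc _ (mul_mem h3 (mul_mem h2 h1)) u hu
  have i1 : θ1 * θ3 = 1 := hinv c' hc' u hu
  have i2 : θ2 * θ4 = 1 := hinv c hc u hu
  have e5 : θ4 * (θ3 * (θ2 * θ1)) = 1 := by
    calc θ4 * (θ3 * (θ2 * θ1)) = θ4 * ((θ2 * θ1) * θ3) := by rw [hA _ h3 _ (mul_mem h2 h1)]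
      _ = θ4 * θ2 * (θ1 * θ3) := by group
      _ = θ2 * θ4 := by rw [i1, mul_one, hA _ h4 _ h2]
      _ = 1 := i2
  have e6 : c * c' * c⁻¹ * c'⁻¹ * u * (c * c' * c⁻¹ * c'⁻¹)⁻¹ = u := by
    have e7 : c * c' * c⁻¹ * c'⁻¹ * u * (c * c' * c⁻¹ * c'⁻¹)⁻¹ =
        c * (c' * (c⁻¹ * (c'⁻¹ * u * c'⁻¹⁻¹) * c⁻¹⁻¹) * c'⁻¹) * c⁻¹ := by group
    rw [e7, s1, s2, s3, s4, e5, one_mul]
  exact (mul_inv_eq_iff_eq_mul.1 e6).symm

/-- a fixed-point-free element on a finite group: every element is a commutator -/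
theorem exists_comm_of_fpf [Finite G] {Q : Subgroup G} {x : G} (hx : x ∈ normalizer (Q : Set G))
    (h : ∀ u ∈ Q, x * u * x⁻¹ = u → u = 1) {u : G} (hu : u ∈ Q) : ∃ u' ∈ Q, x * u' * x⁻¹ * u'⁻¹ = u := by
  let f : Q → Q := fun u => ⟨x * u * x⁻¹ * (u : G)⁻¹, mul_mem (conj_mem_of_normalizer hx u.2) (inv_mem u.2)⟩
  have hf : Function.Injective f := by
    intro a b e
    have e1 : x * (a : G) * x⁻¹ * (a : G)⁻¹ = x * b * x⁻¹ * (b : G)⁻¹ := congrArg Subtype.val e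
    have e2 : x * ((b : G)⁻¹ * a) * x⁻¹ = (b : G)⁻¹ * a := by
      calc x * ((b : G)⁻¹ * a) * x⁻¹ = (x * b * x⁻¹)⁻¹ * (x * (a : G) * x⁻¹ * (a : G)⁻¹) * a := by group
        _ = (x * b * x⁻¹)⁻¹ * (x * b * x⁻¹ * (b : G)⁻¹) * a := by rw [e1]
        _ = (b : G)⁻¹ * a := by group
    have e3 := h _ (mul_mem (inv_mem b.2) a.2) e2
    exact (Subtype.ext (inv_mul_eq_one.1 e3)).symm
  obtain ⟨u', hu'⟩ := (Finite.injective_iff_surjective.1 hf) ⟨u, hu⟩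
  exact ⟨u', u'.2, congrArg Subtype.val hu'⟩

/-- conjugations by commuting elements commute -/
theorem conj_conj_of_comm {x m : G} (h : m * x = x * m) (w : G) :
    x * (m⁻¹ * w * m) * x⁻¹ = m⁻¹ * (x * w * x⁻¹) * m := by
  have h5 : x * m⁻¹ = m⁻¹ * x := by
    calc x * m⁻¹ = m⁻¹ * (m * x) * m⁻¹ := by group
      _ = m⁻¹ * (x * m) * m⁻¹ := by rw [h]
      _ = m⁻¹ * x := by group
  have h6 : m * x⁻¹ = x⁻¹ * m := by
    calc m * x⁻¹ = x⁻¹ * (x * m) * x⁻¹ := by group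
      _ = x⁻¹ * (m * x) * x⁻¹ := by rw [h]
      _ = x⁻¹ * m := by group
  calc x * (m⁻¹ * w * m) * x⁻¹ = (x * m⁻¹) * w * (m * x⁻¹) := by group
    _ = (m⁻¹ * x) * w * (x⁻¹ * m) := by rw [h5, h6]
    _ = _ := by group

end grp

variable {G : Type u} [Group G] {ι : Type w} {V : Subgroup G} {R : ι → Subgroup G} {i j : ι} {F : Type v}
  [Field F] {v : F → F → G} {w1 w2 : F → G} {M B : Type u} [AddCommGroup M] [AddCommGroup B]
  [DistribMulAction (NR R i) M] [DistribMulAction (NR R i) B] [Module F M] {p : G → M} {r : G → B}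
  {f : M →+ M →+ B} {φ : M →ₗ[F] M →ₗ[F] F} {s : NR R i → (F ≃+* F)} [CharP F 2]
  [Finite G] [Finite F] {h : FMod V R i j v w1 w2 M B p r f φ s} {t : F → G} {τ : Lie.TorD V R i j v t}
  {N : Type u} [AddCommGroup N] [Module F N] {P1 P2 : G → N} {y : YPair V R i j w1 w2 N P1 P2}
  {n : N →ₗ[F] M} {sf : N →ₗ[F] N →ₗ[F] M} {q : N → N →ₗ[F] F}

namespace TauDat

variable {g : Eig h τ y n sf q} {k : N} {P O : Subgroup G} {a : Fˣ} {x : G} (D : TauDat g k P O a x)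
  {ρ : G} (E : RDat V R i j v w1 w2 t a ρ)
include D E

/-- **the opposite point, fixed by `τ₁`** -/
theorem exists_pt (ha : (a : F) ≠ 1) (hk : k ≠ 0) {m : G} (hm : m ∈ centralizer (R i : Set G))
    (hmV : cj m V = VG g k) : ∃ l, l ≠ i ∧ cj x (cj (ρ * m) (R l)) = cj (ρ * m) (R l) := by
  have hmi : cj m (R i) = R i := cj_eq_self_iff.2 (centralizer_le_normalizer _ hm)
  have hρmi : cj (ρ * m) (R i) = R j := by rw [cj_mul, hmi, E.ri]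
  -- `τ₁` normalises `V₂'`
  have h1 : (ρ * m)⁻¹ * x * (ρ * m) ∈ normalizer (V : Set G) := by
    have h2 := cj_eq_self_iff.2 (D.norm_VG E ha hk)
    rw [← hmV] at h2
    rw [← cj_eq_self_iff]
    have e : (ρ * m)⁻¹ * x * (ρ * m) = m⁻¹ * (ρ⁻¹ * x * ρ * m) := by group
    rw [e, cj_mul, cj_mul, h2, cj_inv_cj]
  obtain ⟨l1, hl1⟩ := h.bt.perm _ h1 j
  have hfixi : cj ((ρ * m)⁻¹ * x * (ρ * m)) (R i) = R i := by
    rw [cj_mul, cj_mul, hρmi, (D.Rj ha).1, ← hρmi, cj_inv_cj]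
  have hl1i : l1 ≠ i := by
    rintro rfl
    exact h.co.ne.symm (h.bt.R_index (cj_injective (hl1.trans hfixi.symm)))
  have hx0 : cj x (cj (ρ * m) (R j)) = cj (ρ * m) (R l1) := by
    rw [← hl1, ← cj_mul, ← cj_mul]
    congr 1
    group
  -- `D`
  obtain ⟨d, hd, e1⟩ := trD g hk hm hmV h.co.ne.symm hl1i
  have hρD : ρ ∈ normalizer (DD V R : Set G) := h.bt.NV_le_ND (h.bt.X_le_NV E.X)
  set d1 := ρ * d * ρ⁻¹ with hd1
  have hd1D : d1 ∈ DD V R := conj_mem_of_normalizer hρD hd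
  have e2 : cj d1 (cj (ρ * m) (R j)) = cj (ρ * m) (R l1) := by
    rw [hd1, cj_mul, cj_mul, cj_mul, cj_inv_cj, e1, ← cj_mul]
  have hxD : x ∈ normalizer (DD V R : Set G) := h.bt.NV_le_ND D.NV
  set z := d1⁻¹ * x with hz
  have hzfix : cj z (cj (ρ * m) (R j)) = cj (ρ * m) (R j) := by
    rw [hz, cj_mul, hx0, ← e2, cj_inv_cj]
  have hzD : x⁻¹ * z ∈ DD V R := by
    have e : x⁻¹ * z = x⁻¹ * d1⁻¹ * x := by rw [hz]; group
    rw [e]
    exact conj_inv_mem_of_normalizer hxD (inv_mem hd1D)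
  have hD2 : IsPGroup 2 (DD V R) := (h.bt.W_isPGroup i).to_le (D_le_W V R i)
  obtain ⟨K, hK1, hK2⟩ := Apt.exists_odd_pow hxD D.odd hzD
  obtain ⟨d2, hd2, e3⟩ := Apt.conj_of_coset hD2 hxD D.odd hK1 hK2
  have hzK : cj (z ^ K) (cj (ρ * m) (R j)) = cj (ρ * m) (R j) :=
    cj_eq_self_iff.2 (pow_mem (cj_eq_self_iff.1 hzfix) K)
  have hx1 : cj x (cj d2 (cj (ρ * m) (R j))) = cj d2 (cj (ρ * m) (R j)) := by
    rw [← e3, ← cj_mul, show d2 * z ^ K * d2⁻¹ * d2 = d2 * z ^ K by group, cj_mul, hzK]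
  -- `d2 (ρ m) = (ρ m) d3`
  set d3 := (ρ * m)⁻¹ * d2 * (ρ * m) with hd3
  have hd3W : d3 ∈ WW V (R i) := by
    have e : d3 = m⁻¹ * (ρ⁻¹ * d2 * ρ) * m := by rw [hd3]; group
    rw [e]
    exact conj_inv_mem_of_normalizer (normalizer_le_WW V (R i) (centralizer_le_normalizer _ hm))
      (D_le_W V R i (conj_inv_mem_of_normalizer hρD hd2))
  obtain ⟨l, hl⟩ := h.bt.perm _ (h.bt.W_le_NV i hd3W) j
  have hli : l ≠ i := by
    rintro rfl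
    have h5 : cj d3 (R l) = R l := cj_eq_self_iff.2 (h.bt.W_le_N l hd3W)
    exact h.co.ne.symm (h.bt.R_index (cj_injective (hl.trans h5.symm)))
  refine ⟨l, hli, ?_⟩
  have e4 : cj (ρ * m) (R l) = cj d2 (cj (ρ * m) (R j)) := by
    rw [← hl, ← cj_mul, ← cj_mul]
    congr 1
    rw [hd3]; group
  rw [e4, hx1]

end TauDat

namespace NodeDat

variable {g : Eig h τ y n sf q} {k : N} {P O : Subgroup G} (d : NodeDat g k P O)
include d

/-- **existence of the apartment data** -/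
theorem exists_apt {m0 : NR R i} {β γ : F} (sw : SwapM h n sf k m0 β γ) (hm0 : (m0 : G) ∈ P) :
    ∃ (ρ m : G) (l : ι), AptData V R i j l ρ m (Sig g k) ∧ m ∈ P ∧ cj m V = VG g k ∧ cj m (VG g k) = V ∧
      (∀ b c, ρ * v b c * ρ⁻¹ = v c b) ∧ cj ρ ((gfr_of g).SG k) = cj (nn w1 w2 1) ((gfr_of g).SG k) := by
  obtain ⟨a, ha⟩ := h.exists_unit
  obtain ⟨x, D⟩ := d.exists_tau sw hm0 a
  obtain ⟨ρ, e1, e2, e3, e4, e5, e6, e7⟩ := exists_r h τ y a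
  have E : RDat V R i j v w1 w2 t a ρ := ⟨e1, e2, e3, e4, e5, e6, e7⟩
  obtain ⟨X, hX, dX⟩ := D.diag
  have hxR : x ∈ normalizer (R i : Set G) := D.NRi
  have hxS : x ∈ normalizer ((gfr_of g).SG k : Set G) := D.qm.nS
  have hxC : x ∈ cmod (R i) ((gfr_of g).SG k) := by
    rw [← hX]
    exact (mem_cmod_iff g (k := k)).2 fun m hm => dX.act hm
  -- `m`
  obtain ⟨m, hmC, hmK⟩ := Apt.exists_m (K := O) (P := P) (τ := x) (m0 := m0) d.two d.PO d.OP D.odd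
    D.nO (d.lift x D.nP D.nO fun u hu => by rw [← hX]; exact d.diag_comm dX hu) d.perf hm0
  set C := Apt.CP P x with hC
  have hCP : C ≤ P := fun c hc => (Apt.mem_CP.1 hc).1
  have hmP : m ∈ P := by
    have h1 : ⁅C, C⁆ ≤ P := by
      rw [commutator_le]
      intro u hu u' hu'
      rw [commutatorElement_def]
      exact mul_mem (mul_mem (mul_mem (hCP hu) (hCP hu')) (inv_mem (hCP hu))) (inv_mem (hCP hu'))
    exact h1 hmC
  have hmx : m * x = x * m := by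
    have h1 : ⁅C, C⁆ ≤ C := by
      rw [commutator_le]
      intro u hu u' hu'
      rw [commutatorElement_def]
      exact mul_mem (mul_mem (mul_mem hu hu') (inv_mem hu)) (inv_mem hu')
    exact (Apt.mem_CP.1 (h1 hmC)).2
  have hmCen := d.PR hmP
  have hmi : cj m (R i) = R i := cj_eq_self_iff.2 (centralizer_le_normalizer _ hmCen)
  -- `m` acts on the lines as `m₀`
  have hκ : ∀ L : Subgroup G, R i ≤ L → L ≤ (gfr_of g).SG k → cj m L = cj (m0 : G) L := by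
    intro L hRL hLS
    set κ := (m0 : G)⁻¹ * m with hκ
    have h1 : cj κ L = L := by
      rw [cj_eq_self_iff]
      apply mem_normalizer_of_conj
      intro u hu
      have h2 := mul_mem (hRL ((d.OK hmK).2 u (hLS hu))) hu
      rwa [inv_mul_cancel_right] at h2
    have e : m = m0 * κ := by rw [hκ]; group
    rw [e, cj_mul, h1]
  have hVS : V ≤ (gfr_of g).SG k := (gfr_of g).V_le_SG h.bt h.co.mem_V k
  have hmV : cj m V = VG g k := by rw [hκ V (h.bt.R_le i) hVS, sw.cj_V g]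
  have hmVG : cj m (VG g k) = V := by rw [hκ _ (R_le_VG g k) (VG_le_SG g k), sw.cj_VG g]
  have hcjS : cj ρ ((gfr_of g).SG k) = cj (nn w1 w2 1) ((gfr_of g).SG k) := by
    obtain ⟨y0, hy0, e⟩ := e1
    rw [e, cj_mul, cj_eq_self_iff.2 ((gfr_of g).Y_norm_SG h.bt h.co.ne k hy0)]
  -- the opposite point
  obtain ⟨l, hl, hfix⟩ := D.exists_pt E ha d.k0 hmCen hmV
  have hQl : cj (ρ * m) (R l) ≤ cj ρ (VG g k) := by
    rw [cj_mul, ← hmV]
    exact cj_mono (cj_mono (h.bt.R_le l))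
  have hQS : cj (ρ * m) (R l) ≤ Sig g k := by
    refine hQl.trans ((cj_mono (VG_le_SG g k)).trans ?_)
    rw [hcjS]
    exact le_sup_right
  have hfpf : ∀ u ∈ cj (ρ * m) (R l), x * u * x⁻¹ = u → u = 1 := by
    intro u hu he
    have h1 := D.fix_VG E ha d.k0 (hQl hu) he
    have h2 : R j = cj (ρ * m) (R i) := by rw [cj_mul, hmi, e3]
    rw [h2] at h1
    have h3 : u ∈ cj (ρ * m) (R l) ⊓ cj (ρ * m) (R i) := mem_inf.2 ⟨hu, h1⟩
    rw [← cj_inf, h.bt.R_inf l i hl, cj_bot] at h3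
    exact mem_bot.1 h3
  have hder : ⁅C, C⁆ ≤ centralizer ((cj (ρ * m) (R l) : Subgroup G) : Set G) := by
    refine derived_cen (A := R i) (fun u hu u' hu' => h.bt.V_comm u (h.bt.R_le i hu) u' (h.bt.R_le i hu'))
      (hCP.trans d.PR) fun c hc u hu => ?_
    obtain ⟨hcP, hcx⟩ := Apt.mem_CP.1 hc
    obtain ⟨u', hu', e⟩ := exists_comm_of_fpf (cj_eq_self_iff.1 hfix) hfpf hu
    set s' := c * u' * c⁻¹ * u'⁻¹ with hs'
    have hs'S : s' ∈ (gfr_of g).SG k := d.triv hcP (hQS hu')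
    have hcx' : c * x * c⁻¹ = x := by rw [hcx, mul_inv_cancel_right]
    have h1 : c * u * c⁻¹ = x * s' * x⁻¹ * u * s'⁻¹ := by
      calc c * u * c⁻¹ = (c * x * c⁻¹) * (c * u' * c⁻¹) * (c * x * c⁻¹)⁻¹ * (c * u' * c⁻¹)⁻¹ := by
            rw [← e]; group
        _ = x * (s' * u') * x⁻¹ * (s' * u')⁻¹ := by rw [hcx', hs']; group
        _ = x * s' * x⁻¹ * (x * u' * x⁻¹ * u'⁻¹) * s'⁻¹ := by group
        _ = _ := by rw [e]
    have hs'T : s' ∈ Sig g k := (le_sup_left : (gfr_of g).SG k ≤ _) hs'S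
    have h2 : u * s'⁻¹ = s'⁻¹ * u := d.com u (hQS hu) _ (inv_mem hs'T)
    have h3 : c * u * c⁻¹ * u⁻¹ = x * s' * x⁻¹ * s'⁻¹ := by
      rw [h1, mul_assoc (x * s' * x⁻¹), h2]; group
    rw [h3]
    exact hxC.2 s' hs'S
  have hm2 : cj m (cj (ρ * m) (R l)) = cj (ρ * m) (R l) :=
    cj_eq_self_iff.2 (centralizer_le_normalizer _ (hder hmC))
  -- `m²` fixes `R j`
  have hmmV : cj m (cj m V) = V := by rw [hmV, hmVG]
  have hmj : cj m (cj m (R j)) = R j := by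
    have hVV : ∀ u, u ∈ V ↔ m⁻¹ * (m⁻¹ * u * m) * m ∈ V := by
      intro u
      conv_lhs => rw [← hmmV]
      rw [mem_cj, mem_cj]
    ext u
    rw [mem_cj, mem_cj]
    have h4 : x * (m⁻¹ * (m⁻¹ * u * m) * m) * x⁻¹ = m⁻¹ * (m⁻¹ * (x * u * x⁻¹) * m) * m := by
      rw [conj_conj_of_comm hmx, conj_conj_of_comm hmx]
    constructor
    · intro hu
      have h1 := h.bt.R_le j hu
      have h2 := (D.cenV ha h1).2 hu
      have h3 : u ∈ V := (hVV u).2 h1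
      rw [← D.cenV ha h3]
      rw [h4] at h2
      exact mul_left_cancel (mul_right_cancel (mul_left_cancel (mul_right_cancel h2)))
    · intro hu
      have h3 := h.bt.R_le j hu
      have h1 := (hVV u).1 h3
      rw [← D.cenV ha h1]
      rw [h4, (D.cenV ha h3).2 hu]
  refine ⟨ρ, m, l, ⟨h.co.ne, e2, e3, e4, hmi, hmmV, hmj, hl, hm2, d.com, hVS.trans le_sup_left, ?_, hQS, ?_, ?_⟩,
    hmP, hmV, hmVG, e6, hcjS⟩
  · rw [hmV]
    exact (VG_le_SG g k).trans le_sup_left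
  · exact fun l' hl' => trD g d.k0 hmCen hmV h.co.ne.symm hl'
  · intro u hu hc
    rw [hmV] at hu
    exact fixD g d.k0 hu hc

end NodeDat

end Cfsg.Agent.Omega.Lie.Nodes

end

section


/-!
# Residues `(0, x)`, types `(sigma)` and `(beta)`, over a bare `BT V R`: the element `τ₁`

`AptH`: the hypotheses (`z` a torus element, `S ≤ T = Σ`, `V'` a second line through `R i`, `P ≤ C(R i)`).
`TauH`: `x = z z^{m₀} κ` of odd order, commuting with `z`, trivial on `S / R i`, `= z²` on `R i` and on `T / S`.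
-/

set_option autoImplicit false
set_option linter.unusedSectionVars false

namespace Cfsg.Agent.Omega.HOneQ

open Subgroup Cfsg.Agent.Omega.BTwo
open Cfsg.Agent.Omega.Lie.Nodes (cmod mem_cmod norm_cmod comm_mod_of_sq odd_conj)

universe u w

variable {G : Type u} [Group G] {ι : Type w}

/-- the hypotheses on the node -/
structure AptH (V : Subgroup G) (R : ι → Subgroup G) (i j : ι) (P O S T V' : Subgroup G) (z ρ m0 : G) : Prop where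
  ne : i ≠ j
  zX : z ∈ XX V R
  zi : z ∈ normalizer (R i : Set G)
  zj : z ∈ normalizer (R j : Set G)
  zo : Odd (orderOf z)
  /-- `z` fixes only two points -/
  tf : ∀ l, l ≠ i → cj z (R l) = R l → l = j
  /-- `z²` has no fixed points on `R i` -/
  zR : ∀ r ∈ R i, z * z * r * (z * z)⁻¹ = r → r = 1
  ρX : ρ ∈ XX V R
  ρi : cj ρ (R i) = R j
  ρj : cj ρ (R j) = R i
  ρz : ρ⁻¹ * z * ρ = z⁻¹
  PR : P ≤ centralizer (R i : Set G)
  zP : z ∈ normalizer (P : Set G)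
  OP : O ≤ P
  OK : O ≤ cmod (R i) S
  PO : P ≤ normalizer (O : Set G)
  zO : z ∈ normalizer (O : Set G)
  two : IsPGroup 2 O
  perf : P ≤ ⁅P, P⁆ ⊔ O
  lift : ∀ c : G, c ∈ normalizer (P : Set G) → c ∈ normalizer (O : Set G) →
    (∀ x ∈ P, c * x * c⁻¹ * x⁻¹ ∈ cmod (R i) S) → ∀ x ∈ P, c * x * c⁻¹ * x⁻¹ ∈ O
  XT : XX V R ≤ normalizer (T : Set G)
  PT : P ≤ normalizer (T : Set G)
  PS : P ≤ normalizer (S : Set G)
  zS : z ∈ normalizer (S : Set G)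
  com : ∀ x ∈ T, ∀ y ∈ T, x * y = y * x
  ST : S ≤ T
  VS : V ≤ S
  VS' : V' ≤ S
  triv : ∀ x ∈ P, ∀ s ∈ T, x * s * x⁻¹ * s⁻¹ ∈ S
  m0P : m0 ∈ P
  m0V : cj m0 V = V'
  m0V' : cj m0 V' = V
  zV' : z ∈ normalizer (V' : Set G)
  /-- `z z^{m₀}` is trivial on `S / R i` -/
  dg : ∀ s ∈ S, z * (m0 * z * m0⁻¹) * s * (z * (m0 * z * m0⁻¹))⁻¹ * s⁻¹ ∈ R i
  SD : S ⊓ WW V (R j) ≤ DD V R
  /-- `z` on `V'` is a scalar -/
  lin : ∀ w ∈ WW V (R i), ∀ y ∈ V', w * (z * y * z⁻¹) * w⁻¹ * (z * y * z⁻¹)⁻¹ = z * (w * y * w⁻¹ * y⁻¹) * z⁻¹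
  /-- `z` on `V / R i` is the inverse scalar -/
  linV : ∀ w ∈ WW V (R i), ∀ y ∈ V, w * (z * y * z⁻¹) * w⁻¹ * (z * y * z⁻¹)⁻¹ = z⁻¹ * (w * y * w⁻¹ * y⁻¹) * z
  VD : V' ⊓ DD V R ≤ R i
  dd : ∀ w ∈ WW V (R i), ∃ d ∈ DD V R, ∀ y ∈ V', d * y * d⁻¹ = w * y * w⁻¹

/-- the properties of `τ₁` -/
structure TauH (V : Subgroup G) (R : ι → Subgroup G) (i : ι) (P O S T : Subgroup G) (z x : G) : Prop where
  odd : Odd (orderOf x)
  comm : x * z = z * x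
  Ri : ∀ r ∈ R i, x * r * x⁻¹ = z * z * r * (z * z)⁻¹
  cm : x ∈ cmod (R i) S
  nP : x ∈ normalizer (P : Set G)
  nO : x ∈ normalizer (O : Set G)
  nT : x ∈ normalizer (T : Set G)
  hP : ∀ u ∈ P, x * u * x⁻¹ * u⁻¹ ∈ O
  qm : ∀ s ∈ T, x * s * x⁻¹ * (z * z * s * (z * z)⁻¹)⁻¹ ∈ S

/-- elements of `cmod A S` normalise the groups between `A` and `S` -/
theorem norm_of_cmod [Finite G] {A S L : Subgroup G} {x : G} (hx : x ∈ cmod A S) (hAL : A ≤ L) (hLS : L ≤ S) :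
    x ∈ normalizer (L : Set G) := by
  apply mem_normalizer_of_conj
  intro u hu
  have h2 := mul_mem (hAL (hx.2 u (hLS hu))) hu
  rwa [inv_mul_cancel_right] at h2

namespace AptH

variable {V : Subgroup G} {R : ι → Subgroup G} {i j : ι} {P O S T V' : Subgroup G} {z ρ m0 : G}
  (h : AptH V R i j P O S T V' z ρ m0)
include h

theorem PRN : P ≤ normalizer (R i : Set G) := h.PR.trans (centralizer_le_normalizer _)

theorem cenR {x : G} (hx : x ∈ P) {r : G} (hr : r ∈ R i) : x * r * x⁻¹ = r := by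
  rw [← mem_centralizer_iff.1 (h.PR hx) r hr, mul_inv_cancel_right]

theorem m0i : cj m0 (R i) = R i := cj_eq_self_iff.2 (h.PRN h.m0P)

theorem RV' (b : BT V R) : R i ≤ V' := by
  rw [← h.m0V, ← h.m0i]
  exact cj_mono (b.R_le i)

theorem RS (b : BT V R) : R i ≤ S := (b.R_le i).trans h.VS

theorem V'W : V' ≤ WW V (R i) := by
  rw [← h.m0V]
  exact cj_le_WW (h.PRN h.m0P)

/-- `z z^{m₀} ∈ cmod (R i) S` -/
theorem dg' : z * (m0 * z * m0⁻¹) ∈ cmod (R i) S :=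
  ⟨mul_mem h.zi (mul_mem (mul_mem (h.PRN h.m0P) h.zi) (inv_mem (h.PRN h.m0P))), h.dg⟩

theorem cmod_norm : P ≤ normalizer (cmod (R i) S : Set G) := fun _ hx => norm_cmod (h.PRN hx) (h.PS hx)

/-- **existence of `τ₁`** -/
theorem exists_tau [Finite G] : ∃ x, TauH V R i P O S T z x := by
  have hmO : m0 ∈ normalizer (O : Set G) := h.PO h.m0P
  have hmP : m0 ∈ normalizer (P : Set G) := le_normalizer h.m0P
  set ζ := m0 * z * m0⁻¹ with hζ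
  have hζO : ζ ∈ normalizer (O : Set G) := mul_mem (mul_mem hmO h.zO) (inv_mem hmO)
  have hζP : ζ ∈ normalizer (P : Set G) := mul_mem (mul_mem hmP h.zP) (inv_mem hmP)
  have hζT : ζ ∈ normalizer (T : Set G) := mul_mem (mul_mem (h.PT h.m0P) (h.XT h.zX)) (inv_mem (h.PT h.m0P))
  set w := m0 * z * m0⁻¹ * z⁻¹ with hw
  have hwP : w ∈ P := by
    have h1 := mul_mem h.m0P (conj_mem_of_normalizer h.zP (inv_mem h.m0P))
    rwa [show m0 * (z * m0⁻¹ * z⁻¹) = w by rw [hw]; group] at h1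
  have hwO : w ∈ normalizer (O : Set G) := h.PO hwP
  have hzC : z ∈ normalizer (cmod (R i) S : Set G) := norm_cmod h.zi h.zS
  have hc : z * z * w ∈ cmod (R i) S := by
    have h1 := conj_mem_of_normalizer hzC h.dg'
    rwa [show z * (z * (m0 * z * m0⁻¹)) * z⁻¹ = z * z * w by rw [hw]; group] at h1
  have hcw : ∀ x ∈ P, (z * z * w) * x * (z * z * w)⁻¹ * x⁻¹ ∈ O := by
    refine h.lift _ (mul_mem (mul_mem h.zP h.zP) (le_normalizer hwP)) (mul_mem (mul_mem h.zO h.zO) hwO)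
      fun u hu => ?_
    have h2 := mul_mem hc (conj_mem_of_normalizer (h.cmod_norm hu) (inv_mem hc))
    rwa [show z * z * w * (u * (z * z * w)⁻¹ * u⁻¹) = z * z * w * u * (z * z * w)⁻¹ * u⁻¹ by group] at h2
  have hcsq : (z * z) * w * (z * z)⁻¹ * w⁻¹ ∈ O := by
    have h4 := hcw w hwP
    rwa [show z * z * w * w * (z * z * w)⁻¹ * w⁻¹ = (z * z) * w * (z * z)⁻¹ * w⁻¹ by group] at h4
  have hcc : z * ζ * z⁻¹ * ζ⁻¹ ∈ O := by
    have h4 := comm_mod_of_sq h.zO h.zo hcsq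
    rwa [show z * w * z⁻¹ * w⁻¹ = z * ζ * z⁻¹ * ζ⁻¹ by rw [hw, hζ]; group] at h4
  obtain ⟨x', h1, h2, h3⟩ := Lie.Nodes.Apt.exists_tau h.two h.zO hζO h.zo (odd_conj h.zo) hcc
  set κ := ζ⁻¹ * x' with hκ
  have hx' : x' = ζ * κ := by rw [hκ]; group
  have hκP : κ ∈ P := h.OP h1
  have hcm : z * x' ∈ cmod (R i) S := by
    have h4 := mul_mem h.dg' (h.OK h1)
    rwa [show z * (m0 * z * m0⁻¹) * κ = z * x' by rw [hx', hζ]; group] at h4
  have hnP : z * x' ∈ normalizer (P : Set G) := by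
    rw [hx']
    exact mul_mem h.zP (mul_mem hζP (le_normalizer hκP))
  have hnO : z * x' ∈ normalizer (O : Set G) := by
    rw [hx']
    exact mul_mem h.zO (mul_mem hζO (le_normalizer h1))
  refine ⟨z * x', Lie.Nodes.Apt.odd_mul h2.symm h.zo h3, by rw [mul_assoc, h2], fun r hr => ?_, hcm, hnP, hnO,
    ?_, ?_, fun s hs => ?_⟩
  · -- on `R i`
    have e1 : z * x' * r * (z * x')⁻¹ = z * (m0 * (z * (m0⁻¹ * (κ * r * κ⁻¹) * m0⁻¹⁻¹) * z⁻¹) * m0⁻¹) * z⁻¹ := by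
      rw [hx', hζ]; group
    rw [e1, h.cenR hκP hr, h.cenR (inv_mem h.m0P) hr, h.cenR h.m0P (conj_mem_of_normalizer h.zi hr)]
    group
  · rw [hx']
    exact mul_mem (h.XT h.zX) (mul_mem hζT (h.PT hκP))
  · refine h.lift _ hnP hnO fun u hu => ?_
    have h2 := mul_mem hcm (conj_mem_of_normalizer (h.cmod_norm hu) (inv_mem hcm))
    rwa [show z * x' * (u * (z * x')⁻¹ * u⁻¹) = z * x' * u * (z * x')⁻¹ * u⁻¹ by group] at h2
  · -- on `T / S`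
    have t1 : κ * s * κ⁻¹ * s⁻¹ ∈ S := h.triv κ hκP s hs
    have hs1 : κ * s * κ⁻¹ ∈ T := conj_mem_of_normalizer (h.PT hκP) hs
    have t2 : m0⁻¹ * (κ * s * κ⁻¹) * m0⁻¹⁻¹ * (κ * s * κ⁻¹)⁻¹ ∈ S := h.triv _ (inv_mem h.m0P) _ hs1
    set s2 := m0⁻¹ * (κ * s * κ⁻¹) * m0⁻¹⁻¹ with hs2
    have hs2T : s2 ∈ T := conj_mem_of_normalizer (h.PT (inv_mem h.m0P)) hs1
    have hs3T : z * s2 * z⁻¹ ∈ T := conj_mem_of_normalizer (h.XT h.zX) hs2T
    have t3 : m0 * (z * s2 * z⁻¹) * m0⁻¹ * (z * s2 * z⁻¹)⁻¹ ∈ S := h.triv _ h.m0P _ hs3T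
    have t4 : s2 * s⁻¹ ∈ S := by
      have := mul_mem t2 t1
      rwa [show s2 * (κ * s * κ⁻¹)⁻¹ * (κ * s * κ⁻¹ * s⁻¹) = s2 * s⁻¹ by group] at this
    have e : z * x' * s * (z * x')⁻¹ * (z * z * s * (z * z)⁻¹)⁻¹ =
        (z * (m0 * (z * s2 * z⁻¹) * m0⁻¹ * (z * s2 * z⁻¹)⁻¹) * z⁻¹) * (z * (z * (s2 * s⁻¹) * z⁻¹) * z⁻¹) := by
      rw [hx', hζ, hs2]; group
    rw [e]
    exact mul_mem (conj_mem_of_normalizer h.zS t3)
      (conj_mem_of_normalizer h.zS (conj_mem_of_normalizer h.zS t4))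

end AptH

end Cfsg.Agent.Omega.HOneQ

end

section


/-!
# Residues `(0, x)`, types `(sigma)` and `(beta)`, over a bare `BT V R`: `τ₁` on the line `V₂' = (V')^ρ`

* `TauH.Rj`, `TauH.cenV` : `C_V(τ₁) = R j`;
* `AptH.tau_norm` : `ρ⁻¹ τ₁ ρ` normalises `V'`, its fixed points on `V'` are in `R i` (`AptH.tau_fix`);
* `AptH.trD`, `AptH.fixD` : `D` is transitive on the points `≠ R i` of `V'`;
* `AptH.exists_pt` : the opposite point.
-/

set_option autoImplicit false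
set_option linter.unusedSectionVars false

namespace Cfsg.Agent.Omega.HOneQ

open Subgroup Cfsg.Agent.Omega.BTwo
open Cfsg.Agent.Omega.Lie.Nodes (cmod mem_cmod norm_cmod comm_mod_of_sq odd_conj exists_comm_of_fpf)

universe u w

variable {G : Type u} [Group G] {ι : Type w} {V : Subgroup G} {R : ι → Subgroup G} {i j : ι}
  {P O S T V' : Subgroup G} {z ρ m0 : G}

/-- `[w^z, l] = [w, l]` for `w ∈ W_i` -/
def Fx (V : Subgroup G) (R : ι → Subgroup G) (i : ι) (z l : G) : Prop :=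
  ∀ w ∈ WW V (R i), z⁻¹ * w * z * l * (z⁻¹ * w * z)⁻¹ * l⁻¹ = w * l * w⁻¹ * l⁻¹

theorem Fx.conj {z l g : G} (h : Fx V R i z l) (hg : g ∈ normalizer (R i : Set G)) (hgz : g * z = z * g) :
    Fx V R i z (g * l * g⁻¹) := by
  intro w hw
  have hw' : g⁻¹ * w * g ∈ WW V (R i) := conj_inv_mem_of_normalizer (normalizer_le_WW V (R i) hg) hw
  have h1 := h _ hw'
  have e1 : g⁻¹ * (z⁻¹ * w * z) * g = z⁻¹ * (g⁻¹ * w * g) * z := by
    calc g⁻¹ * (z⁻¹ * w * z) * g = (z * g)⁻¹ * w * (z * g) := by group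
      _ = (g * z)⁻¹ * w * (g * z) := by rw [hgz]
      _ = _ := by group
  have e2 : z⁻¹ * w * z * (g * l * g⁻¹) * (z⁻¹ * w * z)⁻¹ * (g * l * g⁻¹)⁻¹ =
      g * ((g⁻¹ * (z⁻¹ * w * z) * g) * l * (g⁻¹ * (z⁻¹ * w * z) * g)⁻¹ * l⁻¹) * g⁻¹ := by group
  rw [e2, e1, h1]
  group

theorem Fx.left (b : BT V R) {z v y : G} (hz : z ∈ normalizer (R i : Set G)) (hv : v ∈ V) (hy : y ∈ WW V (R i))
    (h : Fx V R i z (v * y)) (h' : Fx V R i z y) : Fx V R i z v := by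
  intro w hw
  have key : ∀ w ∈ WW V (R i), w * (v * y) * w⁻¹ * (v * y)⁻¹ = (w * v * w⁻¹ * v⁻¹) * (w * y * w⁻¹ * y⁻¹) := by
    intro w hw
    have h1 : w * y * w⁻¹ * y⁻¹ ∈ R i := b.WW_comm i hw hy
    have h2 := b.V_comm v hv _ (b.R_le i h1)
    calc w * (v * y) * w⁻¹ * (v * y)⁻¹ = (w * v * w⁻¹) * (w * y * w⁻¹ * y⁻¹) * v⁻¹ := by group
      _ = (w * v * w⁻¹ * v⁻¹) * (v * (w * y * w⁻¹ * y⁻¹)) * v⁻¹ := by group
      _ = (w * v * w⁻¹ * v⁻¹) * ((w * y * w⁻¹ * y⁻¹) * v) * v⁻¹ := by rw [h2]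
      _ = _ := by group
  have hw' : z⁻¹ * w * z ∈ WW V (R i) := conj_inv_mem_of_normalizer (normalizer_le_WW V (R i) hz) hw
  have h1 := h w hw
  rw [key _ hw', key _ hw, h' w hw] at h1
  exact mul_right_cancel h1

namespace AptH

variable (b : BT V R) (h : AptH V R i j P O S T V' z ρ m0)
include b h

/-- `C_{V'}(W_i) = R_i` -/
theorem cen_V' {y : G} (hy : y ∈ V') (hc : ∀ w ∈ WW V (R i), w * y = y * w) : y ∈ R i := by
  have h1 : m0⁻¹ * y * m0 ∈ V := by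
    rw [← h.m0V] at hy; exact mem_cj.1 hy
  have h2 : m0⁻¹ * y * m0 ∈ R i := by
    refine b.cen_VW h1 ?_
    rw [mem_centralizer_iff]
    intro w hw
    have hw' : m0 * w * m0⁻¹ ∈ WW V (R i) :=
      conj_mem_of_normalizer (normalizer_le_WW V (R i) (h.PRN h.m0P)) hw
    have h3 := hc _ hw'
    calc w * (m0⁻¹ * y * m0) = m0⁻¹ * (m0 * w * m0⁻¹ * y) * m0 := by group
      _ = m0⁻¹ * (y * (m0 * w * m0⁻¹)) * m0 := by rw [h3]
      _ = _ := by group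
  have h3 := h.cenR h.m0P h2
  rw [show m0 * (m0⁻¹ * y * m0) * m0⁻¹ = y by group] at h3
  rw [h3]; exact h2

theorem comm_V' {w y : G} (hw : w ∈ WW V (R i)) (hy : y ∈ V') : w * y * w⁻¹ * y⁻¹ ∈ R i :=
  b.WW_comm i hw (h.V'W hy)

theorem of_fix {w y : G} (hr : w * y * w⁻¹ * y⁻¹ ∈ R i)
    (e : z * (w * y * w⁻¹ * y⁻¹) * z⁻¹ = z⁻¹ * (w * y * w⁻¹ * y⁻¹) * z) : w * y = y * w := by
  have _ := b
  have h1 := h.zR _ hr (by
    calc z * z * (w * y * w⁻¹ * y⁻¹) * (z * z)⁻¹ = z * (z * (w * y * w⁻¹ * y⁻¹) * z⁻¹) * z⁻¹ := by group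
      _ = z * (z⁻¹ * (w * y * w⁻¹ * y⁻¹) * z) * z⁻¹ := by rw [e]
      _ = _ := by group)
  rwa [mul_inv_eq_one, mul_inv_eq_iff_eq_mul] at h1

theorem of_fix' {w y : G} (hr : w * y * w⁻¹ * y⁻¹ ∈ R i)
    (e : z * (w * y * w⁻¹ * y⁻¹) * z⁻¹ = w * y * w⁻¹ * y⁻¹) : w * y = y * w := by
  refine h.of_fix b hr ?_
  have h2 : z⁻¹ * (w * y * w⁻¹ * y⁻¹) * z = w * y * w⁻¹ * y⁻¹ := by
    calc z⁻¹ * (w * y * w⁻¹ * y⁻¹) * z = z⁻¹ * (z * (w * y * w⁻¹ * y⁻¹) * z⁻¹) * z := by rw [e]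
      _ = _ := by group
  rw [e, h2]

/-- `z` has no fixed points on `V'` -/
theorem fpf_V' {y : G} (hy : y ∈ V') (e : z * y * z⁻¹ = y) : y = 1 := by
  have h1 : y ∈ R i := by
    refine h.cen_V' b hy fun w hw => ?_
    have h2 := h.lin w hw y hy
    rw [e] at h2
    exact h.of_fix' b (h.comm_V' b hw hy) h2.symm
  refine h.zR y h1 ?_
  calc z * z * y * (z * z)⁻¹ = z * (z * y * z⁻¹) * z⁻¹ := by group
    _ = y := by rw [e, e]

theorem exists_comm [Finite G] {y : G} (hy : y ∈ V') : ∃ y' ∈ V', z * y' * z⁻¹ * y'⁻¹ = y := by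
  exact exists_comm_of_fpf h.zV' (fun u hu e => h.fpf_V' b hu e) hy

theorem Fx_V' {y : G} (hy : y ∈ V') : Fx V R i z y := by
  have _ := b
  intro w hw
  have h1 := h.lin w hw y hy
  have e : w * (z * y * z⁻¹) * w⁻¹ * (z * y * z⁻¹)⁻¹ =
      z * (z⁻¹ * w * z * y * (z⁻¹ * w * z)⁻¹ * y⁻¹) * z⁻¹ := by group
  rw [e] at h1
  exact mul_left_cancel (mul_right_cancel h1)

theorem mem_R_of_Fx {v : G} (hv : v ∈ V) (hf : Fx V R i z v) : v ∈ R i := by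
  refine b.cen_VW hv ?_
  rw [mem_centralizer_iff]
  intro w hw
  refine h.of_fix b (b.WW_comm i hw (V_le_WW V (R i) hv)) ?_
  rw [← h.linV w hw v hv, ← hf w hw]
  group

end AptH

namespace TauH

variable {x : G} (D : TauH V R i P O S T z x) (b : BT V R) (h : AptH V R i j P O S T V' z ρ m0)
include D b h

theorem NV [Finite G] : x ∈ normalizer (V : Set G) := norm_of_cmod D.cm (b.R_le i) h.VS

/-- `τ₁` centralises `R j` -/
theorem Rj [Finite G] : cj x (R j) = R j ∧ ∀ r ∈ R j, x * r * x⁻¹ = r := by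
  obtain ⟨l, hl⟩ := b.perm x (D.NV b h) j
  have hli : l ≠ i := by
    rintro rfl
    have h1 : cj x (R j) = cj x (R l) := by rw [hl, cj_eq_self_iff.2 D.cm.1]
    exact h.ne.symm (b.R_index (cj_injective h1))
  have hzj : cj z (R j) = R j := cj_eq_self_iff.2 h.zj
  have hlj : l = j := by
    refine h.tf l hli ?_
    rw [← hl, ← cj_mul, ← D.comm, cj_mul, hzj]
  rw [hlj] at hl
  refine ⟨hl, fun r hr => ?_⟩
  have h1 : x * r * x⁻¹ * r⁻¹ ∈ R j := mul_mem (hl.le (conj_mem_cj hr)) (inv_mem hr)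
  have h2 : x * r * x⁻¹ * r⁻¹ ∈ R i := D.cm.2 r (h.VS (b.R_le j hr))
  exact mul_inv_eq_one.1 (b.eq_one h.ne h2 h1)

/-- the fixed points of `τ₁` on `V` -/
theorem cenV [Finite G] {u : G} (hu : u ∈ V) : x * u * x⁻¹ = u ↔ u ∈ R j := by
  refine ⟨fun e => ?_, fun hu => (D.Rj b h).2 u hu⟩
  obtain ⟨a, ha, c, hc, rfl⟩ := b.exists_mul h.ne hu
  have h1 : x * (a * c) * x⁻¹ = (x * a * x⁻¹) * (x * c * x⁻¹) := by group
  rw [h1, (D.Rj b h).2 c hc] at e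
  have h2 := mul_right_cancel e
  rw [D.Ri a ha] at h2
  rw [h.zR a ha h2, one_mul]
  exact hc

/-- `ρ⁻¹ τ₁ ρ` centralises `R i` -/
theorem conj_cen [Finite G] : ρ⁻¹ * x * ρ ∈ centralizer (R i : Set G) := by
  rw [mem_centralizer_iff]
  intro u hu
  have h1 : ρ * u * ρ⁻¹ ∈ R j := h.ρi.le (conj_mem_cj hu)
  have h2 := (D.Rj b h).2 _ h1
  have h3 : x * (ρ * u * ρ⁻¹) = ρ * u * ρ⁻¹ * x := mul_inv_eq_iff_eq_mul.1 h2
  calc u * (ρ⁻¹ * x * ρ) = ρ⁻¹ * (ρ * u * ρ⁻¹ * x) * ρ := by group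
    _ = ρ⁻¹ * (x * (ρ * u * ρ⁻¹)) * ρ := by rw [h3]
    _ = _ := by group

theorem conj_N [Finite G] : ρ⁻¹ * x * ρ ∈ normalizer (R i : Set G) :=
  centralizer_le_normalizer _ (D.conj_cen b h)

/-- `ρ⁻¹ τ₁ ρ` commutes with `z` -/
theorem conj_z : ρ⁻¹ * x * ρ * z = z * (ρ⁻¹ * x * ρ) := by
  have _ := b
  have e1 : z = ρ⁻¹ * z⁻¹ * ρ := by
    have e2 : ρ⁻¹ * z⁻¹ * ρ = (ρ⁻¹ * z * ρ)⁻¹ := by group
    rw [e2, h.ρz, inv_inv]
  have e3 : x * z⁻¹ = z⁻¹ * x := by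
    have := D.comm
    calc x * z⁻¹ = z⁻¹ * (z * x) * z⁻¹ := by group
      _ = z⁻¹ * (x * z) * z⁻¹ := by rw [this]
      _ = z⁻¹ * x := by group
  calc ρ⁻¹ * x * ρ * z = ρ⁻¹ * x * ρ * (ρ⁻¹ * z⁻¹ * ρ) := by rw [← e1]
    _ = ρ⁻¹ * (x * z⁻¹) * ρ := by group
    _ = ρ⁻¹ * (z⁻¹ * x) * ρ := by rw [e3]
    _ = (ρ⁻¹ * z⁻¹ * ρ) * (ρ⁻¹ * x * ρ) := by group
    _ = z * (ρ⁻¹ * x * ρ) := by rw [← e1]

/-- `τ₁` on `V₂'` is `z²` modulo `D` -/
theorem conj_line [Finite G] {w : G} (hw : w ∈ V') : ∃ d ∈ DD V R,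
    ρ⁻¹ * x * ρ * w * (ρ⁻¹ * x * ρ)⁻¹ = d * (z⁻¹ * (z⁻¹ * w * z) * z) := by
  set u := ρ * w * ρ⁻¹ with hu
  have huT : u ∈ T := conj_mem_of_normalizer (h.XT h.ρX) (h.ST (h.VS' hw))
  have huW : u ∈ WW V (R j) := by
    rw [← b.cj_WW h.ρi]
    exact conj_mem_cj (h.V'W hw)
  have hxj : x ∈ normalizer (WW V (R j) : Set G) := normalizer_le_WW V (R j) (cj_eq_self_iff.1 (D.Rj b h).1)
  have hzj : z * z ∈ normalizer (WW V (R j) : Set G) :=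
    mul_mem (normalizer_le_WW V (R j) h.zj) (normalizer_le_WW V (R j) h.zj)
  have hs : x * u * x⁻¹ * (z * z * u * (z * z)⁻¹)⁻¹ ∈ DD V R :=
    h.SD (mem_inf.2 ⟨D.qm u huT,
      mul_mem (conj_mem_of_normalizer hxj huW) (inv_mem (conj_mem_of_normalizer hzj huW))⟩)
  refine ⟨_, conj_inv_mem_of_normalizer (b.NV_le_ND (b.X_le_NV h.ρX)) hs, ?_⟩
  have e1 : z⁻¹ * (z⁻¹ * w * z) * z = ρ⁻¹ * (z * z * u * (z * z)⁻¹) * ρ := by
    have e2 : z⁻¹ * (z⁻¹ * w * z) * z = z⁻¹ * (z⁻¹ * w * z⁻¹⁻¹) * z⁻¹⁻¹ := by group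
    rw [e2, ← h.ρz, hu]; group
  rw [e1, hu]; group

/-- **`ρ⁻¹ τ₁ ρ` normalises `V'`** -/
theorem norm_V' [Finite G] : ρ⁻¹ * x * ρ ∈ normalizer (V' : Set G) := by
  apply mem_normalizer_of_conj
  intro w hw
  set t := ρ⁻¹ * x * ρ with ht
  have htN := D.conj_N b h
  have htz := D.conj_z b h
  rw [← ht] at htN htz
  -- `w = [z, w']`
  obtain ⟨w', hw', e⟩ := h.exists_comm b hw
  obtain ⟨d, hd, e1⟩ := D.conj_line b h hw'
  rw [← ht] at e1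
  set y := z⁻¹ * (z⁻¹ * w' * z) * z with hy
  have hyV : y ∈ V' := conj_inv_mem_of_normalizer h.zV' (conj_inv_mem_of_normalizer h.zV' hw')
  -- `t w t⁻¹ = [z, d y] = [z, d] [z, y]^{d⁻¹}`
  set y1 := z * y * z⁻¹ * y⁻¹ with hy1
  have hy1V : y1 ∈ V' := mul_mem (conj_mem_of_normalizer h.zV' hyV) (inv_mem hyV)
  have hzD : z * d * z⁻¹ * d⁻¹ ∈ V := b.XD h.zX hd
  have hdR : d * y1 * d⁻¹ * y1⁻¹ ∈ R i := h.comm_V' b (D_le_W V R i hd) hy1V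
  have e2 : t * w * t⁻¹ = z * (t * w' * t⁻¹) * z⁻¹ * (t * w' * t⁻¹)⁻¹ := by
    have e3 : t * z * t⁻¹ = z := by rw [htz, mul_inv_cancel_right]
    calc t * w * t⁻¹ = (t * z * t⁻¹) * (t * w' * t⁻¹) * (t * z * t⁻¹)⁻¹ * (t * w' * t⁻¹)⁻¹ := by rw [← e]; group
      _ = _ := by rw [e3]
  have e3 : t * w * t⁻¹ = (z * d * z⁻¹ * d⁻¹ * (d * y1 * d⁻¹ * y1⁻¹)) * y1 := by
    rw [e2, e1, hy1]; group
  set v := z * d * z⁻¹ * d⁻¹ * (d * y1 * d⁻¹ * y1⁻¹) with hv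
  have hvV : v ∈ V := mul_mem hzD (b.R_le i hdR)
  -- `v ∈ R i`
  have f1 : Fx V R i z (t * w * t⁻¹) := (h.Fx_V' b hw).conj htN htz
  rw [e3] at f1
  have f2 := Fx.left b h.zi hvV (h.V'W hy1V) f1 (h.Fx_V' b hy1V)
  have hvR := h.mem_R_of_Fx b hvV f2
  rw [e3]
  exact mul_mem (h.RV' b hvR) hy1V

/-- the fixed points of `ρ⁻¹ τ₁ ρ` on `V'` -/
theorem fix_V' [Finite G] {w : G} (hw : w ∈ V') (e : ρ⁻¹ * x * ρ * w * (ρ⁻¹ * x * ρ)⁻¹ = w) : w ∈ R i := by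
  obtain ⟨d, hd, e1⟩ := D.conj_line b h hw
  set y := z⁻¹ * (z⁻¹ * w * z) * z with hy
  have hyV : y ∈ V' := conj_inv_mem_of_normalizer h.zV' (conj_inv_mem_of_normalizer h.zV' hw)
  rw [e] at e1
  have hdR : d ∈ R i := by
    refine h.VD (mem_inf.2 ⟨?_, hd⟩)
    have : d = w * y⁻¹ := by rw [e1]; group
    rw [this]
    exact mul_mem hw (inv_mem hyV)
  refine h.cen_V' b hw fun w1 hw1 => ?_
  -- `[w1, w] = [w1, y]`
  have e2 : w1 * w * w1⁻¹ * w⁻¹ = w1 * y * w1⁻¹ * y⁻¹ := by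
    have h1 : w1 * d * w1⁻¹ = d := by
      have h2 := b.QR i w1 (b.W_le_Q i hw1) d hdR
      rw [h2, mul_inv_cancel_right]
    have h3 := b.V_comm d (b.R_le i hdR) _ (b.R_le i (h.comm_V' b hw1 hyV))
    calc w1 * w * w1⁻¹ * w⁻¹ = (w1 * d * w1⁻¹) * (w1 * y * w1⁻¹ * y⁻¹) * d⁻¹ := by rw [e1]; group
      _ = d * (w1 * y * w1⁻¹ * y⁻¹) * d⁻¹ := by rw [h1]
      _ = _ := by rw [h3]; group
  have hy1 : z⁻¹ * w * z ∈ V' := conj_inv_mem_of_normalizer h.zV' hw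
  -- `z² [w1, y] z⁻² = [w1, w]`
  have h1 := h.lin w1 hw1 y hyV
  have h2 := h.lin w1 hw1 _ hy1
  rw [show z * y * z⁻¹ = z⁻¹ * w * z by rw [hy]; group] at h1
  rw [show z * (z⁻¹ * w * z) * z⁻¹ = w by group, h1] at h2
  have hr := h.comm_V' b hw1 hw
  have h3 := h.zR _ hr (by
    rw [← e2] at h2
    conv_rhs => rw [h2]
    group)
  rwa [mul_inv_eq_one, mul_inv_eq_iff_eq_mul] at h3

end TauH

end Cfsg.Agent.Omega.HOneQ

end

section


/-!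
# Residues `(0, x)`, types `(sigma)` and `(beta)`, over a bare `BT V R`: the apartment

* `AptH.trD`, `AptH.fixD` : `D` is transitive on the points `≠ R i` of `V'`, `C_{V'}(D) = R i`;
* `AptH.exists_pt` : the opposite point;
* `AptH.exists_apt` : `AptData V R i j l ρ m T`;
* `AptH.exists_swap` : the closed apartment.
-/

set_option autoImplicit false
set_option linter.unusedSectionVars false

namespace Cfsg.Agent.Omega.HOneQ

open Subgroup Cfsg.Agent.Omega.BTwo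
open Cfsg.Agent.Omega.Lie.Nodes (cmod AptData derived_cen exists_comm_of_fpf conj_conj_of_comm)

universe u w

variable {G : Type u} [Group G] {ι : Type w} {V : Subgroup G} {R : ι → Subgroup G} {i j : ι}
  {P O S T V' : Subgroup G} {z ρ m0 : G}

namespace AptH

variable (b : BT V R) (h : AptH V R i j P O S T V' z ρ m0)
include b h

/-- `D` is transitive on the points `≠ R i` of `V'` -/
theorem trD {m : G} (hm : m ∈ normalizer (R i : Set G)) (hmV : cj m V = V') {l l' : ι} (hl : l ≠ i) (hl' : l' ≠ i) :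
    ∃ d ∈ DD V R, cj d (cj m (R l)) = cj m (R l') := by
  obtain ⟨w, hw, e⟩ := b.trans i hl hl'
  have hw' : m * w * m⁻¹ ∈ WW V (R i) := conj_mem_of_normalizer (normalizer_le_WW V (R i) hm) hw
  obtain ⟨d, hd, e1⟩ := h.dd _ hw'
  refine ⟨d, hd, ?_⟩
  have h1 : cj (m * w * m⁻¹) (cj m (R l)) = cj m (R l') := by
    rw [← cj_mul, inv_mul_cancel_right, cj_mul, e]
  rw [← h1]
  have hle : cj m (R l) ≤ V' := by
    rw [← hmV]
    exact cj_mono (b.R_le l)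
  ext x
  constructor
  · rintro ⟨u, hu, rfl⟩
    exact ⟨u, hu, (e1 u (hle hu)).symm⟩
  · rintro ⟨u, hu, rfl⟩
    exact ⟨u, hu, e1 u (hle hu)⟩

/-- `C_{V'}(D) = R i` -/
theorem fixD {x : G} (hx : x ∈ V') (hc : ∀ d ∈ DD V R, d * x = x * d) : x ∈ R i := by
  refine h.cen_V' b hx fun w hw => ?_
  obtain ⟨d, hd, e⟩ := h.dd w hw
  have h1 := e x hx
  rw [hc d hd, mul_inv_cancel_right] at h1
  exact (mul_inv_eq_iff_eq_mul.1 h1.symm)

/-- **the opposite point, fixed by `τ₁`** -/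
theorem exists_pt [Finite G] {x : G} (D : TauH V R i P O S T z x) {m : G} (hm : m ∈ normalizer (R i : Set G))
    (hmV : cj m V = V') : ∃ l, l ≠ i ∧ cj x (cj (ρ * m) (R l)) = cj (ρ * m) (R l) := by
  have hmi : cj m (R i) = R i := cj_eq_self_iff.2 hm
  have hρmi : cj (ρ * m) (R i) = R j := by rw [cj_mul, hmi, h.ρi]
  -- `τ₁` normalises `V₂'`
  have h1 : (ρ * m)⁻¹ * x * (ρ * m) ∈ normalizer (V : Set G) := by
    have h2 := cj_eq_self_iff.2 (D.norm_V' b h)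
    rw [← hmV] at h2
    rw [← cj_eq_self_iff]
    have e : (ρ * m)⁻¹ * x * (ρ * m) = m⁻¹ * (ρ⁻¹ * x * ρ * m) := by group
    rw [e, cj_mul, cj_mul, h2, cj_inv_cj]
  obtain ⟨l1, hl1⟩ := b.perm _ h1 j
  have hfixi : cj ((ρ * m)⁻¹ * x * (ρ * m)) (R i) = R i := by
    rw [cj_mul, cj_mul, hρmi, (D.Rj b h).1, ← hρmi, cj_inv_cj]
  have hl1i : l1 ≠ i := by
    rintro rfl
    exact h.ne.symm (b.R_index (cj_injective (hl1.trans hfixi.symm)))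
  have hx0 : cj x (cj (ρ * m) (R j)) = cj (ρ * m) (R l1) := by
    rw [← hl1, ← cj_mul, ← cj_mul]
    congr 1
    group
  -- `D`
  obtain ⟨d, hd, e1⟩ := h.trD b hm hmV h.ne.symm hl1i
  have hρD : ρ ∈ normalizer (DD V R : Set G) := b.NV_le_ND (b.X_le_NV h.ρX)
  set d1 := ρ * d * ρ⁻¹ with hd1
  have hd1D : d1 ∈ DD V R := conj_mem_of_normalizer hρD hd
  have e2 : cj d1 (cj (ρ * m) (R j)) = cj (ρ * m) (R l1) := by
    rw [hd1, cj_mul, cj_mul, cj_mul, cj_inv_cj, e1, ← cj_mul]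
  have hxD : x ∈ normalizer (DD V R : Set G) := b.NV_le_ND (D.NV b h)
  set g := d1⁻¹ * x with hg
  have hzfix : cj g (cj (ρ * m) (R j)) = cj (ρ * m) (R j) := by
    rw [hg, cj_mul, hx0, ← e2, cj_inv_cj]
  have hzD : x⁻¹ * g ∈ DD V R := by
    have e : x⁻¹ * g = x⁻¹ * d1⁻¹ * x := by rw [hg]; group
    rw [e]
    exact conj_inv_mem_of_normalizer hxD (inv_mem hd1D)
  have hD2 : IsPGroup 2 (DD V R) := IsPGroup.to_le ((O2_isPGroup _).to_le (b.W_le_Q i)) (D_le_W V R i)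
  obtain ⟨K, hK1, hK2⟩ := Lie.Nodes.Apt.exists_odd_pow hxD D.odd hzD
  obtain ⟨d2, hd2, e3⟩ := Lie.Nodes.Apt.conj_of_coset hD2 hxD D.odd hK1 hK2
  have hzK : cj (g ^ K) (cj (ρ * m) (R j)) = cj (ρ * m) (R j) :=
    cj_eq_self_iff.2 (pow_mem (cj_eq_self_iff.1 hzfix) K)
  have hx1 : cj x (cj d2 (cj (ρ * m) (R j))) = cj d2 (cj (ρ * m) (R j)) := by
    rw [← e3, ← cj_mul, show d2 * g ^ K * d2⁻¹ * d2 = d2 * g ^ K by group, cj_mul, hzK]
  -- `d2 (ρ m) = (ρ m) d3`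
  set d3 := (ρ * m)⁻¹ * d2 * (ρ * m) with hd3
  have hd3W : d3 ∈ WW V (R i) := by
    have e : d3 = m⁻¹ * (ρ⁻¹ * d2 * ρ) * m := by rw [hd3]; group
    rw [e]
    exact conj_inv_mem_of_normalizer (normalizer_le_WW V (R i) hm)
      (D_le_W V R i (conj_inv_mem_of_normalizer hρD hd2))
  obtain ⟨l, hl⟩ := b.perm _ (b.W_le_NV i hd3W) j
  have hli : l ≠ i := by
    rintro rfl
    have h5 : cj d3 (R l) = R l := cj_eq_self_iff.2 (b.W_le_N l hd3W)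
    exact h.ne.symm (b.R_index (cj_injective (hl.trans h5.symm)))
  refine ⟨l, hli, ?_⟩
  have e4 : cj (ρ * m) (R l) = cj d2 (cj (ρ * m) (R j)) := by
    rw [← hl, ← cj_mul, ← cj_mul]
    congr 1
    rw [hd3]; group
  rw [e4, hx1]

/-- **existence of the apartment data** -/
theorem exists_apt [Finite G] : ∃ (m : G) (l : ι), AptData V R i j l ρ m T ∧ m ∈ P ∧ cj m V = V' ∧ cj m V' = V ∧
    m0⁻¹ * m ∈ O := by
  obtain ⟨x, D⟩ := h.exists_tau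
  -- `m`
  obtain ⟨m, hmC, hmK⟩ := Lie.Nodes.Apt.exists_m (K := O) (P := P) (τ := x) (m0 := m0) h.two h.PO h.OP D.odd
    D.nO D.hP h.perf h.m0P
  set C := Lie.Nodes.Apt.CP P x with hC
  have hCP : C ≤ P := fun c hc => (Lie.Nodes.Apt.mem_CP.1 hc).1
  have hmP : m ∈ P := by
    have h1 : ⁅C, C⁆ ≤ P := by
      rw [commutator_le]
      intro u hu u' hu'
      rw [commutatorElement_def]
      exact mul_mem (mul_mem (mul_mem (hCP hu) (hCP hu')) (inv_mem (hCP hu))) (inv_mem (hCP hu'))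
    exact h1 hmC
  have hmx : m * x = x * m := by
    have h1 : ⁅C, C⁆ ≤ C := by
      rw [commutator_le]
      intro u hu u' hu'
      rw [commutatorElement_def]
      exact mul_mem (mul_mem (mul_mem hu hu') (inv_mem hu)) (inv_mem hu')
    exact (Lie.Nodes.Apt.mem_CP.1 (h1 hmC)).2
  have hmN : m ∈ normalizer (R i : Set G) := h.PRN hmP
  have hmi : cj m (R i) = R i := cj_eq_self_iff.2 hmN
  -- `m` acts on the lines as `m₀`
  have hκ : ∀ L : Subgroup G, R i ≤ L → L ≤ S → cj m L = cj m0 L := by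
    intro L hRL hLS
    have h1 : cj (m0⁻¹ * m) L = L := cj_eq_self_iff.2 (norm_of_cmod (h.OK hmK) hRL hLS)
    have e : m = m0 * (m0⁻¹ * m) := by group
    rw [e, cj_mul, h1]
  have hmV : cj m V = V' := by rw [hκ V (b.R_le i) h.VS, h.m0V]
  have hmV' : cj m V' = V := by rw [hκ _ (h.RV' b) h.VS', h.m0V']
  -- the opposite point
  obtain ⟨l, hl, hfix⟩ := h.exists_pt b D hmN hmV
  have hQl : cj (ρ * m) (R l) ≤ cj ρ V' := by
    rw [cj_mul, ← hmV]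
    exact cj_mono (cj_mono (b.R_le l))
  have hQT : cj (ρ * m) (R l) ≤ T := by
    refine hQl.trans ?_
    rw [← cj_eq_self_iff.2 (h.XT h.ρX)]
    exact cj_mono (h.VS'.trans h.ST)
  have hfpf : ∀ u ∈ cj (ρ * m) (R l), x * u * x⁻¹ = u → u = 1 := by
    intro u hu he
    have h0 := mem_cj.1 (hQl hu)
    have h1 := D.fix_V' b h h0 (by
      calc ρ⁻¹ * x * ρ * (ρ⁻¹ * u * ρ) * (ρ⁻¹ * x * ρ)⁻¹ = ρ⁻¹ * (x * u * x⁻¹) * ρ := by group
        _ = _ := by rw [he])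
    have h2 : u ∈ cj (ρ * m) (R i) := by
      rw [cj_mul, hmi, mem_cj]
      exact h1
    have h3 : u ∈ cj (ρ * m) (R l) ⊓ cj (ρ * m) (R i) := mem_inf.2 ⟨hu, h2⟩
    rw [← cj_inf, b.R_inf l i hl, cj_bot] at h3
    exact mem_bot.1 h3
  have hder : ⁅C, C⁆ ≤ centralizer ((cj (ρ * m) (R l) : Subgroup G) : Set G) := by
    refine derived_cen (A := R i) (fun u hu u' hu' => b.V_comm u (b.R_le i hu) u' (b.R_le i hu'))
      (hCP.trans h.PR) fun c hc u hu => ?_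
    obtain ⟨hcP, hcx⟩ := Lie.Nodes.Apt.mem_CP.1 hc
    obtain ⟨u', hu', e⟩ := exists_comm_of_fpf (cj_eq_self_iff.1 hfix) hfpf hu
    set s' := c * u' * c⁻¹ * u'⁻¹ with hs'
    have hs'S : s' ∈ S := h.triv c hcP _ (hQT hu')
    have hcx' : c * x * c⁻¹ = x := by rw [hcx, mul_inv_cancel_right]
    have h1 : c * u * c⁻¹ = x * s' * x⁻¹ * u * s'⁻¹ := by
      calc c * u * c⁻¹ = (c * x * c⁻¹) * (c * u' * c⁻¹) * (c * x * c⁻¹)⁻¹ * (c * u' * c⁻¹)⁻¹ := by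
            rw [← e]; group
        _ = x * (s' * u') * x⁻¹ * (s' * u')⁻¹ := by rw [hcx', hs']; group
        _ = x * s' * x⁻¹ * (x * u' * x⁻¹ * u'⁻¹) * s'⁻¹ := by group
        _ = _ := by rw [e]
    have hs'T : s' ∈ T := h.ST hs'S
    have h2 : u * s'⁻¹ = s'⁻¹ * u := h.com u (hQT hu) _ (inv_mem hs'T)
    have h3 : c * u * c⁻¹ * u⁻¹ = x * s' * x⁻¹ * s'⁻¹ := by
      rw [h1, mul_assoc (x * s' * x⁻¹), h2]; group
    rw [h3]
    exact D.cm.2 s' hs'S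
  have hm2 : cj m (cj (ρ * m) (R l)) = cj (ρ * m) (R l) :=
    cj_eq_self_iff.2 (centralizer_le_normalizer _ (hder hmC))
  -- `m²` fixes `R j`
  have hmmV : cj m (cj m V) = V := by rw [hmV, hmV']
  have hmj : cj m (cj m (R j)) = R j := by
    have hVV : ∀ u, u ∈ V ↔ m⁻¹ * (m⁻¹ * u * m) * m ∈ V := by
      intro u
      conv_lhs => rw [← hmmV]
      rw [mem_cj, mem_cj]
    ext u
    rw [mem_cj, mem_cj]
    have h4 : x * (m⁻¹ * (m⁻¹ * u * m) * m) * x⁻¹ = m⁻¹ * (m⁻¹ * (x * u * x⁻¹) * m) * m := by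
      rw [conj_conj_of_comm hmx, conj_conj_of_comm hmx]
    constructor
    · intro hu
      have h1 := b.R_le j hu
      have h2 := (D.cenV b h h1).2 hu
      have h3 : u ∈ V := (hVV u).2 h1
      rw [← D.cenV b h h3]
      rw [h4] at h2
      exact mul_left_cancel (mul_right_cancel (mul_left_cancel (mul_right_cancel h2)))
    · intro hu
      have h3 := b.R_le j hu
      have h1 := (hVV u).1 h3
      rw [← D.cenV b h h1]
      rw [h4, (D.cenV b h h3).2 hu]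
  refine ⟨m, l, ⟨h.ne, h.ρX, h.ρi, h.ρj, hmi, hmmV, hmj, hl, hm2, h.com, h.VS.trans h.ST, ?_, hQT, ?_, ?_⟩,
    hmP, hmV, hmV', hmK⟩
  · rw [hmV]
    exact h.VS'.trans h.ST
  · exact fun l' hl' => h.trD b hmN hmV h.ne.symm hl'
  · intro u hu hc
    rw [hmV] at hu
    exact h.fixD b hu hc

/-- **The closed apartment.** -/
theorem exists_swap [Finite G] : ∃ n0 m : G, n0 ∈ XX V R ∧ cj n0 (R i) = R j ∧ m ∈ P ∧ cj m V = V' ∧ cj m V' = V ∧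
    (n0 * m * n0 * m)⁻¹ * (m * n0 * m * n0) ∈ XX V R ⊓ normalizer (R i : Set G) ∧
    ∀ l, l ≠ i → ∃ d ∈ DD V R, cj d (cj m (R j)) = cj m (R l) := by
  obtain ⟨m, l, A, hmP, hmV, hmV', -⟩ := h.exists_apt b
  obtain ⟨n0, hn0X, hn0, hsw1, hsw2, -⟩ := A.exists_n b
  exact ⟨n0, m, hn0X, hn0, hmP, hmV, hmV', mem_inf.2 ⟨hsw1, cj_eq_self_iff.1 hsw2⟩, A.tr⟩

end AptH

end Cfsg.Agent.Omega.HOneQ

end

end
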