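import Cfsg.Agent.Mrg.Omega.Lie.Nodes.FratRes
import Cfsg.Agent.Mrg.Omega.Lie.Nodes.SInst
import Cfsg.Agent.Mrg.Omega.Lie.End.Zero
import Cfsg.Agent.Mrg.Omega.BTwo.ModG
import Cfsg.Agent.Mrg.Omega.Lie.End.Top
import Cfsg.Agent.Mrg.ParSys.QuadSig
import Cfsg.Agent.Mrg.Omega.HOneQ.NodeQLine
import Cfsg.Agent.Mrg.Omega.Lie.Nodes.AptR
import Cfsg.Agent.Mrg.Omega.HOneQ.ResE

-- merged: Cfsg.Agent.Mrg.Omega.Lie.Nodes.Sep
section

section


/-!
# NODE LIE, residues `(0, x)`: the field `sep`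

`z = t (m t m⁻¹)`, `m ∈ P x ∩ C(R i)` swapping the lines `V`, `V'` fixed by `T`: `z` is a scalar on `N`, hence in the kernel
of the panel of `x`, and it is `(a², 1)` resp. `(a², a⁻¹)` on `V`: fixed-point-free on `U / Q₀`.
-/

set_option autoImplicit false
set_option linter.unusedSectionVars false

namespace Cfsg.Agent.Omega.Lie.Nodes

open Subgroup Cfsg.Agent.Omega.BTwo Cfsg.Agent.ParSys

universe u v w

variable {G : Type u} [Group G] {ι : Type w} {V : Subgroup G} {R : ι → Subgroup G} {i j : ι} {F : Type v}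
  [Field F] {v : F → F → G} {w1 w2 : F → G} {B U : Subgroup G}

/-- an element of `B` with different scalars on `R i` and `V / R i` is fixed-point-free on `U / Q₀` -/
theorem fpf_of_ratio [CharP F 2] (b : BT V R) (D : Zero.Dat V R i B U) (c : Coord V R i j v w1 w2) {z : G}
    (hzB : z ∈ B) {a d : F} {ε : F → F} (ha : a ≠ 0) (hd : d ≠ 0) (had : a ≠ d)
    (hz : ∀ p r, z * v p r * z⁻¹ = v (a * p + ε r) (d * r)) :
    ∀ u ∈ U, z * u * z⁻¹ * u⁻¹ ∈ Qk B (Zero.P0 V R B) → u ∈ Qk B (Zero.P0 V R B) := by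
  intro u hu hQ
  have hBP : B ≤ Zero.P0 V R B := le_sup_right
  have huB := D.UB hu
  obtain ⟨w, hw, hc⟩ := D.UC u hu
  obtain ⟨s, hs⟩ := c.W1_act w hw
  have hu1 : ∀ p r, u * v p r * u⁻¹ = v (p + s * r) r := by
    intro p r
    have e : u * v p r * u⁻¹ = w * ((w⁻¹ * u) * v p r * (w⁻¹ * u)⁻¹) * w⁻¹ := by group
    rw [e, ← mem_centralizer_iff.1 hc _ (c.v_mem p r), mul_inv_cancel_right, hs]
  have hu2 : ∀ p r, u⁻¹ * v p r * u = v (p - s * r) r := by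
    intro p r
    have h2 := hu1 (p - s * r) r
    rw [sub_add_cancel] at h2
    rw [← h2]
    group
  have hz' : ∀ p r, z⁻¹ * v p r * z = v (a⁻¹ * (p - ε (d⁻¹ * r))) (d⁻¹ * r) := by
    intro p r
    have h2 := hz (a⁻¹ * (p - ε (d⁻¹ * r))) (d⁻¹ * r)
    rw [mul_inv_cancel_left₀ ha, sub_add_cancel, mul_inv_cancel_left₀ hd] at h2
    rw [← h2]
    group
  have h3 : (z * u * z⁻¹ * u⁻¹) * v 0 1 * (z * u * z⁻¹ * u⁻¹)⁻¹ = v ((a * d⁻¹ - 1) * s) 1 := by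
    have e : (z * u * z⁻¹ * u⁻¹) * v 0 1 * (z * u * z⁻¹ * u⁻¹)⁻¹ =
        z * (u * (z⁻¹ * (u⁻¹ * v 0 1 * u) * z) * u⁻¹) * z⁻¹ := by group
    rw [e, hu2, hz', hu1, hz]
    congr 1
    · field_simp
      ring
    · rw [mul_one, mul_inv_cancel₀ hd]
  have h4 := (Zero.mem_Qk_iff b D (hBP (Qk_le _ _ hQ))).1 hQ j
  have h5 : v ((a * d⁻¹ - 1) * s) 1 ∈ R j := by
    rw [← h3]
    exact BTwo.conj_mem_of_normalizer h4 ((c.mem_R2 _).2 ⟨1, rfl⟩)
  obtain ⟨r, hr⟩ := (c.mem_R2 _).1 h5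
  have h6 := (c.v_inj hr).1
  have h7 : s = 0 := by
    rcases mul_eq_zero.1 h6.symm with h9 | h9
    · refine absurd ?_ had
      have h10 : a * d⁻¹ = 1 := sub_eq_zero.1 h9
      field_simp at h10
      exact h10
    · exact h9
  refine Zero.cen_le_Qk b D (hBP huB) ?_
  rw [mem_centralizer_iff]
  intro x hx
  obtain ⟨p, r, rfl⟩ := (c.mem_V x).1 hx
  have h8 := hu1 p r
  rw [h7, zero_mul, add_zero] at h8
  exact (mul_inv_eq_iff_eq_mul.1 h8).symm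

/-- `SepG` from an element of the kernel of the panel `P` -/
theorem sep_of_ker [CharP F 2] [Finite G] (b : BT V R) (D : Zero.Dat V R i B U) (c : Coord V R i j v w1 w2)
    {Px : Subgroup G} (X : NodeX V R i B U Px) {z : G} (hzQ : z ∈ Qk B Px) {a d : F} {ε : F → F} (ha : a ≠ 0)
    (hd : d ≠ 0) (had : a ≠ d) (hz : ∀ p r, z * v p r * z⁻¹ = v (a * p + ε r) (d * r)) :
    SepG 2 B U Px (Zero.P0 V R B) := by
  have hzB := Qk_le _ _ hzQ
  refine Zero.sepG_of_pow Nat.prime_two X.isP D.UB X.le le_sup_right hzB (n := U.relIndex B) ?_ X.index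
    (Hall.pow_relIndex_mem X.norm hzB) (fun u hu => ?_) (fpf_of_ratio b D c hzB ha hd had hz)
  · refine Nat.pos_of_ne_zero fun h0 => ?_
    have h1 := X.index
    rw [h0] at h1
    exact absurd h1 (by decide)
  · have e : z * u * z⁻¹ * u⁻¹ = z * (u * z⁻¹ * u⁻¹) := by group
    rw [e]
    exact mul_mem hzQ (Qk_conj' (inv_mem hzQ) (X.le (D.UB hu)))

section mod

variable {M E : Type u} [AddCommGroup M] [AddCommGroup E]
  [DistribMulAction (NR R i) M] [DistribMulAction (NR R i) E] [Module F M] {p : G → M} {r : G → E}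
  {f : M →+ M →+ E} {φ : M →ₗ[F] M →ₗ[F] F} {s : NR R i → (F ≃+* F)} [CharP F 2]
  (h : FMod V R i j v w1 w2 M E p r f φ s)
include h

/-- an element of `N(R i)` fixing the line `⟨e⟩` of `M` normalises `V` -/
theorem mem_NV_of_e [Finite G] {z : NR R i} {d : F} (hz : z • p (v 0 1) = d • p (v 0 1)) :
    (z : G) ∈ normalizer (V : Set G) := by
  have b := h.bt
  apply mem_normalizer_of_le
  intro x hx
  have hxW := V_le_WW V (R i) hx
  have hzx : (z : G) * x * (z : G)⁻¹ ∈ WW V (R i) :=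
    BTwo.conj_mem_of_normalizer (normalizer_le_WW V (R i) z.2) hxW
  rw [← h.fr.p_mem_iff hzx (b.R_le i), ← h.fr.p_act z x hxW]
  obtain ⟨β, γ, rfl⟩ := (h.co.mem_V x).1 hx
  rw [h.p_v, h.semi, hz, smul_smul]
  exact h.mem_V.2 ⟨_, rfl⟩

/-- an element of `P x` which is a scalar on `N ∋ e` is in the kernel of the panel -/
theorem mem_Qk_of_scalar [Finite G] {Px : Subgroup G} (X : NodeX V R i B U Px) {N : Submodule F M}
    (hN : ∀ x : NR R i, (x : G) ∈ Px → ∀ m ∈ N, x • m ∈ N) (he : p (v 0 1) ∈ N) {z : NR R i} (hz : (z : G) ∈ Px)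
    {d : F} (hzN : ∀ m ∈ N, z • m = d • m) : (z : G) ∈ Qk B Px := by
  intro g hg
  have hgR : g ∈ normalizer (R i : Set G) := X.PR hg
  set g' : NR R i := ⟨g, hgR⟩ with hg'
  refine X.PV (mem_inf.2 ⟨mul_mem (mul_mem (inv_mem hg) hz) hg, ?_⟩)
  have h1 : (g'⁻¹ * z * g') • p (v 0 1) = s g'⁻¹ d • p (v 0 1) := by
    rw [mul_smul, mul_smul, hzN _ (hN g' hg _ he), h.semi, inv_smul_smul]
  exact mem_NV_of_e h h1

/-- the action on `V` of an element of `N(R i)` which is a scalar on `R i` and fixes the line `⟨e⟩` -/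
theorem act_V_of {z : NR R i} {a d : F} (ha : a ≠ 0) (hzR : ∀ β, (z : G) * v β 0 * (z : G)⁻¹ = v (a * β) 0)
    (hz : z • p (v 0 1) = d • p (v 0 1)) :
    ∃ ε : F → F, ∀ β γ, (z : G) * v β γ * (z : G)⁻¹ = v (a * β + ε γ) (d * γ) := by
  have b := h.bt
  have h1 : ∀ γ, ∃ ε, (z : G) * v 0 γ * (z : G)⁻¹ = v ε (d * γ) := by
    intro γ
    have hxW : v 0 γ ∈ WW V (R i) := V_le_WW V (R i) (h.co.v_mem _ _)
    have hzx : (z : G) * v 0 γ * (z : G)⁻¹ ∈ WW V (R i) :=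
      BTwo.conj_mem_of_normalizer (normalizer_le_WW V (R i) z.2) hxW
    have h2 : p ((z : G) * v 0 γ * (z : G)⁻¹) = p (v 0 (d * γ)) := by
      rw [← h.fr.p_act z _ hxW, h.p_v 0 γ, h.p_v 0 (d * γ), h.lin ha hzR, hz, smul_smul, mul_comm]
    have h3 := (h.fr.p_eq_iff hzx (V_le_WW V (R i) (h.co.v_mem _ _))).1 h2
    obtain ⟨ε, hε⟩ := (h.co.mem_R1 _).1 h3
    refine ⟨ε, ?_⟩
    have h4 : (z : G) * v 0 γ * (z : G)⁻¹ = v ε 0 * v 0 (d * γ) := by rw [hε]; group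
    rw [h4, ← h.co.v_add, add_zero, zero_add]
  choose ε hε using h1
  refine ⟨ε, fun β γ => ?_⟩
  have h2 : v β γ = v β 0 * v 0 γ := by rw [← h.co.v_add, add_zero, zero_add]
  have h3 : (z : G) * v β γ * (z : G)⁻¹ = ((z : G) * v β 0 * (z : G)⁻¹) * ((z : G) * v 0 γ * (z : G)⁻¹) := by
    rw [h2]; group
  rw [h3, hzR, hε, ← h.co.v_add, zero_add]

/-- **`sep` from a scalar** -/
theorem sep_of_scalar [Finite G] (D : Zero.Dat V R i B U) {Px : Subgroup G} (X : NodeX V R i B U Px)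
    {N : Submodule F M} (hN : ∀ x : NR R i, (x : G) ∈ Px → ∀ m ∈ N, x • m ∈ N) (he : p (v 0 1) ∈ N) {z : NR R i}
    (hz : (z : G) ∈ Px) {a d : F} (ha : a ≠ 0) (hzR : ∀ β, (z : G) * v β 0 * (z : G)⁻¹ = v (a * β) 0)
    (hd : d ≠ 0) (had : a ≠ d) (hzN : ∀ m ∈ N, z • m = d • m) : SepG 2 B U Px (Zero.P0 V R B) := by
  obtain ⟨ε, hε⟩ := act_V_of h ha hzR (hzN _ he)
  exact sep_of_ker h.bt D h.co X (mem_Qk_of_scalar h X hN he hz hzN) ha hd had hε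

variable {t : F → G} (τ : Lie.TorD V R i j v t)
include τ

/-- `t (m t m⁻¹)` on `R i` -/
theorem tmt_R {m : NR R i} (hm : (m : G) ∈ centralizer (R i : Set G)) (a : Fˣ) (β : F) :
    ((tT τ a * (m * tT τ a * m⁻¹) : NR R i) : G) * v β 0 * ((tT τ a * (m * tT τ a * m⁻¹) : NR R i) : G)⁻¹ =
      v (a * a * β) 0 := by
  have h1 : ∀ β, (m : G) * v β 0 * (m : G)⁻¹ = v β 0 := fun β => by
    rw [h.cen_aux hm, one_mul]
  have h2 : ∀ β, (m : G)⁻¹ * v β 0 * (m : G) = v β 0 := fun β => by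
    conv_lhs => rw [← h1 β]
    group
  have h3 := h.T_aux τ a
  have e : ((tT τ a * (m * tT τ a * m⁻¹) : NR R i) : G) * v β 0 * ((tT τ a * (m * tT τ a * m⁻¹) : NR R i) : G)⁻¹ =
      (tT τ a : G) * ((m : G) * ((tT τ a : G) * ((m : G)⁻¹ * v β 0 * (m : G)) * (tT τ a : G)⁻¹) * (m : G)⁻¹) *
        (tT τ a : G)⁻¹ := by
    push_cast
    group
  rw [e, h2, h3, h1, h3, mul_assoc]

/-- `t (m t m⁻¹)` on `M`: a vector `x` with `t (m⁻¹ x) = c (m⁻¹ x)` and `t x = d x` -/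
theorem tmt_eig {m : NR R i} (hm : (m : G) ∈ centralizer (R i : Set G)) (a : Fˣ) {x : M} {c d : F}
    (h1 : tT τ a • (m⁻¹ • x) = c • (m⁻¹ • x)) (h2 : tT τ a • x = d • x) :
    (tT τ a * (m * tT τ a * m⁻¹)) • x = (c * d) • x := by
  rw [mul_smul, mul_smul, mul_smul, h1, h.lin_cen hm, smul_inv_smul, h.T_lin τ, h2, smul_smul]

end mod

section eig

variable {M E : Type u} [AddCommGroup M] [AddCommGroup E]
  [DistribMulAction (NR R i) M] [DistribMulAction (NR R i) E] [Module F M] {p : G → M} {r : G → E}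
  {f : M →+ M →+ E} {φ : M →ₗ[F] M →ₗ[F] F} {s : NR R i → (F ≃+* F)} [CharP F 2]
  {h : FMod V R i j v w1 w2 M E p r f φ s} {t : F → G} {τ : Lie.TorD V R i j v t}
  {N : Type u} [AddCommGroup N] [Module F N] {P1 P2 : G → N} {y : YPair V R i j w1 w2 N P1 P2}
  {n : N →ₗ[F] M} {sf : N →ₗ[F] N →ₗ[F] M} {q : N → N →ₗ[F] F} (g : Eig h τ y n sf q)
include g

theorem swap_aux [Finite G] [Finite F] {k : N} (hk0 : k ≠ 0)
    {m : NR R i} (hN : ∀ x ∈ Ng (p (v 0 1)) n (fun a b => sf a b) k, m • x ∈ Ng (p (v 0 1)) n (fun a b => sf a b) k)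
    (hmC : (m : G) ∈ centralizer (R i : Set G)) {β γ : F} (hβ : β ≠ 0) (hγ : γ ≠ 0)
    (hme : m • p (v 0 1) = β • n k) (hmn : m • n k = γ • p (v 0 1)) {x : M} (hx : x ∈ Zg F (fun a b => sf a b) k) :
    ∃ z ∈ Zg F (fun a b => sf a b) k, ∃ r : F, m • x = z + r • n k := by
  have b := h.bt
  obtain ⟨a, ha⟩ := h.exists_unit
  have ha0 := a.ne_zero
  have hmi : m⁻¹ • n k = β⁻¹ • p (v 0 1) := by
    have h1 : m⁻¹ • (β • n k) = p (v 0 1) := by rw [← hme, inv_smul_smul]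
    have hmC' : ((m⁻¹ : NR R i) : G) ∈ centralizer (R i : Set G) := inv_mem hmC
    rw [h.lin_cen hmC'] at h1
    rw [← h1, smul_smul, inv_mul_cancel₀ hβ, one_smul]
  have hmi' : ∀ c : F, m⁻¹ • (c • p (v 0 1)) = (c * γ⁻¹) • n k := by
    intro c
    have hmC' : ((m⁻¹ : NR R i) : G) ∈ centralizer (R i : Set G) := inv_mem hmC
    have h1 : m⁻¹ • (γ • p (v 0 1)) = n k := by rw [← hmn, inv_smul_smul]
    rw [h.lin_cen hmC'] at h1
    rw [h.lin_cen hmC', ← h1, smul_smul, mul_assoc, inv_mul_cancel₀ hγ, mul_one]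
  obtain ⟨c, z, hz, r, e1⟩ := mem_Ng.1 (hN x (Zg_le_Ng hx))
  -- `m' = m⁻¹ t m` normalises `V`
  set m' : NR R i := m⁻¹ * tT τ a * m with hm'
  have hT : tT τ a • n k = (a : F) • n k := g.n_mem k a
  have hm'e : m' • p (v 0 1) = (a : F) • p (v 0 1) := by
    rw [hm', mul_smul, mul_smul, hme, h.T_lin τ, hT, smul_smul, mul_comm, ← smul_smul, ← hme]
    have hmC' : ((m⁻¹ : NR R i) : G) ∈ centralizer (R i : Set G) := inv_mem hmC
    rw [h.lin_cen hmC', inv_smul_smul]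
  have hm'V := mem_NV_of_e h hm'e
  have hD : ∀ x ∈ h.fr.sb (DD V R), m' • x ∈ h.fr.sb (DD V R) := fun x hx => h.fr.sb_smul (b.NV_le_ND hm'V) hx
  have hZM : ∀ z ∈ Zg F (fun a b => sf a b) k, z ∈ h.M0 τ := fun z hz => (nfr_of g).Zg_le hz
  have hxD : x ∈ h.fr.sb (DD V R) := h.M0_le τ y (hZM x hx)
  -- the combination
  have hTz : tT τ a • z = z := hZM z hz a
  have h1 : tT τ a • (m • x) = (c * (a : F)⁻¹) • p (v 0 1) + z + ((a : F) * r) • n k := by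
    rw [e1, smul_add, smul_add, h.T_smul_e τ, hTz, h.T_lin τ, hT, smul_smul, mul_comm r]
  have h2 : tT τ a • (tT τ a • (m • x)) = (c * (a : F)⁻¹ * (a : F)⁻¹) • p (v 0 1) + z + ((a : F) * (a : F) * r) • n k := by
    rw [h1, smul_add, smul_add, h.T_smul_e τ, hTz, h.T_lin τ, hT]
    module
  have h3 : m' • x = m⁻¹ • (tT τ a • (m • x)) := by rw [hm', mul_smul, mul_smul]
  have h4 : m' • (m' • x) = m⁻¹ • (tT τ a • (tT τ a • (m • x))) := by
    rw [h3, hm', mul_smul, mul_smul, smul_inv_smul]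
  have hmC' : ((m⁻¹ : NR R i) : G) ∈ centralizer (R i : Set G) := inv_mem hmC
  have h5 : m' • (m' • x) - (1 + (a : F)) • (m' • x) + (a : F) • x =
      m⁻¹ • ((c * (((a : F)⁻¹ - 1) * ((a : F)⁻¹ - a))) • p (v 0 1)) := by
    have h6 : (a : F) • x = m⁻¹ • ((a : F) • (m • x)) := by rw [h.lin_cen hmC', inv_smul_smul]
    rw [h4, h3, h6, ← h.lin_cen hmC', ← smul_sub, ← smul_add, h2, h1, e1]
    congr 1
    have h7 : (a : F) * (a : F)⁻¹ = 1 := mul_inv_cancel₀ ha0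
    have h8 : c * (((a : F)⁻¹ - 1) * ((a : F)⁻¹ - a)) = c * (a : F)⁻¹ * (a : F)⁻¹ - (1 + (a : F)) * (c * (a : F)⁻¹) + a * c := by
      linear_combination (-c + c) * h7
    rw [h8]
    module
  have h6 : m' • (m' • x) - (1 + (a : F)) • (m' • x) + (a : F) • x ∈ h.fr.sb (DD V R) :=
    add_mem (sub_mem (hD _ (hD _ hxD)) (h.D_smul τ y (hD _ hxD) _)) (h.D_smul τ y hxD _)
  rw [h5, hmi', ← map_smul] at h6
  have h7 : (c * (((a : F)⁻¹ - 1) * ((a : F)⁻¹ - a)) * γ⁻¹) • k = 0 := by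
    apply n_of_D g
    rw [map_zero, sub_zero]
    exact h6
  have h8 := (smul_eq_zero.1 h7).resolve_right hk0
  have h9 : c = 0 := by
    rcases mul_eq_zero.1 h8 with h9 | h9
    · rcases mul_eq_zero.1 h9 with h10 | h10
      · exact h10
      · exfalso
        rcases mul_eq_zero.1 h10 with h11 | h11
        · exact ha (inv_eq_one.1 (sub_eq_zero.1 h11))
        · refine h.sub_inv_ne ha0 ha ?_
          rw [← neg_sub, h11, neg_zero]
    · exact absurd h9 (inv_ne_zero hγ)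
  exact ⟨z, hz, r, by rw [e1, h9, zero_smul, zero_add]⟩

/-- `m ∈ C(R i)` preserving `N_k` and swapping `⟨e⟩` and `⟨n k⟩` preserves `Z_k` -/
theorem swap_Z [Finite G] [Finite F] {k : N} (hk0 : k ≠ 0)
    {m : NR R i} (hN : ∀ x ∈ Ng (p (v 0 1)) n (fun a b => sf a b) k, m • x ∈ Ng (p (v 0 1)) n (fun a b => sf a b) k)
    (hN' : ∀ x ∈ Ng (p (v 0 1)) n (fun a b => sf a b) k, m⁻¹ • x ∈ Ng (p (v 0 1)) n (fun a b => sf a b) k)
    (hmC : (m : G) ∈ centralizer (R i : Set G)) {β γ : F} (hβ : β ≠ 0) (hγ : γ ≠ 0)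
    (hme : m • p (v 0 1) = β • n k) (hmn : m • n k = γ • p (v 0 1)) {x : M} (hx : x ∈ Zg F (fun a b => sf a b) k) :
    m • x ∈ Zg F (fun a b => sf a b) k := by
  have hmC' : ((m⁻¹ : NR R i) : G) ∈ centralizer (R i : Set G) := inv_mem hmC
  have hmi : m⁻¹ • n k = β⁻¹ • p (v 0 1) := by
    have h1 : m⁻¹ • (β • n k) = p (v 0 1) := by rw [← hme, inv_smul_smul]
    rw [h.lin_cen hmC'] at h1
    rw [← h1, smul_smul, inv_mul_cancel₀ hβ, one_smul]
  have hmi' : m⁻¹ • p (v 0 1) = γ⁻¹ • n k := by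
    have h1 : m⁻¹ • (γ • p (v 0 1)) = n k := by rw [← hmn, inv_smul_smul]
    rw [h.lin_cen hmC'] at h1
    rw [← h1, smul_smul, inv_mul_cancel₀ hγ, one_smul]
  obtain ⟨z1, hz1, r, e1⟩ := swap_aux g hk0 hN hmC hβ hγ hme hmn hx
  obtain ⟨z2, hz2, r', e2⟩ := swap_aux g hk0 (m := m⁻¹) hN' hmC' (inv_ne_zero hγ) (inv_ne_zero hβ) hmi' hmi hz1
  have hZM : ∀ z ∈ Zg F (fun a b => sf a b) k, z ∈ h.M0 τ := fun z hz => (nfr_of g).Zg_le hz
  have h1 : x = z2 + r' • n k + (r * β⁻¹) • p (v 0 1) := by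
    rw [← e2, mul_smul, ← hmi, ← h.lin_cen hmC', ← smul_add, ← e1, inv_smul_smul]
  have h2 : r * β⁻¹ = 0 := by
    refine (g.indep (r * β⁻¹) (z2 - x) (r' • k) (sub_mem (hZM _ hz2) (hZM _ hx)) ?_).1
    have h3 : (r * β⁻¹) • p (v 0 1) + (z2 - x) + r' • n k = (z2 + r' • n k + (r * β⁻¹) • p (v 0 1)) - x := by abel
    rw [map_smul, h3, ← h1, sub_self]
  have h3 : r = 0 := (mul_eq_zero.1 h2).resolve_right (inv_ne_zero hβ)
  rw [e1, h3, zero_smul, add_zero]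
  exact hz1

/-- **`sep`, types `(sigma)` and `(beta)`** -/
theorem sep_four_eig [Finite G] [Finite F] (D : Zero.Dat V R i B U) {Px : Subgroup G} (X : NodeX V R i B U Px) {k : N} (hk0 : k ≠ 0)
    (hN : ∀ x : NR R i, (x : G) ∈ Px → ∀ m ∈ Ng (p (v 0 1)) n (fun a b => sf a b) k,
      x • m ∈ Ng (p (v 0 1)) n (fun a b => sf a b) k)
    {m : NR R i} (hm : (m : G) ∈ Px) (hmC : (m : G) ∈ centralizer (R i : Set G)) {β γ : F} (hβ : β ≠ 0) (hγ : γ ≠ 0)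
    (hme : m • p (v 0 1) = β • n k) (hmn : m • n k = γ • p (v 0 1)) : SepG 2 B U Px (Zero.P0 V R B) := by
  have b := h.bt
  obtain ⟨a, ha⟩ := h.exists_unit
  have ha0 := a.ne_zero
  have hmC' : ((m⁻¹ : NR R i) : G) ∈ centralizer (R i : Set G) := inv_mem hmC
  have hmi : m⁻¹ • n k = β⁻¹ • p (v 0 1) := by
    have h1 : m⁻¹ • (β • n k) = p (v 0 1) := by rw [← hme, inv_smul_smul]
    rw [h.lin_cen hmC'] at h1
    rw [← h1, smul_smul, inv_mul_cancel₀ hβ, one_smul]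
  have hmi' : m⁻¹ • p (v 0 1) = γ⁻¹ • n k := by
    have h1 : m⁻¹ • (γ • p (v 0 1)) = n k := by rw [← hmn, inv_smul_smul]
    rw [h.lin_cen hmC'] at h1
    rw [← h1, smul_smul, inv_mul_cancel₀ hγ, one_smul]
  have hT : tT τ a • n k = (a : F) • n k := g.n_mem k a
  have hZM : ∀ z ∈ Zg F (fun a b => sf a b) k, z ∈ h.M0 τ := fun z hz => (nfr_of g).Zg_le hz
  have hmi_mem : ((m⁻¹ : NR R i) : G) ∈ Px := inv_mem hm
  set z : NR R i := tT τ a * (m * tT τ a * m⁻¹) with hz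
  have hzN : ∀ x ∈ Ng (p (v 0 1)) n (fun a b => sf a b) k, z • x = (1 : F) • x := by
    intro x hx
    obtain ⟨c, d, hd, r, rfl⟩ := mem_Ng.1 hx
    have h1 : z • p (v 0 1) = p (v 0 1) := by
      rw [hz, tmt_eig h τ hmC a (c := (a : F)) (d := (a : F)⁻¹) ?_ (h.T_e τ a), mul_inv_cancel₀ ha0, one_smul]
      rw [hmi', h.T_lin τ, hT, smul_smul, smul_smul, mul_comm]
    have h2 : z • n k = n k := by
      rw [hz, tmt_eig h τ hmC a (c := (a : F)⁻¹) (d := (a : F)) ?_ hT, inv_mul_cancel₀ ha0, one_smul]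
      rw [hmi, h.T_smul_e τ, smul_smul, mul_comm]
    have h3 : z • d = d := by
      rw [hz, tmt_eig h τ hmC a (c := 1) (d := 1) ?_ (by rw [one_smul]; exact hZM d hd a), mul_one, one_smul]
      rw [one_smul]
      refine hZM _ ?_ a
      refine swap_Z g hk0 (m := m⁻¹) (fun x hx => hN m⁻¹ hmi_mem x hx) (fun x hx => by rw [inv_inv]; exact hN m hm x hx)
        hmC' (inv_ne_zero hγ) (inv_ne_zero hβ) hmi' hmi hd
    have hzR := tmt_R h τ hmC a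
    have hl := h.lin (mul_ne_zero ha0 ha0) hzR
    rw [one_smul, smul_add, smul_add, hl, hl, h1, h2, h3]
  have htB : t a ∈ B := Zero.t_mem_B b D τ ha0
  have hzP : (z : G) ∈ Px := by
    have ht : ((tT τ a : NR R i) : G) ∈ Px := X.le htB
    rw [hz]
    exact mul_mem ht (mul_mem (mul_mem hm ht) (inv_mem hm))
  refine sep_of_scalar h D X hN e_mem_Ng hzP (a := (a : F) * a) (mul_ne_zero ha0 ha0) (tmt_R h τ hmC a) one_ne_zero
    ?_ hzN
  intro h1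
  refine h.sub_inv_ne ha0 ha ?_
  rw [sub_eq_zero]
  exact eq_inv_of_mul_eq_one_left h1

omit [AddCommGroup N] [Module F N] g in
/-- **`sep`, type `(alpha)`, `|F| > 4`** -/
theorem sep_three_eig [Finite G] (h : FMod V R i j v w1 w2 M E p r f φ s) (τ : Lie.TorD V R i j v t)
    (D : Zero.Dat V R i B U) {Px : Subgroup G} (X : NodeX V R i B U Px) {d : M} (hd : d ∈ h.M0 τ)
    (hN : ∀ x : NR R i, (x : G) ∈ Px → ∀ m ∈ Submodule.span F {p (v 0 1)} ⊔ Submodule.span F {d},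
      x • m ∈ Submodule.span F {p (v 0 1)} ⊔ Submodule.span F {d})
    {m : NR R i} (hm : (m : G) ∈ Px) (hmC : (m : G) ∈ centralizer (R i : Set G)) {β γ : F} (hβ : β ≠ 0) (hγ : γ ≠ 0)
    (hme : m • p (v 0 1) = β • d) (hmd : m • d = γ • p (v 0 1)) (h3 : ∃ a : F, a ≠ 0 ∧ a ^ 3 ≠ 1) :
    SepG 2 B U Px (Zero.P0 V R B) := by
  have b := h.bt
  obtain ⟨a', ha', ha3⟩ := h3
  set a : Fˣ := Units.mk0 a' ha' with haa
  have ha0 := a.ne_zero
  have ha3' : (a : F) ^ 3 ≠ 1 := ha3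
  have hmC' : ((m⁻¹ : NR R i) : G) ∈ centralizer (R i : Set G) := inv_mem hmC
  have hmi : m⁻¹ • d = β⁻¹ • p (v 0 1) := by
    have h1 : m⁻¹ • (β • d) = p (v 0 1) := by rw [← hme, inv_smul_smul]
    rw [h.lin_cen hmC'] at h1
    rw [← h1, smul_smul, inv_mul_cancel₀ hβ, one_smul]
  have hmi' : m⁻¹ • p (v 0 1) = γ⁻¹ • d := by
    have h1 : m⁻¹ • (γ • p (v 0 1)) = d := by rw [← hmd, inv_smul_smul]
    rw [h.lin_cen hmC'] at h1
    rw [← h1, smul_smul, inv_mul_cancel₀ hγ, one_smul]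
  have hT : tT τ a • d = d := hd a
  set z : NR R i := tT τ a * (m * tT τ a * m⁻¹) with hz
  have hzN : ∀ x ∈ Submodule.span F {p (v 0 1)} ⊔ Submodule.span F {d}, z • x = (a : F)⁻¹ • x := by
    intro x hx
    obtain ⟨x1, hx1, x2, hx2, rfl⟩ := Submodule.mem_sup.1 hx
    obtain ⟨c, rfl⟩ := Submodule.mem_span_singleton.1 hx1
    obtain ⟨c', rfl⟩ := Submodule.mem_span_singleton.1 hx2
    have h1 : z • p (v 0 1) = (a : F)⁻¹ • p (v 0 1) := by
      rw [hz, tmt_eig h τ hmC a (c := 1) (d := (a : F)⁻¹) ?_ (h.T_e τ a), one_mul]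
      rw [hmi', h.T_lin τ, hT, one_smul]
    have h2 : z • d = (a : F)⁻¹ • d := by
      rw [hz, tmt_eig h τ hmC a (c := (a : F)⁻¹) (d := 1) ?_ (by rw [one_smul]; exact hT), mul_one]
      rw [hmi, h.T_smul_e τ, smul_smul, mul_comm]
    have hzR := tmt_R h τ hmC a
    have hl := h.lin (mul_ne_zero ha0 ha0) hzR
    rw [smul_add, hl, hl, h1, h2]
    module
  have htB : t a ∈ B := Zero.t_mem_B b D τ ha0
  have hzP : (z : G) ∈ Px := by
    have ht : ((tT τ a : NR R i) : G) ∈ Px := X.le htB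
    rw [hz]
    exact mul_mem ht (mul_mem (mul_mem hm ht) (inv_mem hm))
  refine sep_of_scalar h D X hN (Submodule.mem_sup_left (Submodule.mem_span_singleton_self _)) hzP (a := (a : F) * a)
    (mul_ne_zero ha0 ha0) (tmt_R h τ hmC a) (inv_ne_zero ha0) ?_ hzN
  intro h1
  apply ha3'
  have h2 : (a : F) * a * a = (a : F)⁻¹ * a := by rw [h1]
  rw [inv_mul_cancel₀ ha0] at h2
  rw [← h2]
  ring

end eig

end Cfsg.Agent.Omega.Lie.Nodes

end

section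


/-!
# NODE LIE, the END: the field `frat` for the residues `(0, x)` in helper627's `FMod`, `Eig`
-/

set_option autoImplicit false
set_option linter.unusedSectionVars false

namespace Cfsg.Agent.Omega.Lie.Nodes

open Subgroup Cfsg.Agent.Omega.BTwo Cfsg.Agent.ParSys

universe u v w

variable {G : Type u} [Group G] {ι : Type w} {V : Subgroup G} {R : ι → Subgroup G} {i j : ι} {F : Type v}
  [Field F] {v : F → F → G} {w1 w2 : F → G} {M E : Type u} [AddCommGroup M] [AddCommGroup E]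
  [DistribMulAction (NR R i) M] [DistribMulAction (NR R i) E] [Module F M] {p : G → M} {r : G → E}
  {f : M →+ M →+ E} {φ : M →ₗ[F] M →ₗ[F] F} {s : NR R i → (F ≃+* F)} [CharP F 2]
  [Finite G] [Finite F] {h : FMod V R i j v w1 w2 M E p r f φ s} {t : F → G} {τ : Lie.TorD V R i j v t}
  {N : Type u} [AddCommGroup N] [Module F N] {P1 P2 : G → N} {y : YPair V R i j w1 w2 N P1 P2}
  {n : N →ₗ[F] M} {sf : N →ₗ[F] N →ₗ[F] M} {q : N → N →ₗ[F] F} {B U : Subgroup G} {I : Type*}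
  {P : I → Subgroup G} {o x : I}

/-- **`frat` for a quadrangle** (types `(sigma)`, `(beta)`), `N_k = e + s(k, ·) + ⟨n k⟩`, `Σ = SG k ⊔ (SG k)^n`. -/
theorem frat_four_eig (g : Eig h τ y n sf q) (D : Zero.Dat V R i B U) (hPo : P o = Zero.P0 V R B)
    (X : NodeX V R i B U (P x)) (poly : Polygon B P o x 4) {k : N} (hk0 : k ≠ 0)
    (key : ∀ a : NR R i, (a : G) ∈ UU V R j → (∃ c : F, P2 (a : G) = c • k) → ∀ m, a • m - m ∈
      Ng (p (v 0 1)) n (fun a b => sf a b) k)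
    (hne : ∃ κ, sf k κ ≠ 0 ∨ q κ k ≠ 0)
    (hP : P x ≤ normalizer (((gfr_of g).SG k ⊔ cj (nn w1 w2 1) ((gfr_of g).SG k) : Subgroup G) : Set G))
    {y0 : G} (hy0 : y0 ∈ P x) (hy0B : y0 ∉ B)
    (hq : ∃ (a c : F) (z : M), z ∈ h.M0 τ ∧ c ≠ 0 ∧ p (y0 * v 0 1 * y0⁻¹) = a • p (v 0 1) + z + c • n k)
    (tr1 : ∀ y' ∈ P x, y' ∉ B → ∃ u ∈ UU V R j, (u * y0)⁻¹ * y' ∈ B) :
    ∀ Z ≤ U, (∀ u ∈ U, ∃ z ∈ Z, z⁻¹ * u ∈ Qk B (P o) ∧ z⁻¹ * u ∈ Qk B (P x)) →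
      ∀ u ∈ U, ∃ z ∈ Z, z⁻¹ * u ∈ Qk B (P o ⊔ P x) := by
  have hk : Key (p (v 0 1)) n (fun a b => sf a b) (alp h y) k := by
    intro c m
    obtain ⟨a, ha, hak⟩ := exists_ak h y (c • k)
    rw [← hak, alp_apply h y ha]
    exact key a ha ⟨c, hak⟩ m
  have hs0 : q 0 k = 0 := by
    have := sh_sq g 0 0 k
    rwa [zero_smul, mul_zero, zero_mul] at this
  obtain ⟨a, c, z, hz, hc, hq⟩ := hq
  exact (gfr_of g).frat_four h.btc y h.co D hPo X poly h.four hk hs0 h.e_ne hne hP hy0 hy0B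
    ((gfr_of g).exists_D_ne h.bt y h.co hk0 (X.PR hy0) hz hc hq) tr1

/-- **`frat` for a plane** (type `(alpha)`), `N = e + ⟨d⟩`, `d ∈ M0`. -/
theorem frat_three_eig (g : Eig h τ y n sf q) (D : Zero.Dat V R i B U) (hPo : P o = Zero.P0 V R B)
    (X : NodeX V R i B U (P x)) (poly : Polygon B P o x 3) {d : M} (hd : d ∈ h.M0 τ)
    (hP : P x ≤ normalizer (pre (gfr_of g).fr (Submodule.span F {p (v 0 1)} ⊔ Submodule.span F {d}) : Set G))
    {y0 : G} (hy0 : y0 ∈ P x) (hy0B : y0 ∉ B)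
    (tr1 : ∀ y' ∈ P x, y' ∉ B → ∃ u ∈ UU V R j, (u * y0)⁻¹ * y' ∈ B) :
    ∀ Z ≤ U, (∀ u ∈ U, ∃ z ∈ Z, z⁻¹ * u ∈ Qk B (P o) ∧ z⁻¹ * u ∈ Qk B (P x)) →
      ∀ u ∈ U, ∃ z ∈ Z, z⁻¹ * u ∈ Qk B (P o ⊔ P x) := by
  have heN : p (v 0 1) ∈ Submodule.span F {p (v 0 1)} ⊔ Submodule.span F {d} :=
    Submodule.mem_sup_left (Submodule.mem_span_singleton_self _)
  exact (gfr_of g).frat_three h.btc y h.co D hPo X poly _ (fun m hm hf => (gfr_of g).fixed_alpha h.e_ne hd hm hf)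
    heN ((gfr_of g).X_norm_pre h.bt y h.co heN
      (sup_le_sup_left ((Submodule.span_singleton_le_iff_mem d _).2 hd) _)) hP hy0 hy0B tr1

end Cfsg.Agent.Omega.Lie.Nodes

end

end

-- merged: Cfsg.Agent.Mrg.Omega.Lie.Nodes.Res0
section

/-!
# NODE LIE, residues `(0, x)`, types `(sigma)` and `(beta)`: assembly

`QOut g k Q`: the output of the node theorem for the group `Q = P⁺ ≤ C(R i)`.

* `norm_of_gen`: `Σ = ⟨V^L⟩` is normalised by what normalises `V` and `L`;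
* `QOut.norm_sigma`: `P x = P⁺ B` normalises `Σ`;
* `QOut.quad`: `Quad B P₀ (P x) (R i) V (W i)`;
* `QOut.res0`: the structure `Res0`.
-/

set_option autoImplicit false
set_option linter.unusedSectionVars false

namespace Cfsg.Agent.Omega.Lie.Nodes

open Subgroup Cfsg.Agent.Omega.BTwo Cfsg.Agent.ParSys
open scoped Pointwise

universe u v w

/-- `S = ⟨V^L⟩` is normalised by what normalises `V` and `L` -/
theorem norm_of_gen {G : Type u} [Group G] [Finite G] {V L S : Subgroup G} (hVS : V ≤ S)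
    (hLS : L ≤ normalizer (S : Set G)) (hS : S ≤ ⨆ g : L, cj (g : G) V) {x : G} (hx : x ∈ normalizer (V : Set G))
    (hxL : x ∈ normalizer (L : Set G)) : x ∈ normalizer (S : Set G) := by
  have h1 : cj x S ≤ S := by
    refine (cj_mono hS).trans ?_
    rw [cj_iSup]
    refine iSup_le fun g => ?_
    have h2 : cj x (cj (g : G) V) = cj (x * g * x⁻¹) V := by
      conv_rhs => rw [← cj_eq_self_iff.2 hx]
      rw [← cj_mul, ← cj_mul, inv_mul_cancel_right]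
    rw [h2]
    have h3 : x * g * x⁻¹ ∈ L := BTwo.conj_mem_of_normalizer hxL g.2
    have h4 := cj_eq_self_iff.2 (hLS h3)
    rw [← h4]
    exact cj_mono hVS
  apply mem_normalizer_of_le
  intro z hz
  exact h1 (conj_mem_cj hz)

variable {G : Type u} [Group G] {ι : Type w} {V : Subgroup G} {R : ι → Subgroup G} {i j : ι} {F : Type v}
  [Field F] {v : F → F → G} {w1 w2 : F → G} {M E : Type u} [AddCommGroup M] [AddCommGroup E]
  [DistribMulAction (NR R i) M] [DistribMulAction (NR R i) E] [Module F M] {p : G → M} {r : G → E}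
  {f : M →+ M →+ E} {φ : M →ₗ[F] M →ₗ[F] F} {s : NR R i → (F ≃+* F)} [CharP F 2]
  [Finite G] [Finite F] {h : FMod V R i j v w1 w2 M E p r f φ s} {t : F → G} {τ : Lie.TorD V R i j v t}
  {N : Type u} [AddCommGroup N] [Module F N] {P1 P2 : G → N} {y : YPair V R i j w1 w2 N P1 P2}
  {n : N →ₗ[F] M} {sf : N →ₗ[F] N →ₗ[F] M} {q : N → N →ₗ[F] F}

/-- **The output of the node theorem**, types `(sigma)` and `(beta)`, for `Q = P⁺ ≤ C(R i)` -/
structure QOut (g : Eig h τ y n sf q) (k : N) (Q : Subgroup G) : Prop where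
  ne : k ≠ 0
  QR : Q ≤ centralizer (R i : Set G)
  UQ : UU V R j ≤ Q
  key : ∀ a : NR R i, (a : G) ∈ UU V R j → (∃ c : F, P2 (a : G) = c • k) → ∀ m, a • m - m ∈
      Ng (p (v 0 1)) n (fun a b => sf a b) k
  QN : ∀ x : NR R i, (x : G) ∈ Q → ∀ m ∈ Ng (p (v 0 1)) n (fun a b => sf a b) k,
      x • m ∈ Ng (p (v 0 1)) n (fun a b => sf a b) k
  S : ∀ x : NR R i, (x : G) ∈ Q → ∀ a : NR R i, (a : G) ∈ UU V R j → (∃ c : F, P2 (a : G) = c • k) →
      ∀ m : M, x • a • m = a • x • m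
  span : Ng (p (v 0 1)) n (fun a b => sf a b) k ≤ Submodule.span F
      {m | ∃ x : NR R i, (x : G) ∈ Q ∧ m = x • p (v 0 1)}
  hne : ∃ κ, sf k κ ≠ 0 ∨ q κ k ≠ 0
  /-- `A` is transitive on `Ω - {e}` -/
  tr : ∀ x : NR R i, (x : G) ∈ Q → (x : G) ∉ normalizer (V : Set G) →
    ∃ u : NR R i, (u : G) ∈ UU V R j ∧ ∃ c : F, c ≠ 0 ∧ x • p (v 0 1) = c • u • n k
  /-- an element which swaps `⟨e⟩` and `⟨n k⟩` -/
  swap : ∃ m : NR R i, (m : G) ∈ Q ∧ ∃ β γ : F, β ≠ 0 ∧ γ ≠ 0 ∧ m • p (v 0 1) = β • n k ∧ m • n k = γ • p (v 0 1)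

variable {B U Px Q : Subgroup G} {k : N} {g : Eig h τ y n sf q}

/-- `Px = P⁺ B` -/
structure QPx (V : Subgroup G) (R : ι → Subgroup G) (i : ι) (B U Px Q : Subgroup G) : Prop where
  dat : Zero.Dat V R i B U
  X : NodeX V R i B U Px
  QP : Q ≤ Px
  BQ : B ≤ normalizer (Q : Set G)
  PQ : Px ≤ Q ⊔ B

theorem QPx.exists_mul (K : QPx V R i B U Px Q) {x : G} (hx : x ∈ Px) : ∃ z ∈ Q, z⁻¹ * x ∈ B := by
  have h1 : x ∈ ((Q ⊔ B : Subgroup G) : Set G) := K.PQ hx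
  rw [coe_mul_of_right_le_normalizer_left _ _ K.BQ] at h1
  obtain ⟨z, hz, b, hb, rfl⟩ := h1
  exact ⟨z, hz, by rw [inv_mul_cancel_left]; exact hb⟩

namespace QOut

variable (O : QOut g k Q) (K : QPx V R i B U Px Q)
include O K

/-- an element of `B` stabilises the line `⟨e⟩` -/
theorem e_B {x : NR R i} (hx : (x : G) ∈ B) : ∃ c : F, x • p (v 0 1) = c • p (v 0 1) := by
  have _ := O
  have hv : v 0 1 ∈ V := h.co.v_mem _ _
  obtain ⟨β, γ, e1⟩ := (h.co.mem_V _).1 (BTwo.conj_mem_of_normalizer (K.dat.BV hx) hv)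
  refine ⟨γ, ?_⟩
  rw [h.fr.p_act x _ (V_le_WW V (R i) hv), ← e1, h.p_v]

theorem notMem_B {x : G} (hxP : x ∈ Px) : x ∉ B ↔ x ∉ normalizer (V : Set G) := by
  have _ := O
  exact not_congr ⟨fun hx => K.dat.BV hx, fun hx => K.X.PV (mem_inf.2 ⟨hxP, hx⟩)⟩

/-- `m ∉ B` for a swap -/
theorem swap_notMem {m : NR R i} {β : F} (hβ : β ≠ 0) (hme : m • p (v 0 1) = β • n k) : (m : G) ∉ B := by
  intro hmB
  obtain ⟨c, hc⟩ := O.e_B K hmB
  rw [hc] at hme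
  have h1 := g.indep c 0 (-(β • k)) (h.M0 τ).zero_mem (by rw [add_zero, map_neg, map_smul, hme]; abel)
  exact (smul_ne_zero hβ O.ne) (neg_eq_zero.1 h1.2.2)

/-- **`A` is transitive on the chambers `≠ B` of the panel** -/
theorem tr1 {m : NR R i} (hm : (m : G) ∈ Px) {β : F} (hβ : β ≠ 0) (hme : m • p (v 0 1) = β • n k)
    (hmC : (m : G) ∈ centralizer (R i : Set G)) :
    ∀ y' ∈ Px, y' ∉ B → ∃ u ∈ UU V R j, (u * (m : G))⁻¹ * y' ∈ B := by
  intro y' hy' hy'B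
  obtain ⟨z, hz, hzy⟩ := K.exists_mul hy'
  have hzP := K.QP hz
  have hzB : z ∉ B := fun h0 => hy'B (by
    have := mul_mem h0 hzy
    rwa [mul_inv_cancel_left] at this)
  have hzR : z ∈ normalizer (R i : Set G) := centralizer_le_normalizer _ (O.QR hz)
  obtain ⟨u, hu, c, hc, e1⟩ := O.tr ⟨z, hzR⟩ hz ((O.notMem_B K hzP).1 hzB)
  refine ⟨u, hu, ?_⟩
  have huC : ((u : NR R i) : G) ∈ centralizer (R i : Set G) := cen_of_U h y hu
  have humC : ((u * m : NR R i) : G) ∈ centralizer (R i : Set G) := mul_mem huC hmC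
  have h1 : ((u * m)⁻¹ * ⟨z, hzR⟩ : NR R i) • p (v 0 1) = (c * β⁻¹) • p (v 0 1) := by
    have h2 : n k = β⁻¹ • (m • p (v 0 1)) := by rw [hme, smul_smul, inv_mul_cancel₀ hβ, one_smul]
    have humC' : (((u * m)⁻¹ : NR R i) : G) ∈ centralizer (R i : Set G) := inv_mem humC
    rw [mul_smul, e1, h2, h.lin_cen huC, ← mul_smul u m, smul_smul, h.lin_cen humC', inv_smul_smul]
  have h2 := mem_NV_of_e h h1
  have hum : (u : G) * (m : G) ∈ Px := mul_mem (K.QP (O.UQ hu)) hm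
  have h3 : ((u : G) * (m : G))⁻¹ * z ∈ B := K.X.PV (mem_inf.2 ⟨mul_mem (inv_mem hum) hzP, h2⟩)
  have := mul_mem h3 hzy
  rwa [show ((u : G) * (m : G))⁻¹ * z * (z⁻¹ * y') = ((u : G) * (m : G))⁻¹ * y' by group] at this

/-- **`P x` normalises `Σ`** -/
theorem norm_sigma (hQ : QQ (R i) = WW V (R i)) :
    Px ≤ normalizer (((gfr_of g).SG k ⊔ cj (nn w1 w2 1) ((gfr_of g).SG k) : Subgroup G) : Set G) := by
  have b := h.bt
  obtain ⟨hX, hQS, -, -, -⟩ := sigma_main g hQ O.key O.QR O.QN O.S O.span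
  set Sig := (gfr_of g).SG k ⊔ cj (nn w1 w2 1) ((gfr_of g).SG k) with hSig
  have hVS : V ≤ (gfr_of g).SG k := (gfr_of g).V_le_SG b h.co.mem_V k
  have hsp : (gfr_of g).SG k ≤ ⨆ x : Q, cj (x : G) V := by
    refine (gfr_of g).SG_le_iSup b h.co.mem_V (O.QR.trans (centralizer_le_normalizer _)) ?_
    refine O.span.trans (Submodule.span_mono ?_)
    rintro m ⟨x, hx, rfl⟩
    exact ⟨x, hx, actL h (O.QR hx), fun z hz => (h.fr.p_act _ z hz).symm, rfl⟩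
  have hB : B ≤ normalizer (Sig : Set G) := by
    intro x hx
    refine norm_of_gen (V := V) (L := XX V R ⊔ Q) (hVS.trans le_sup_left) (sup_le hX hQS) ?_ (K.dat.BV hx) ?_
    · refine sup_le (hsp.trans (iSup_le fun x => ?_)) ?_
      · exact le_iSup (fun g : (XX V R ⊔ Q : Subgroup G) => cj (g : G) V) ⟨x, (le_sup_right : Q ≤ _) x.2⟩
      · refine (cj_mono hsp).trans ?_
        rw [cj_iSup]
        refine iSup_le fun x => ?_
        rw [← cj_mul]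
        exact le_iSup (fun g : (XX V R ⊔ Q : Subgroup G) => cj (g : G) V)
          ⟨nn w1 w2 1 * x, mul_mem ((le_sup_left : XX V R ≤ _) (h.co.nn_mem_X b 1)) ((le_sup_right : Q ≤ _) x.2)⟩
    · rw [← cj_eq_self_iff, cj_sup, cj_eq_self_iff.2 (b.NV_le_NX (K.dat.BV hx)), cj_eq_self_iff.2 (K.BQ hx)]
  exact K.PQ.trans (sup_le hQS hB)

/-- `P x` normalises `SG k` -/
theorem norm_SG (hQ : QQ (R i) = WW V (R i)) : Px ≤ normalizer ((gfr_of g).SG k : Set G) := by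
  have hk : Key (p (v 0 1)) n (fun a b => sf a b) (alp h y) k := by
    intro c m
    obtain ⟨a, ha, hak⟩ := exists_ak h y (c • k)
    rw [← hak, alp_apply h y ha]
    exact O.key a ha ⟨c, hak⟩ m
  intro x hx
  exact (gfr_of g).norm_SG h.btc y h.co hk (O.norm_sigma K hQ hx) (K.X.PR hx)

/-- `P x` preserves `N_k` -/
theorem PN (hQ : QQ (R i) = WW V (R i)) : ∀ x : NR R i, (x : G) ∈ Px →
    ∀ m ∈ Ng (p (v 0 1)) n (fun a b => sf a b) k, x • m ∈ Ng (p (v 0 1)) n (fun a b => sf a b) k := by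
  intro x hx m hm
  obtain ⟨z, hz, rfl⟩ := (fr_of h).surj m
  have h1 : z ∈ (gfr_of g).SG k := ⟨hz, hm⟩
  have h2 := BTwo.conj_mem_of_normalizer (O.norm_SG K hQ hx) h1
  rw [h.fr.p_act x z hz]
  exact h2.2

/-- **no triangles**: `Quad B P₀ (P x) (R i) V (W i)` -/
theorem quad : Quad B (Zero.P0 V R B) Px (R i) V (WW V (R i)) where
  leA := le_sup_right
  leB := K.X.le
  inf := fun x hx => K.X.PV (mem_inf.2 ⟨(mem_inf.1 hx).2, Zero.P0_le h.bt K.dat (mem_inf.1 hx).1⟩)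
  aV := fun x hx z hz => BTwo.conj_mem_of_normalizer (Zero.P0_le h.bt K.dat hx) hz
  bR := fun x hx z hz => BTwo.conj_mem_of_normalizer (K.X.PR hx) hz
  bW := fun x hx z hz => BTwo.conj_mem_of_normalizer (normalizer_le_WW V (R i) (K.X.PR hx)) hz
  RV := h.bt.R_le i
  VW := V_le_WW V (R i)
  ne := by
    refine ⟨v 1 0, (h.co.mem_R1 _).2 ⟨1, rfl⟩, fun h0 => ?_⟩
    exact one_ne_zero (h.co.v_one _ _ h0).1
  aR := by
    intro x hx hxB z hz hxz
    obtain ⟨l, hl, e1⟩ := (Zero.not_mem_B_iff h.bt K.dat hx).1 hxB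
    have h1 : x * z * x⁻¹ ∈ R l := by rw [← e1]; exact conj_mem_cj hz
    have h2 : x * z * x⁻¹ ∈ R l ⊓ R i := mem_inf.2 ⟨h1, hxz⟩
    rw [h.bt.R_inf l i hl, mem_bot] at h2
    rw [← mul_left_inj x⁻¹, ← mul_right_inj x, ← mul_assoc, h2]
    group
  bV := by
    have b := h.bt
    intro x hx hxB x' hx' hx'B z hz w hw e1
    have hxz : x * z * x⁻¹ ∈ WW V (R i) :=
      BTwo.conj_mem_of_normalizer (normalizer_le_WW V (R i) (K.X.PR hx)) (V_le_WW V (R i) hz)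
    obtain ⟨l, hl, e2⟩ := (Zero.not_mem_B_iff b K.dat hx').1 hx'B
    have h2 : x * z * x⁻¹ ∈ DD V R := by
      rw [b.D_eq' (Ne.symm hl)]
      refine mem_inf.2 ⟨hxz, ?_⟩
      rw [e1, ← b.cj_WW e2]
      exact conj_mem_cj hw
    obtain ⟨m, hm, β, γ, hβ, hγ, hme, hmn⟩ := O.swap
    obtain ⟨u, hu, hux⟩ := O.tr1 K (K.QP hm) hβ hme (O.QR hm) x hx hxB
    set b' := (u * (m : G))⁻¹ * x with hb'
    have hz' : b' * z * b'⁻¹ ∈ V := BTwo.conj_mem_of_normalizer (K.dat.BV hux) hz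
    obtain ⟨a', c, e3⟩ := (h.co.mem_V _).1 hz'
    have huN : u ∈ normalizer (R i : Set G) := centralizer_le_normalizer _ (cen_of_U h y (a := ⟨u, b.cen_le_N i (UU_le_cen j hu)⟩) hu)
    set u' : NR R i := ⟨u, huN⟩ with hu'
    have e4 : x * z * x⁻¹ = ((u' * m : NR R i) : G) * v a' c * ((u' * m : NR R i) : G)⁻¹ := by
      have e5 : ((u' * m : NR R i) : G) = u * (m : G) := rfl
      rw [e3, hb', e5]
      group
    have hvW : v a' c ∈ WW V (R i) := V_le_WW V (R i) (h.co.v_mem _ _)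
    have humC : ((u' * m : NR R i) : G) ∈ centralizer (R i : Set G) :=
      mul_mem (cen_of_U h y (a := u') hu) (O.QR hm)
    have h3 : p (x * z * x⁻¹) = (c * β) • (u' • n k) := by
      rw [e4, ← h.fr.p_act _ _ hvW, h.p_v, h.lin_cen humC, mul_smul u' m, hme, h.lin_cen (cen_of_U h y (a := u') hu),
        smul_smul]
    have h4 : p (x * z * x⁻¹) ∈ h.fr.sb (DD V R) := ⟨_, h2, hxz, rfl⟩
    rw [h3, g.A_1 u' hu k] at h4
    obtain ⟨γ', d, hd, e5⟩ := (g.mem_D _).1 h4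
    have h5 := g.indep (c * β * q (P2 u) k - γ') ((c * β) • sf k (P2 u) - d) ((c * β) • k)
      ((h.M0 τ).sub_mem ((h.M0 τ).smul_mem _ (g.sf_mem _ _)) hd) (by
        rw [map_smul]
        have e6 : (c * β * q (P2 u) k - γ') • p (v 0 1) + ((c * β) • sf k (P2 u) - d) + (c * β) • n k =
            (c * β) • (n k + sf k (P2 u) + q (P2 u) k • p (v 0 1)) - (γ' • p (v 0 1) + d) := by module
        rw [e6, sub_eq_zero]
        exact e5)
    have h6 : c = 0 := by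
      rcases smul_eq_zero.1 h5.2.2 with h7 | h7
      · exact (mul_eq_zero.1 h7).resolve_right hβ
      · exact absurd h7 O.ne
    rw [h6, zero_mul, zero_smul] at h3
    exact ((fr_of h).zero _ hxz).1 h3

/-- **The residue `(0, x)`, types `(sigma)` and `(beta)`** -/
theorem res0 (hQ : QQ (R i) = WW V (R i)) {J : Type} {P : J → Subgroup G} {x : J} (hx : P x = Px) {ν m : G}
    (hm : m ∈ Px) (hmB : m ∉ B) (hν : ν ∈ XX V R) (hνR : cj ν (R i) = R j) {m' x1 x2 x3 x4 : G}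
    (sw : Swap B (Zero.P0 V R B) Px ν m m' x1 x2 x3 x4)
    (cnt : (PanS B (Zero.P0 V R B)).ncard * ((PanS B Px).ncard * (PanS B (Zero.P0 V R B)).ncard) ≤
      (MulAut.conj (ν * m * ν) • Px).relIndex (WW V (R i))) : End.Res0 V R B U P x 4 := by
  have b := h.bt
  obtain ⟨m0, hm0, β, γ, hβ, hγ, hme, hmn⟩ := O.swap
  have hm0P := K.QP hm0
  have tr := O.tr1 K hm0P hβ hme (O.QR hm0)
  have qn : QuadN B (Zero.P0 V R B) Px (R i) V (WW V (R i)) (WW V (R i)) ν m m' x1 x2 x3 x4 :=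
    { O.quad K, sw with
      n_mem := (le_sup_left : XX V R ≤ _) hν
      n_not := (Zero.not_mem_B_iff b K.dat ((le_sup_left : XX V R ≤ _) hν)).2 ⟨j, h.co.ne.symm, hνR⟩
      m_mem := hm
      m_not := hmB
      tb := by
        intro x hx hxB
        obtain ⟨u, hu, h1⟩ := tr x hx hxB
        obtain ⟨u', hu', h2⟩ := tr m hm hmB
        refine ⟨u * u'⁻¹, K.dat.UB (mul_mem ?_ (inv_mem ?_)), ?_⟩
        · exact ((UU_le_YY j).trans K.X.YU) hu
        · exact ((UU_le_YY j).trans K.X.YU) hu'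
        · have := mul_mem (inv_mem h2) h1
          rwa [show ((u' * (m0 : G))⁻¹ * m)⁻¹ * ((u * (m0 : G))⁻¹ * x) = (u * u'⁻¹ * m)⁻¹ * x by group] at this
      O_le := K.dat.WU.trans K.dat.UB
      O_triv := fun o ho x hx => K.dat.UB (K.dat.WU
        (BTwo.conj_inv_mem_of_normalizer (normalizer_le_WW V (R i) (K.X.PR hx)) ho))
      cnt := cnt }
  have poly : Polygon B (End.PPo V R B P) none (some x) 4 := by
    subst hx
    exact QuadN.polygon (P := End.PPo V R B P) (a := none) (b := some x) qn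
  have X' : NodeX V R i B U (End.PPo V R B P (some x)) := by
    have e : End.PPo V R B P (some x) = Px := hx
    rw [e]
    exact K.X
  refine ⟨poly, ?_, ?_⟩
  · intro Z hZ h1
    have h2 := frat_four_eig g K.dat (P := End.PPo V R B P) (o := none) (x := some x) rfl X' poly O.ne O.key O.hne
      (by rw [show End.PPo V R B P (some x) = Px from hx]; exact O.norm_sigma K hQ)
      (y0 := (m0 : G)) (by rw [show End.PPo V R B P (some x) = Px from hx]; exact hm0P)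
      (O.swap_notMem K hβ hme) ⟨0, β, 0, (h.M0 τ).zero_mem, hβ, by
        rw [zero_smul, zero_add, zero_add, ← hme, h.fr.p_act _ _ (V_le_WW V (R i) (h.co.v_mem 0 1))]⟩
      (by rw [show End.PPo V R B P (some x) = Px from hx]; exact tr) Z hZ (by
        intro u hu
        obtain ⟨z, hz, h3, h4⟩ := h1 u hu
        exact ⟨z, hz, h4, h3⟩)
    intro u hu
    obtain ⟨z, hz, h3⟩ := h2 u hu
    refine ⟨z, hz, ?_⟩
    rw [sup_comm]
    exact h3
  · left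
    rw [hx]
    exact sep_four_eig g K.dat K.X O.ne (O.PN K hQ) hm0P (O.QR hm0) hβ hγ hme hmn

end QOut

end Cfsg.Agent.Omega.Lie.Nodes

end

-- merged: Cfsg.Agent.Mrg.Omega.Lie.Nodes.NodeThm
section

section


/-!
# NODE LIE, TEXT NODES (#14331) (N): the node theorem on `FMod`, `Eig`

`P ≤ C(R i)`, `U j ≤ P`, normalised by the torus, `U j` transitive on the lines `V^x ≠ V` (`x ∈ P`), at least three lines.

* `Eig.nodeFr` : the abstract frame `NodeFr`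
* `Eig.node` : the four cases
* `card_om_Lin` : `|Lin V P| (q - 1) = |Om|`
-/

set_option autoImplicit false
set_option linter.unusedSectionVars false

namespace Cfsg.Agent.Omega.Lie.Nodes

open Subgroup Cfsg.Agent.Omega.BTwo

universe u v w

variable {G : Type u} [Group G] {ι : Type w} {V : Subgroup G} {R : ι → Subgroup G} {i j : ι} {F : Type v}
  [Field F] {v : F → F → G} {w1 w2 : F → G} {M B : Type u} [AddCommGroup M] [AddCommGroup B]
  [DistribMulAction (NR R i) M] [DistribMulAction (NR R i) B] [Module F M] {p : G → M} {r : G → B}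
  {f : M →+ M →+ B} {φ : M →ₗ[F] M →ₗ[F] F} {s : NR R i → (F ≃+* F)} [CharP F 2]

section line

variable (h : FMod V R i j v w1 w2 M B p r f φ s) [Finite G]
include h

/-- `g` normalises `V` iff it fixes the point `⟨e⟩` -/
theorem norm_V_iff {g : NR R i} : (g : G) ∈ normalizer (V : Set G) ↔ ∃ c : F, g • p (v 0 1) = c • p (v 0 1) := by
  have hVW := V_le_WW V (R i)
  constructor
  · intro hg
    have h1 := h.fr.sb_smul hg (h.mem_V.2 ⟨1, one_smul F (p (v 0 1))⟩)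
    obtain ⟨c, hc⟩ := h.mem_V.1 h1
    exact ⟨c, hc.symm⟩
  · rintro ⟨c, hc⟩
    refine mem_normalizer_of_conj fun z hz => ?_
    have h1 : g • p z ∈ h.fr.sb V := by
      obtain ⟨γ, hγ⟩ := h.mem_V.1 (h.fr.p_mem (hVW hz) hz)
      rw [← hγ, h.semi, hc, smul_smul]
      exact h.mem_V.2 ⟨_, rfl⟩
    rw [h.fr.p_act g z (hVW hz)] at h1
    exact (h.fr.p_mem_iff (conj_mem_of_normalizer (normalizer_le_WW V (R i) g.2) (hVW hz)) (h.bt.R_le i)).1 h1

/-- the line `V^x` and the point `⟨x e⟩` -/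
theorem line_iff {x x' : NR R i} (hx : (x' : G) ∈ centralizer (R i : Set G)) :
    cj (x : G) V = cj (x' : G) V ↔ ∃ c : F, x • p (v 0 1) = c • (x' • p (v 0 1)) := by
  have h1 : cj (x : G) V = cj (x' : G) V ↔ ((x'⁻¹ * x : NR R i) : G) ∈ normalizer (V : Set G) := by
    rw [← cj_eq_self_iff]
    constructor
    · intro e
      change cj ((x' : G)⁻¹ * (x : G)) V = V
      rw [cj_mul, e, cj_inv_cj]
    · intro e
      change cj ((x' : G)⁻¹ * (x : G)) V = V at e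
      rw [cj_mul] at e
      rw [← e, cj_cj_inv, e]
  rw [h1, norm_V_iff h]
  refine exists_congr fun c => ?_
  rw [mul_smul, inv_smul_eq_iff, h.lin_cen hx]

end line

section inst

variable [Finite G] [Finite F] {h : FMod V R i j v w1 w2 M B p r f φ s} {t : F → G} {τ : Lie.TorD V R i j v t}
  {N : Type u} [AddCommGroup N] [Module F N] {P1 P2 : G → N} {y : YPair V R i j w1 w2 N P1 P2}
  {n : N →ₗ[F] M} {sf : N →ₗ[F] N →ₗ[F] M} {q : N → N →ₗ[F] F} (g : Eig h τ y n sf q)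

/-- the hypotheses on the group `P` of the node -/
structure NodeP (V : Subgroup G) (R : ι → Subgroup G) (i j : ι) (t : F → G) (P : Subgroup G) : Prop where
  cen : P ≤ centralizer (R i : Set G)
  U_le : UU V R j ≤ P
  tor : ∀ a : F, a ≠ 0 → ∀ x ∈ P, t a * x * (t a)⁻¹ ∈ P
  tr : ∀ x ∈ P, ∀ x' ∈ P, cj x V ≠ V → cj x' V ≠ V → ∃ a ∈ UU V R j, cj a (cj x V) = cj x' V
  three : ∃ x ∈ P, ∃ x' ∈ P, cj x V ≠ V ∧ cj x' V ≠ V ∧ cj x V ≠ cj x' V

variable {P : Subgroup G} (hP : NodeP V R i j t P)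

/-- the group `P` in `N(R i)` -/
def PN (R : ι → Subgroup G) (i : ι) (P : Subgroup G) : Subgroup (NR R i) := P.subgroupOf (NR R i)

omit [Finite G] in
theorem mem_PN {x : NR R i} : x ∈ PN R i P ↔ (x : G) ∈ P := Iff.rfl

include hP

omit [Finite G] [Finite F] [CharP F 2] in
theorem NodeP.le_N : P ≤ NR R i := hP.cen.trans (centralizer_le_normalizer _)

include g

/-- **the frame of the node theorem** -/
theorem nodeFr_of : NodeFr (F := F) (p (v 0 1)) (φ.flip (p (v 0 1))) (h.M0 τ) n (tT τ)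
    (fun k => (exists_ak h y k).choose) (fun a d => φ d (n a)) sf (fun a b => q a b) (PN R i P) ⊤ := by
  set e1 : M := p (v 0 1) with he1
  set α : N → NR R i := fun k => (exists_ak h y k).choose with hα
  have hαU : ∀ k, (α k : G) ∈ UU V R j := fun k => (exists_ak h y k).choose_spec.1
  have hα2 : ∀ k, P2 (α k : G) = k := fun k => (exists_ak h y k).choose_spec.2
  have hcen : ∀ x ∈ PN R i P, (x : G) ∈ centralizer (R i : Set G) := fun x hx => hP.cen hx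
  have hom : ∀ x, Om F (PN R i P) e1 x → ∃ z ∈ PN R i P, ∃ c : F, c ≠ 0 ∧ x = c • (z • e1) := fun x hx => hx
  have hne : ∀ {x : M} {z : NR R i} {c : F}, z ∈ PN R i P → c ≠ 0 → x = c • (z • e1) → (∀ c : F, x ≠ c • e1) →
      cj (z : G) V ≠ V := by
    intro x z c hz hc hx hxe hzV
    obtain ⟨c', hc'⟩ := (norm_V_iff h).1 (cj_eq_self_iff.1 hzV)
    exact hxe (c * c') (by rw [hx, hc', smul_smul])
  exact
    { e_ne := h.e_ne
      perp := fun x hx => (g.mem_U x).1 hx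
      indep := g.indep
      T_mul := fun a b x => by rw [tT_mul, mul_smul]
      T_lin := fun a c x => h.T_lin τ a c x
      T_e := fun a => h.T_e τ a
      T_0 := fun a d hd => hd a
      T_1 := fun a k => g.n_mem k a
      T_A := fun c b x => by
        have h1 : ((tT τ c * α b * (tT τ c)⁻¹ : NR R i) : G) ∈ UU V R j := by
          have h5 : cj (t c) (UU V R j) = UU V R j :=
            h.bt.cj_UU (h.bt.X_le_NV (τ.memX c c.ne_zero)) (cj_eq_self_iff.2 (τ.normR' c.ne_zero))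
          rw [← h5]
          exact conj_mem_cj (hαU b)
        have h3 : P2 ((tT τ c * α b * (tT τ c)⁻¹ : NR R i) : G) = P2 (α ((c : F)⁻¹ • b) : G) := by
          change P2 (t c * (α b : G) * (t c)⁻¹) = _
          rw [(y.tor τ h.co h.btc c.ne_zero (UU_le_YY j (hαU b))).2, hα2, hα2]
        rw [← h.act_congr y h1 (hαU _) h3, ← mul_smul (tT τ c * α b * (tT τ c)⁻¹), inv_mul_cancel_right, mul_smul]
      A_add := fun a b x => by
        have h1 : ((α a * α b : NR R i) : G) ∈ UU V R j := mul_mem (hαU a) (hαU b)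
        have h3 : P2 (α (a + b) : G) = P2 ((α a * α b : NR R i) : G) := by
          change _ = P2 ((α a : G) * (α b : G))
          rw [y.mul2 _ (UU_le_YY j (hαU a)) _ (UU_le_YY j (hαU b)), hα2, hα2, hα2]
        rw [h.act_congr y (hαU _) h1 h3, mul_smul]
      A_e := fun a => g.A_e _ (hαU a)
      A_0 := fun a d hd => by
        have h1 := g.A_0 _ (hαU a) d hd
        rwa [hα2] at h1
      A_1 := fun a b => by
        have h1 := g.A_1 _ (hαU a) b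
        rwa [hα2] at h1
      sf_mem := g.sf_mem
      l_add := fun a b d _ => by rw [map_add, map_add]
      l_smul := fun c a d _ => by rw [map_smul, map_smul, smul_eq_mul]
      l_alt := fun k a => g.T_alt k a
      inj := g.inj
      q_add := fun a b k => g.q_add a b k
      q_smul := fun c a k => g.q_smul c a k
      P_lin := fun x hx c m => h.lin_cen (hcen x hx) c m
      A_mem := fun a => hP.U_le (hαU a)
      P_le := le_top
      T_mem := fun a => mem_top _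
      T_norm := fun a x hx => hP.tor a a.ne_zero x hx
      D_stab := fun k _ hk d hd => by
        have hkV := (norm_V_iff h).2 hk
        have h1 : k • d ∈ h.fr.sb (DD V R) :=
          h.fr.sb_smul (h.bt.NV_le_ND hkV) (h.M0_le τ y hd)
        obtain ⟨γ, d', hd', h2⟩ := (g.mem_D _).1 h1
        exact ⟨γ, d', hd', h2⟩
      tr := fun x x' hx hx' hxe hx'e => by
        obtain ⟨z, hz, c, hc, hxz⟩ := hx
        obtain ⟨z', hz', c', hc', hxz'⟩ := hx'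
        obtain ⟨a, ha, haz⟩ := hP.tr z hz z' hz' (hne hz hc hxz hxe) (hne hz' hc' hxz' hx'e)
        have haN : a ∈ NR R i := h.bt.cen_le_N i (UU_le_cen j ha)
        rw [← cj_mul] at haz
        obtain ⟨d, hd⟩ := (line_iff h (x := ⟨a, haN⟩ * z) (x' := z') (hcen z' hz')).1 haz
        refine ⟨P2 a, c * d * c'⁻¹, ?_⟩
        have h1 : α (P2 a) • x = (⟨a, haN⟩ : NR R i) • x :=
          h.act_congr y (g := α (P2 a)) (g' := ⟨a, haN⟩) (hαU _) ha (hα2 _) x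
        rw [h1, hxz, h.lin_cen (cen_of_U h y (a := ⟨a, haN⟩) ha), ← mul_smul, hd, hxz', smul_smul, smul_smul,
          mul_assoc (c * d), inv_mul_cancel₀ hc', mul_one]
      three := by
        obtain ⟨x, hx, x', hx', h1, h2, h3⟩ := hP.three
        have hxN := hP.le_N hx
        have hxN' := hP.le_N hx'
        refine ⟨(⟨x, hxN⟩ : NR R i) • e1, (⟨x', hxN'⟩ : NR R i) • e1, ⟨⟨x, hxN⟩, hx, 1, one_ne_zero, by rw [one_smul]⟩,
          ⟨⟨x', hxN'⟩, hx', 1, one_ne_zero, by rw [one_smul]⟩, fun c hc => h1 ?_, fun c hc => h2 ?_, fun c hc => h3 ?_⟩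
        · exact cj_eq_self_iff.2 ((norm_V_iff h (g := ⟨x, hxN⟩)).2 ⟨c, hc⟩)
        · exact cj_eq_self_iff.2 ((norm_V_iff h (g := ⟨x', hxN'⟩)).2 ⟨c, hc⟩)
        · exact ((line_iff h (x := ⟨x', hxN'⟩) (x' := ⟨x, hxN⟩) (hP.cen hx)).2 ⟨c, hc⟩).symm }

/-- the number of lines -/
theorem card_om_Lin : Nat.card {m : M // Om F (PN R i P) (p (v 0 1)) m} = (Nat.card F - 1) * Nat.card (Lin V P) := by
  rw [(nodeFr_of g hP).card_om]
  congr 1
  set S := stP F (PN R i P) (p (v 0 1)) (nodeFr_of g hP).P_lin with hS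
  rw [relIndex, index_eq_card]
  refine Nat.card_congr (Equiv.ofBijective (fun x : PN R i P ⧸ S.subgroupOf (PN R i P) =>
    Quotient.liftOn' x (fun x => (⟨cj ((x : NR R i) : G) V, ((x : NR R i) : G), x.2, rfl⟩ : Lin V P)) ?_) ⟨?_, ?_⟩)
  · intro x x' hxx
    rw [QuotientGroup.leftRel_apply, mem_subgroupOf] at hxx
    apply Subtype.ext
    have h1 : ((x⁻¹ * x' : PN R i P) : NR R i) ∈ S := hxx
    obtain ⟨-, c, -, hc⟩ := h1
    have h2 := (norm_V_iff h (g := ((x⁻¹ * x' : PN R i P) : NR R i))).2 ⟨c, hc⟩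
    rw [← cj_eq_self_iff] at h2
    change cj (((x : NR R i) : G)⁻¹ * ((x' : NR R i) : G)) V = V at h2
    rw [cj_mul] at h2
    change cj _ V = cj _ V
    nth_rewrite 1 [← h2]
    rw [cj_cj_inv]
  · intro x x'
    induction x using Quotient.inductionOn' with
    | h x =>
    induction x' using Quotient.inductionOn' with
    | h x' =>
    intro hxx
    have h1 : cj ((x : NR R i) : G) V = cj ((x' : NR R i) : G) V := congrArg Subtype.val hxx
    refine Quotient.sound' ?_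
    rw [QuotientGroup.leftRel_apply, mem_subgroupOf]
    have h2 : ((x⁻¹ * x' : PN R i P) : NR R i) ∈ PN R i P := (x⁻¹ * x').2
    have h3 : (((x⁻¹ * x' : PN R i P) : NR R i) : G) ∈ normalizer (V : Set G) := by
      rw [← cj_eq_self_iff]
      change cj (((x : NR R i) : G)⁻¹ * ((x' : NR R i) : G)) V = V
      rw [cj_mul, ← h1, cj_inv_cj]
    obtain ⟨c, hc⟩ := (norm_V_iff h).1 h3
    refine ⟨h2, c, ?_, hc⟩
    rintro rfl
    rw [zero_smul] at hc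
    apply h.e_ne
    rw [← inv_smul_smul ((x⁻¹ * x' : PN R i P) : NR R i) (p (v 0 1)), hc, smul_zero]
  · rintro ⟨L, x, hx, rfl⟩
    exact ⟨Quotient.mk'' ⟨⟨x, hP.le_N hx⟩, hx⟩, rfl⟩

end inst

end Cfsg.Agent.Omega.Lie.Nodes

end

section


/-!
# NODE LIE, TEXT NODES (#14331) (N): the output of the node theorem in the language of `FMod`, `Eig`

* `NodeN` : types (beta), (sigma): `Ng k` is preserved by `P` and spanned by the orbit of `e`, an element `m ∈ P`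
  interchanges `⟨e⟩` and `⟨n k⟩`, `KEY` holds, the points in `e + Z` ...
* `node_eig` : the four cases
-/

set_option autoImplicit false
set_option linter.unusedSectionVars false

namespace Cfsg.Agent.Omega.Lie.Nodes

open Subgroup Cfsg.Agent.Omega.BTwo

universe u v w

variable {G : Type u} [Group G] {ι : Type w} {V : Subgroup G} {R : ι → Subgroup G} {i j : ι} {F : Type v}
  [Field F] {v : F → F → G} {w1 w2 : F → G} {M B : Type u} [AddCommGroup M] [AddCommGroup B]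
  [DistribMulAction (NR R i) M] [DistribMulAction (NR R i) B] [Module F M] {p : G → M} {r : G → B}
  {f : M →+ M →+ B} {φ : M →ₗ[F] M →ₗ[F] F} {s : NR R i → (F ≃+* F)} [CharP F 2]
  [Finite G] [Finite F] {h : FMod V R i j v w1 w2 M B p r f φ s} {t : F → G} {τ : Lie.TorD V R i j v t}
  {N : Type u} [AddCommGroup N] [Module F N] {P1 P2 : G → N} {y : YPair V R i j w1 w2 N P1 P2}
  {n : N →ₗ[F] M} {sf : N →ₗ[F] N →ₗ[F] M} {q : N → N →ₗ[F] F}

/-- **types (beta), (sigma)** -/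
structure NodeN (g : Eig h τ y n sf q) (P : Subgroup G) (k : N) : Prop where
  ne : k ≠ 0
  /-- some `m ∈ P` interchanges `⟨e⟩` and `⟨n k⟩` -/
  m : ∃ m : NR R i, (m : G) ∈ P ∧ ∃ β γ : F, β ≠ 0 ∧ γ ≠ 0 ∧ m • p (v 0 1) = β • n k ∧ m • n k = γ • p (v 0 1)
  /-- `KEY` -/
  key : ∀ l, sf k l = 0 → q k l = 0
  hPN : ∀ x : NR R i, (x : G) ∈ P → ∀ m ∈ Ng (p (v 0 1)) n (fun a b => sf a b) k,
      x • m ∈ Ng (p (v 0 1)) n (fun a b => sf a b) k
  hspan : Ng (p (v 0 1)) n (fun a b => sf a b) k ≤ Submodule.span F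
      {m | ∃ x : NR R i, (x : G) ∈ P ∧ m = x • p (v 0 1)}
  /-- the only point of the orbit in `e + Z` is `e` -/
  not_eZ : ∀ x : NR R i, (x : G) ∈ P → (x : G) ∉ normalizer (V : Set G) → ∀ (c : F) (l : N),
      x • p (v 0 1) ≠ c • p (v 0 1) + sf k l
  /-- the orbit -/
  orb : ∀ x : NR R i, (x : G) ∈ P → (x : G) ∉ normalizer (V : Set G) → ∃ c : F, c ≠ 0 ∧ ∃ l : N,
      x • p (v 0 1) = c • (n k + sf k l + q l k • p (v 0 1))
  orb' : ∀ l : N, ∃ x : NR R i, (x : G) ∈ P ∧ ∃ c : F, c ≠ 0 ∧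
      x • p (v 0 1) = c • (n k + sf k l + q l k • p (v 0 1))

/-- type (sigma) -/
structure NodeS (g : Eig h τ y n sf q) (P : Subgroup G) (k : N) : Prop extends NodeN g P k where
  sf_zero : ∀ l, sf k l = 0
  q_ne : ∃ l, q l k ≠ 0
  finrank : Module.finrank F (Ng (p (v 0 1)) n (fun a b => sf a b) k) = 2
  card : Nat.card (Lin V P) = Nat.card F + 1

/-- type (beta) -/
structure NodeB (g : Eig h τ y n sf q) (P : Subgroup G) (k : N) : Prop extends NodeN g P k where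
  sf_iff : ∀ l, sf k l = 0 ↔ q l k = 0
  finrank_Z : Module.finrank F (LinearMap.range (sf k)) = 2
  finrank : Module.finrank F (Ng (p (v 0 1)) n (fun a b => sf a b) k) = 4
  card : Nat.card (Lin V P) = Nat.card F ^ 2 + 1

/-- type (alpha) -/
structure NodeA (g : Eig h τ y n sf q) (P : Subgroup G) (d : M) : Prop where
  mem : d ∈ h.M0 τ
  ne : d ≠ 0
  orb : ∀ x : NR R i, (x : G) ∈ P → ∃ c c' : F, x • p (v 0 1) = c • p (v 0 1) + c' • d
  orb' : ∀ c c' : F, c • p (v 0 1) + c' • d ≠ 0 → ∃ x : NR R i, (x : G) ∈ P ∧ ∃ a : F, a ≠ 0 ∧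
      x • p (v 0 1) = a • (c • p (v 0 1) + c' • d)
  hPN : ∀ x : NR R i, (x : G) ∈ P → ∀ m ∈ Submodule.span F {p (v 0 1)} ⊔ Submodule.span F {d},
      x • m ∈ Submodule.span F {p (v 0 1)} ⊔ Submodule.span F {d}
  m : ∃ m : NR R i, (m : G) ∈ P ∧ ∃ β γ : F, β ≠ 0 ∧ γ ≠ 0 ∧ m • p (v 0 1) = β • d ∧ m • d = γ • p (v 0 1)
  card : Nat.card (Lin V P) = Nat.card F + 1

/-- type (gamma) -/
structure NodeG (g : Eig h τ y n sf q) (P : Subgroup G) : Prop where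
  phi_ne : ∀ x : NR R i, (x : G) ∈ P → (x : G) ∉ normalizer (V : Set G) → φ (x • p (v 0 1)) (p (v 0 1)) ≠ 0
  reg : ∀ a ∈ UU V R j, ∀ x ∈ P, x ∉ normalizer (V : Set G) → x⁻¹ * a * x ∈ normalizer (V : Set G) → a ∈ DD V R
  card : Nat.card (Lin V P) = Nat.card N + 1

variable (g : Eig h τ y n sf q) {P : Subgroup G} (hP : NodeP V R i j t P)
include g

/-- `Ng` is the abstract `NN` -/
theorem Ng_eq (k : N) : Ng (p (v 0 1)) n (fun a b => sf a b) k = NN (p (v 0 1)) n sf k := by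
  ext m
  rw [mem_Ng, mem_NN]
  constructor
  · rintro ⟨c, z, hz, r, rfl⟩
    have h1 : z ∈ LinearMap.range (sf k) := by
      refine (Submodule.span_le.2 ?_) hz
      rintro _ ⟨l, rfl⟩
      exact ⟨l, rfl⟩
    obtain ⟨l, rfl⟩ := h1
    exact ⟨c, l, r, rfl⟩
  · rintro ⟨c, l, r, rfl⟩
    exact ⟨c, sf k l, s_mem_Zg l, r, rfl⟩

theorem finrank_Ng [FiniteDimensional F M] {k : N} (hk : k ≠ 0) :
    Module.finrank F (Ng (p (v 0 1)) n (fun a b => sf a b) k) =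
      Module.finrank F (LinearMap.range (sf k)) + 2 := by
  rw [Ng_eq g]
  unfold NN
  have h1 := Submodule.finrank_sup_add_finrank_inf_eq (Submodule.span F {p (v 0 1)} ⊔ LinearMap.range (sf k))
    (Submodule.span F {n k})
  have h2 := Submodule.finrank_sup_add_finrank_inf_eq (Submodule.span F {p (v 0 1)}) (LinearMap.range (sf k))
  have h3 : (Submodule.span F {p (v 0 1)} ⊔ LinearMap.range (sf k)) ⊓ Submodule.span F {n k} = ⊥ := by
    rw [eq_bot_iff]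
    rintro x ⟨hx1, hx2⟩
    obtain ⟨y1, hy1, z, ⟨l, rfl⟩, rfl⟩ := Submodule.mem_sup.1 hx1
    obtain ⟨c, rfl⟩ := Submodule.mem_span_singleton.1 hy1
    obtain ⟨c', h4⟩ := Submodule.mem_span_singleton.1 hx2
    have h5 := g.indep c (sf k l) (-(c' • k)) (g.sf_mem _ _) (by
      rw [map_neg, map_smul, h4, add_neg_cancel])
    rw [h5.1, h5.2.1, zero_smul, add_zero]
    exact zero_mem _
  have h4 : Submodule.span F {p (v 0 1)} ⊓ LinearMap.range (sf k) = ⊥ := by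
    rw [eq_bot_iff]
    rintro x ⟨hx1, ⟨l, rfl⟩⟩
    obtain ⟨c, h5⟩ := Submodule.mem_span_singleton.1 hx1
    have h6 := g.indep c (-sf k l) 0 ((h.M0 τ).neg_mem (g.sf_mem _ _)) (by
      rw [h5, map_zero, add_zero, add_neg_cancel])
    rw [neg_eq_zero.1 h6.2.1]
    exact zero_mem _
  have h5 : n k ≠ 0 := by
    intro h0
    exact hk (g.indep 0 0 k (zero_mem _) (by rw [h0, zero_smul, add_zero, add_zero])).2.2
  rw [h3, finrank_bot, add_zero, finrank_span_singleton h5] at h1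
  rw [h4, finrank_bot, add_zero, finrank_span_singleton h.e_ne] at h2
  rw [h1, h2]
  ring

omit [Finite F] g in
theorem om_not_mem (h : FMod V R i j v w1 w2 M B p r f φ s) {x : NR R i} (hx : (x : G) ∉ normalizer (V : Set G)) (c : F) :
    x • p (v 0 1) ≠ c • p (v 0 1) := fun hc => hx ((norm_V_iff h).2 ⟨c, hc⟩)

omit [Finite F] [Finite G] g in
theorem om_self {x : NR R i} (hx : (x : G) ∈ P) : Om F (PN R i P) (p (v 0 1)) (x • p (v 0 1)) :=
  ⟨x, hx, 1, one_ne_zero, by rw [one_smul]⟩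

include hP

theorem nodeN_of {k : N} (hk : k ≠ 0) (hom : Om F (PN R i P) (p (v 0 1)) (n k))
    (hkey : ∀ (m : NR R i), (m : G) ∈ P → ∀ β γ : F, β ≠ 0 → γ ≠ 0 → m • p (v 0 1) = β • n k →
      m • n k = γ • p (v 0 1) → ∀ l, sf k l = 0 → q k l = 0) : NodeN g P k := by
  have H := nodeFr_of g hP
  have hne : ∀ c : F, n k ≠ c • p (v 0 1) := by
    intro c hc
    exact hk (g.indep (-c) 0 k (zero_mem _) (by rw [neg_smul, hc]; abel)).2.2
  have hne' : ∀ c : F, p (v 0 1) ≠ c • n k := by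
    intro c hc
    have h1 := g.indep 1 0 (-(c • k)) (zero_mem _) (by rw [map_neg, map_smul, one_smul, ← hc]; abel)
    exact one_ne_zero h1.1
  have hm : ∃ m : NR R i, (m : G) ∈ P ∧ ∃ β γ : F, β ≠ 0 ∧ γ ≠ 0 ∧ m • p (v 0 1) = β • n k ∧
      m • n k = γ • p (v 0 1) := by
    obtain ⟨m, hm, ⟨β, hβ, h1⟩, γ, hγ, h2⟩ := H.two_trans (x := p (v 0 1)) (y := n k) (z := n k) (w := p (v 0 1))
      Om.self hom hom Om.self hne hne'
    exact ⟨m, hm, β, γ, hβ, hγ, h1, h2⟩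
  exact
    { ne := hk
      m := hm
      key := by
        obtain ⟨m, hm, β, γ, hβ, hγ, h1, h2⟩ := hm
        exact hkey m hm β γ hβ hγ h1 h2
      hPN := fun x hx m hm => by
        rw [Ng_eq g] at hm ⊢
        exact H.NN_act hk hom hx hm
      hspan := by
        rw [Ng_eq g, H.NN_eq hk hom, Submodule.span_le]
        rintro _ ⟨x, hx, c, -, rfl⟩
        exact Submodule.smul_mem _ _ (Submodule.subset_span ⟨x, hx, rfl⟩)
      not_eZ := fun x hx hxV c l hc => by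
        by_cases hl : sf k l = 0
        · rw [hl, add_zero] at hc
          exact om_not_mem h hxV c hc
        · have h1 := H.not_om hk hom (c := c) hl
          rw [← hc] at h1
          exact h1 (om_self hx)
      orb := fun x hx hxV => by
        rcases (H.om_iff hk hom _).1 (om_self hx) with ⟨c, -, h1⟩ | ⟨c, hc, l, h1⟩
        · exact absurd h1 (om_not_mem h hxV c)
        · exact ⟨c, hc, l, h1⟩
      orb' := fun l => by
        obtain ⟨x, hx, c, hc, h1⟩ := H.om_n hom l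
        exact ⟨x, hx, c⁻¹, inv_ne_zero hc, by rw [h1, inv_smul_smul₀ hc]⟩ }

/-- **THE NODE THEOREM (N)** -/
theorem node_eig : (∃ d, NodeA g P d) ∨ (∃ k, NodeS g P k) ∨ (∃ k, NodeB g P k) ∨ NodeG g P := by
  have H := nodeFr_of g hP
  have : Finite M := Finite.of_surjective (fun x : WW V (R i) => p x) fun m => by
    obtain ⟨x, hx, e1⟩ := h.fr.p_surj m
    exact ⟨⟨x, hx⟩, e1⟩
  have hF1 : 0 < Nat.card F - 1 := by
    have := Finite.one_lt_card (α := F)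
    omega
  have hcard : ∀ {c : ℕ}, Nat.card {m : M // Om F (PN R i P) (p (v 0 1)) m} = (Nat.card F - 1) * c →
      Nat.card (Lin V P) = c := fun hc => by
    rw [card_om_Lin g hP] at hc
    exact Nat.eq_of_mul_eq_mul_left hF1 hc
  rcases H.node h.four with ⟨d, hd, hd0, hom, hall⟩ | ⟨k, hk, hom, hs, ⟨l, hl⟩, hall⟩ | ⟨k, hk, hom, hs, hr, hall⟩ |
    ⟨x, hx, hxe, -⟩
  · left
    have hi : ∀ c c' : F, c • p (v 0 1) + c' • d = 0 → c = 0 ∧ c' = 0 := by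
      intro c c' h0
      have h1 := g.indep c (c' • d) 0 ((h.M0 τ).smul_mem _ hd) (by rw [map_zero, add_zero, h0])
      exact ⟨h1.1, (smul_eq_zero.1 h1.2.1).resolve_right hd0⟩
    refine ⟨d, hd, hd0, fun x hx => ((hall _).1 (om_self hx)).2, fun c c' h0 => ?_, fun x hx m hm => ?_, ?_,
      hcard (card_om_line hi hall)⟩
    · obtain ⟨x, hx, a, ha, h1⟩ := (hall _).2 ⟨h0, c, c', rfl⟩
      exact ⟨x, hx, a⁻¹, inv_ne_zero ha, by rw [h1, inv_smul_smul₀ ha]⟩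
    · have h2 : ∀ m, m ∈ Submodule.span F {p (v 0 1)} ⊔ Submodule.span F {d} ↔
          ∃ c c' : F, m = c • p (v 0 1) + c' • d := by
        intro m
        constructor
        · intro hm
          obtain ⟨a, ha, b, hb, rfl⟩ := Submodule.mem_sup.1 hm
          obtain ⟨c, rfl⟩ := Submodule.mem_span_singleton.1 ha
          obtain ⟨c', rfl⟩ := Submodule.mem_span_singleton.1 hb
          exact ⟨c, c', rfl⟩
        · rintro ⟨c, c', rfl⟩
          exact Submodule.add_mem_sup (Submodule.mem_span_singleton.2 ⟨c, rfl⟩)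
            (Submodule.mem_span_singleton.2 ⟨c', rfl⟩)
      rw [h2] at hm ⊢
      by_cases hm0 : m = 0
      · exact ⟨0, 0, by rw [hm0, smul_zero, zero_smul, zero_smul, add_zero]⟩
      · exact ((hall _).1 (H.om_act hx ((hall m).2 ⟨hm0, hm⟩))).2
    · obtain ⟨m, hm, ⟨β, hβ, h1⟩, γ, hγ, h2⟩ := H.two_trans (x := p (v 0 1)) (y := d) (z := d) (w := p (v 0 1))
        Om.self hom hom Om.self (fun c hc => by
          have h1 := hi (-c) 1 (by rw [neg_smul, one_smul, hc]; abel)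
          exact one_ne_zero h1.2) (fun c hc => by
          have h1 := hi 1 (-c) (by rw [neg_smul, one_smul, ← hc]; abel)
          exact one_ne_zero h1.1)
      exact ⟨m, hm, β, γ, hβ, hγ, h1, h2⟩
  · right; left
    have hN := nodeN_of g hP hk hom (fun m hm β γ hβ hγ h1 h2 l' _ =>
      eig_sigma g hs hl (x0 := m) (hP.cen hm) hβ h1 (m := m) (hP.cen hm) hβ hγ h1 h2 l')
    refine ⟨k, { hN with sf_zero := hs, q_ne := ⟨l, hl⟩, finrank := ?_, card := hcard (card_om_line ?_ hall) }⟩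
    · rw [finrank_Ng g hk]
      have h0 : sf k = 0 := LinearMap.ext hs
      rw [h0, LinearMap.range_zero, finrank_bot]
    · intro c c' h0
      have h1 := g.indep c 0 (c' • k) (zero_mem _) (by rw [map_smul, add_zero, h0])
      exact ⟨h1.1, (smul_eq_zero.1 h1.2.2).resolve_right hk⟩
  · right; right; left
    have hN := nodeN_of g hP hk hom (fun m hm β γ hβ hγ h1 h2 l' hl' =>
      eig_first g hl' ((hs l').1 hl') (x0 := m) (hP.cen hm) hβ h1)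
    refine ⟨k, { hN with sf_iff := hs, finrank_Z := hr, finrank := ?_, card := hcard ?_ }⟩
    · rw [finrank_Ng g hk, hr]
    · exact H.card_om_beta' hk hom (fun l hl => (hs l).1 hl) hr
  · right; right; right
    have hxe' : ∀ c : F, x ≠ c • p (v 0 1) := by
      rintro c rfl
      apply hxe
      rw [LinearMap.flip_apply, map_smul, LinearMap.smul_apply, h.phi_self, smul_zero]
    have hphi : ∀ x : NR R i, (x : G) ∈ P → (x : G) ∉ normalizer (V : Set G) →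
        φ (x • p (v 0 1)) (p (v 0 1)) ≠ 0 := by
      intro z hz hzV h0
      apply hxe
      obtain ⟨a, c, hac⟩ := H.tr _ x (om_self hz) hx (om_not_mem h hzV) hxe'
      have hc : c ≠ 0 := by
        rintro rfl
        rw [zero_smul] at hac
        exact H.om_ne (H.om_act (H.A_mem a) (om_self hz)) hac
      have haU := (exists_ak h y a).choose_spec.1
      have h1 : φ ((exists_ak h y a).choose • z • p (v 0 1)) (p (v 0 1)) = 0 := by
        have h2 := h.phi_cen (cen_of_U h y haU) (z • p (v 0 1)) (p (v 0 1))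
        rwa [g.A_e _ haU, h0] at h2
      rw [hac, map_smul, LinearMap.smul_apply, smul_eq_mul] at h1
      exact (mul_eq_zero.1 h1).resolve_left hc
    have hreg0 : ∀ (a : NR R i), (a : G) ∈ UU V R j → ∀ (x : M) (c : F), φ x (p (v 0 1)) ≠ 0 →
        a • x = c • x → P2 (a : G) = 0 ∧ c = 1 := by
      intro a ha x c hx hax
      have h1 := h.phi_cen (cen_of_U h y ha) x (p (v 0 1))
      rw [g.A_e _ ha, hax, map_smul, LinearMap.smul_apply, smul_eq_mul] at h1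
      have hc1 : c = 1 := by
        have h2 : (c - 1) * φ x (p (v 0 1)) = 0 := by rw [sub_mul, h1, one_mul, sub_self]
        exact sub_eq_zero.1 ((mul_eq_zero.1 h2).resolve_right hx)
      refine ⟨?_, hc1⟩
      have h2 := g.A_top a ha x
      rw [hax, hc1, one_smul, sub_self, zero_sub, ← map_smul, ← map_neg] at h2
      have h3 : -(φ x (p (v 0 1)) • P2 (a : G)) = 0 := n_of_D g (by rwa [map_zero, sub_zero])
      exact (smul_eq_zero.1 (neg_eq_zero.1 h3)).resolve_left hx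
    refine ⟨hphi, fun a ha z hz hzV haz => ?_, ?_⟩
    · have haN : a ∈ NR R i := h.bt.cen_le_N i (UU_le_cen j ha)
      have hzN := hP.le_N hz
      obtain ⟨c, hc⟩ := (norm_V_iff h (g := (⟨z, hzN⟩ : NR R i)⁻¹ * ⟨a, haN⟩ * ⟨z, hzN⟩)).1 haz
      have h1 : (⟨a, haN⟩ : NR R i) • ((⟨z, hzN⟩ : NR R i) • p (v 0 1)) =
          c • ((⟨z, hzN⟩ : NR R i) • p (v 0 1)) := by
        rw [mul_smul, mul_smul, inv_smul_eq_iff, h.lin_cen (g := ⟨z, hzN⟩) (hP.cen hz)] at hc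
        exact hc
      have h2 := (hreg0 ⟨a, haN⟩ ha _ c (hphi ⟨z, hzN⟩ hz hzV) h1).1
      exact (y.mem_D a (UU_le_YY j ha)).2 ⟨(y.mem_U2 a (UU_le_YY j ha)).1 ha, h2⟩
    · have : Finite N := Finite.of_injective n fun a b hab => n_of_D g (by rw [hab, sub_self]; exact zero_mem _)
      refine hcard (H.card_om_gamma hx hxe' fun a c hac => ?_)
      have h1 := hreg0 _ (exists_ak h y a).choose_spec.1 x c hxe hac
      rwa [(exists_ak h y a).choose_spec.2] at h1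

end Cfsg.Agent.Omega.Lie.Nodes

end

section


/-!
# NODE LIE, TEXT NODES (#14331): `key`, `(S)` and `Σ` for a moved node of type (sigma) or (beta), from `NodeS`, `NodeB`
-/

set_option autoImplicit false
set_option linter.unusedSectionVars false

namespace Cfsg.Agent.Omega.Lie.Nodes

open Subgroup Cfsg.Agent.Omega.BTwo

universe u v w

variable {G : Type u} [Group G] {ι : Type w} {V : Subgroup G} {R : ι → Subgroup G} {i j : ι} {F : Type v}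
  [Field F] {v : F → F → G} {w1 w2 : F → G} {M B : Type u} [AddCommGroup M] [AddCommGroup B]
  [DistribMulAction (NR R i) M] [DistribMulAction (NR R i) B] [Module F M] {p : G → M} {r : G → B}
  {f : M →+ M →+ B} {φ : M →ₗ[F] M →ₗ[F] F} {s : NR R i → (F ≃+* F)} [CharP F 2]
  [Finite G] [Finite F] {h : FMod V R i j v w1 w2 M B p r f φ s} {t : F → G} {τ : Lie.TorD V R i j v t}
  {N : Type u} [AddCommGroup N] [Module F N] {P1 P2 : G → N} {y : YPair V R i j w1 w2 N P1 P2}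
  {n : N →ₗ[F] M} {sf : N →ₗ[F] N →ₗ[F] M} {q : N → N →ₗ[F] F}
  {g : Eig h τ y n sf q} {P : Subgroup G} {k : N}

/-- what a moved node of type (sigma) or (beta) gives: `key` and `(S)` -/
structure Mov4 (g : Eig h τ y n sf q) (P : Subgroup G) (k : N) : Prop extends NodeN g P k where
  act : ∀ a : NR R i, (a : G) ∈ UU V R j → (∃ c : F, P2 (a : G) = c • k) → ∀ m, a • m - m ∈
      Ng (p (v 0 1)) n (fun a b => sf a b) k
  hS : ∀ x : NR R i, (x : G) ∈ P → ∀ a : NR R i, (a : G) ∈ UU V R j → (∃ c : F, P2 (a : G) = c • k) →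
      ∀ m : M, x • a • m = a • x • m
  /-- `Z ≠ 0` or `q ≠ 0` -/
  hne : ∃ l, sf k l ≠ 0 ∨ q l k ≠ 0

/-- **type (sigma)** -/
theorem NodeS.mov (o : NodeS g P k) (hP : NodeP V R i j t P)
    (hgen : ∀ H : Subgroup P, (∀ x, (∃ m : ℕ, x ^ 2 ^ m = 1) → x ∈ H) → H = ⊤) : Mov4 g P k := by
  obtain ⟨m, hm, β, γ, hβ, hγ, h1, h2⟩ := o.m
  obtain ⟨l0, hl0⟩ := o.q_ne
  obtain ⟨-, h3, h4⟩ := moved_sigma g o.ne hP.cen hP.U_le hgen o.hPN hP.tr hm hβ hγ h1 h2 o.sf_zero hl0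
    (by rw [← Lin_relIndex, o.card])
  exact ⟨o.toNodeN, h3, h4, l0, Or.inr hl0⟩

/-- **type (beta)** -/
theorem NodeB.mov (o : NodeB g P k) (hP : NodeP V R i j t P)
    (hgen : ∀ H : Subgroup P, (∀ x, (∃ m : ℕ, x ^ 2 ^ m = 1) → x ∈ H) → H = ⊤) : Mov4 g P k := by
  obtain ⟨m, hm, β, γ, hβ, hγ, h1, h2⟩ := o.m
  obtain ⟨-, h3, h4⟩ := moved_beta g o.ne hP.cen hP.U_le hgen o.hPN hP.tr hm hβ hγ h1 h2 o.sf_iff
    (fun x hx => by
      by_cases hxV : (x : G) ∈ normalizer (V : Set G)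
      · exact Or.inl ((norm_V_iff h).1 hxV)
      · obtain ⟨c, -, l, h5⟩ := o.orb x hx hxV
        exact Or.inr ⟨c, l, h5⟩) o.finrank_Z.le (by rw [← Lin_relIndex, o.card])
  refine ⟨o.toNodeN, h3, h4, ?_⟩
  by_contra hcon
  push Not at hcon
  have h5 : LinearMap.range (sf k) = ⊥ := by
    rw [LinearMap.range_eq_bot]
    ext l
    exact (hcon l).1
  have h6 := o.finrank_Z
  rw [h5, finrank_bot] at h6
  omega

/-- **`X` and `P^` normalise `Σ`**, `Σ` is elementary abelian, its order -/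
theorem Mov4.main (o : Mov4 g P k) (hP : NodeP V R i j t P) (hQ : QQ (R i) = WW V (R i)) :
    XX V R ≤ normalizer (((gfr_of g).SG k ⊔ cj (nn w1 w2 1) ((gfr_of g).SG k) : Subgroup G) : Set G) ∧
    P ≤ normalizer (((gfr_of g).SG k ⊔ cj (nn w1 w2 1) ((gfr_of g).SG k) : Subgroup G) : Set G) ∧
    (∀ x ∈ (gfr_of g).SG k ⊔ cj (nn w1 w2 1) ((gfr_of g).SG k),
      ∀ z ∈ (gfr_of g).SG k ⊔ cj (nn w1 w2 1) ((gfr_of g).SG k), x * z = z * x) ∧
    (∀ x ∈ (gfr_of g).SG k ⊔ cj (nn w1 w2 1) ((gfr_of g).SG k), x * x = 1) ∧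
    Nat.card ((gfr_of g).SG k ⊔ cj (nn w1 w2 1) ((gfr_of g).SG k) : Subgroup G) * Nat.card ((gfr_of g).DZ k) =
      Nat.card ((gfr_of g).SG k) ^ 2 :=
  sigma_main g hQ o.act hP.cen o.hPN o.hS o.hspan

end Cfsg.Agent.Omega.Lie.Nodes

end

end

-- merged: Cfsg.Agent.Mrg.Omega.Lie.Nodes.Res0Mov
section

section


/-!
# NODE LIE, residues `(0, x)`: `QOut` from `Mov4`, `NodeP`
-/

set_option autoImplicit false
set_option linter.unusedSectionVars false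

namespace Cfsg.Agent.Omega.Lie.Nodes

open Subgroup Cfsg.Agent.Omega.BTwo Cfsg.Agent.ParSys

universe u v w

variable {G : Type u} [Group G] {ι : Type w} {V : Subgroup G} {R : ι → Subgroup G} {i j : ι} {F : Type v}
  [Field F] {v : F → F → G} {w1 w2 : F → G} {M E : Type u} [AddCommGroup M] [AddCommGroup E]
  [DistribMulAction (NR R i) M] [DistribMulAction (NR R i) E] [Module F M] {p : G → M} {r : G → E}
  {f : M →+ M →+ E} {φ : M →ₗ[F] M →ₗ[F] F} {s : NR R i → (F ≃+* F)} [CharP F 2]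
  [Finite G] [Finite F] {h : FMod V R i j v w1 w2 M E p r f φ s} {t : F → G} {τ : Lie.TorD V R i j v t}
  {N : Type u} [AddCommGroup N] [Module F N] {P1 P2 : G → N} {y : YPair V R i j w1 w2 N P1 P2}
  {n : N →ₗ[F] M} {sf : N →ₗ[F] N →ₗ[F] M} {q : N → N →ₗ[F] F}
  {g : Eig h τ y n sf q} {Q : Subgroup G} {k : N}

/-- `QOut` from `Mov4` -/
theorem Mov4.qout (o : Mov4 g Q k) (hP : NodeP V R i j t Q) : QOut g k Q where
  ne := o.ne
  QR := hP.cen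
  UQ := hP.U_le
  key := o.act
  QN := o.hPN
  S := o.hS
  span := o.hspan
  hne := o.hne
  tr := by
    intro x hx hxV
    obtain ⟨m, hm, β, γ, hβ, hγ, h1, h2⟩ := o.m
    have hmV : (m : G) ∉ normalizer (V : Set G) := by
      intro hmV
      obtain ⟨c, hc⟩ := (norm_V_iff h).1 hmV
      rw [hc] at h1
      have h3 := g.indep c 0 (-(β • k)) (h.M0 τ).zero_mem (by rw [add_zero, map_neg, map_smul, h1]; abel)
      exact (smul_ne_zero hβ o.ne) (neg_eq_zero.1 h3.2.2)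
    have hne : ∀ {z : G}, z ∉ normalizer (V : Set G) → cj z V ≠ V := fun hz h0 => hz (cj_eq_self_iff.1 h0)
    obtain ⟨u, hu, e1⟩ := hP.tr m hm x hx (hne hmV) (hne hxV)
    have huN : u ∈ NR R i := h.bt.cen_le_N i (UU_le_cen j hu)
    rw [← cj_mul] at e1
    have humC : ((⟨u, huN⟩ * m : NR R i) : G) ∈ centralizer (R i : Set G) :=
      mul_mem (cen_of_U h y (a := ⟨u, huN⟩) hu) (hP.cen hm)
    obtain ⟨c, hc⟩ := (line_iff h (x := x) (x' := ⟨u, huN⟩ * m) humC).1 e1.symm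
    refine ⟨⟨u, huN⟩, hu, c * β, ?_, ?_⟩
    · refine mul_ne_zero ?_ hβ
      rintro rfl
      rw [zero_smul] at hc
      have h3 : x⁻¹ • x • p (v 0 1) = x⁻¹ • (0 : M) := by rw [hc]
      rw [inv_smul_smul, smul_zero] at h3
      exact h.e_ne h3
    · rw [hc, mul_smul (⟨u, huN⟩ : NR R i) m, h1, h.lin_cen (cen_of_U h y (a := ⟨u, huN⟩) hu), smul_smul]
  swap := o.m

end Cfsg.Agent.Omega.Lie.Nodes

end

section


/-!
# NODE LIE, residues `(0, x)`: the kernel of `P⁺` on the node is central modulo `O = U ∩ Q_x`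

`Q = P⁺` generated by the conjugates of `U` under `P x`, `O = U ⊓ Qk B (P x)`.

* `QPx.cen` : `[Qk B Px, Q] ≤ O`;
* `QPx.hom` : `τ ∈ N(O)`, `[τ, Q] ≤ Qk B Px` implies `[τ, Q] ≤ O` (`x ↦ [τ, x]` is a homomorphism into a group of odd order);
* `QOut.perf` : `Q ≤ Q' O`;
* `QOut.comm_O` : `[t, m t m⁻¹] ∈ O`.
-/

set_option autoImplicit false
set_option linter.unusedSectionVars false

namespace Cfsg.Agent.Omega.Lie.Nodes

open Subgroup Cfsg.Agent.Omega.BTwo Cfsg.Agent.ParSys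

universe u v w

section grp

variable {G : Type u} [Group G] {ι : Type w} {V : Subgroup G} {R : ι → Subgroup G} {i j : ι} {B U Px Q : Subgroup G}

/-- `Q = P⁺` is generated by the conjugates of `U` under `Px` -/
structure QGen (U Px Q : Subgroup G) : Prop where
  UQ : U ≤ Q
  gen : ∀ H : Subgroup G, (∀ g ∈ Px, ∀ u ∈ U, g * u * g⁻¹ ∈ H) → Q ≤ H

namespace QPx

variable (K : QPx V R i B U Px Q)
include K

theorem PnQ : Px ≤ normalizer (Q : Set G) := K.PQ.trans (sup_le le_normalizer K.BQ)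

theorem Qk_le_B : Qk B Px ≤ B := Qk_le B Px

/-- `O ⊲ Px` -/
theorem O_norm [Finite G] : Px ≤ normalizer ((U ⊓ Qk B Px : Subgroup G) : Set G) := by
  have hp := mem_U_of_conj (p := 2) K.X.norm K.X.isP K.X.index
  have key : ∀ g ∈ Px, ∀ z ∈ U ⊓ Qk B Px, g⁻¹ * z * g ∈ U ⊓ Qk B Px := by
    intro g hg z hz
    obtain ⟨hz1, hz2⟩ := mem_inf.1 hz
    exact mem_inf.2 ⟨hp z hz1 g (hz2 g hg), Qk_conj hz2 hg⟩
  intro g hg
  rw [mem_normalizer_iff]
  intro x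
  refine ⟨fun hx => ?_, fun hx => ?_⟩
  · have := key g⁻¹ (inv_mem hg) x hx
    rwa [inv_inv] at this
  · have := key g hg _ hx
    rwa [show g⁻¹ * (g * x * g⁻¹) * g = x by group] at this

theorem O_two : IsPGroup 2 (U ⊓ Qk B Px : Subgroup G) := K.X.isP.to_le inf_le_left

/-- `[Qk, U] ≤ O` -/
theorem comm_U {z u : G} (hz : z ∈ Qk B Px) (hu : u ∈ U) : z * u * z⁻¹ * u⁻¹ ∈ U ⊓ Qk B Px := by
  have hzB := Qk_le B Px hz
  refine mem_inf.2 ⟨mul_mem (BTwo.conj_mem_of_normalizer (K.X.norm hzB) hu) (inv_mem hu), ?_⟩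
  have e : z * u * z⁻¹ * u⁻¹ = z * (u * z⁻¹ * u⁻¹) := by group
  rw [e]
  exact mul_mem hz (Qk_conj' (inv_mem hz) (K.X.le (K.dat.UB hu)))

/-- **`[Qk B Px, Q] ≤ O`** -/
theorem cen [Finite G] (hg : QGen U Px Q) {z x : G} (hz : z ∈ Qk B Px) (hx : x ∈ Q) :
    z * x * z⁻¹ * x⁻¹ ∈ U ⊓ Qk B Px := by
  have hO := K.O_norm
  let H : Subgroup G :=
    { carrier := {x | x ∈ Px ∧ ∀ z ∈ Qk B Px, z * x * z⁻¹ * x⁻¹ ∈ U ⊓ Qk B Px}
      one_mem' := ⟨one_mem _, fun z _ => by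
        rw [mul_one, mul_inv_cancel, one_mul, inv_one]; exact one_mem _⟩
      mul_mem' := by
        rintro x x' ⟨hx, h1⟩ ⟨hx', h2⟩
        refine ⟨mul_mem hx hx', fun z hz => ?_⟩
        have e : z * (x * x') * z⁻¹ * (x * x')⁻¹ = (z * x * z⁻¹ * x⁻¹) * (x * (z * x' * z⁻¹ * x'⁻¹) * x⁻¹) := by group
        rw [e]
        exact mul_mem (h1 z hz) (BTwo.conj_mem_of_normalizer (hO hx) (h2 z hz))
      inv_mem' := by
        rintro x ⟨hx, h1⟩
        refine ⟨inv_mem hx, fun z hz => ?_⟩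
        have e : z * x⁻¹ * z⁻¹ * x⁻¹⁻¹ = x⁻¹ * (z * x * z⁻¹ * x⁻¹)⁻¹ * x := by group
        rw [e]
        exact BTwo.conj_inv_mem_of_normalizer (hO hx) (inv_mem (h1 z hz)) }
  have h1 : Q ≤ H := by
    refine hg.gen H fun g hg' u hu => ⟨mul_mem (mul_mem hg' (K.X.le (K.dat.UB hu))) (inv_mem hg'), fun z hz => ?_⟩
    have e : z * (g * u * g⁻¹) * z⁻¹ * (g * u * g⁻¹)⁻¹ =
        g * ((g⁻¹ * z * g) * u * (g⁻¹ * z * g)⁻¹ * u⁻¹) * g⁻¹ := by group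
    rw [e]
    exact BTwo.conj_mem_of_normalizer (hO hg') (K.comm_U (Qk_conj hz hg') hu)
  exact (h1 hx).2 z hz

/-- **`x ↦ [τ, x]` is a homomorphism from `Q` to a group of odd order** -/
theorem hom [Finite G] (hg : QGen U Px Q) {τ : G} (hτO : τ ∈ normalizer ((U ⊓ Qk B Px : Subgroup G) : Set G))
    (hτ : ∀ x ∈ Q, τ * x * τ⁻¹ * x⁻¹ ∈ Qk B Px) : ∀ x ∈ Q, τ * x * τ⁻¹ * x⁻¹ ∈ U ⊓ Qk B Px := by
  have hO := K.O_norm
  have hQO : Q ≤ normalizer ((U ⊓ Qk B Px : Subgroup G) : Set G) := K.QP.trans hO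
  let H : Subgroup G :=
    { carrier := {x | x ∈ Q ∧ τ * x * τ⁻¹ * x⁻¹ ∈ U ⊓ Qk B Px}
      one_mem' := ⟨one_mem _, by
        rw [mul_one, mul_inv_cancel, one_mul, inv_one]; exact one_mem _⟩
      mul_mem' := by
        rintro x x' ⟨hx, h1⟩ ⟨hx', h2⟩
        refine ⟨mul_mem hx hx', ?_⟩
        have e : τ * (x * x') * τ⁻¹ * (x * x')⁻¹ = (τ * x * τ⁻¹ * x⁻¹) * (x * (τ * x' * τ⁻¹ * x'⁻¹) * x⁻¹) := by group
        rw [e]
        exact mul_mem h1 (BTwo.conj_mem_of_normalizer (hQO hx) h2)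
      inv_mem' := by
        rintro x ⟨hx, h1⟩
        refine ⟨inv_mem hx, ?_⟩
        have e : τ * x⁻¹ * τ⁻¹ * x⁻¹⁻¹ = x⁻¹ * (τ * x * τ⁻¹ * x⁻¹)⁻¹ * x := by group
        rw [e]
        exact BTwo.conj_inv_mem_of_normalizer (hQO hx) (inv_mem h1) }
  have h1 : Q ≤ H := by
    refine hg.gen H fun g hg' u hu => ?_
    set x := g * u * g⁻¹ with hx
    have hxQ : x ∈ Q := BTwo.conj_mem_of_normalizer (K.PnQ hg') (hg.UQ hu)
    refine ⟨hxQ, ?_⟩
    set κ := τ * x * τ⁻¹ * x⁻¹ with hκ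
    have hκQ : κ ∈ Qk B Px := hτ x hxQ
    -- `τ x^n τ⁻¹ ∈ O κ^n x^n`
    have hpow : ∀ n : ℕ, τ * x ^ n * τ⁻¹ * (κ ^ n * x ^ n)⁻¹ ∈ U ⊓ Qk B Px := by
      intro n
      induction n with
      | zero => simp
      | succ n ih =>
        -- `κ^n x^n κ x ≡ κ^n κ x^n x`
        have h2 : κ⁻¹ * x ^ n * κ⁻¹⁻¹ * (x ^ n)⁻¹ ∈ U ⊓ Qk B Px := K.cen hg (inv_mem hκQ) (pow_mem hxQ n)
        have e : τ * x ^ (n + 1) * τ⁻¹ * (κ ^ (n + 1) * x ^ (n + 1))⁻¹ =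
            (τ * x ^ n * τ⁻¹ * (κ ^ n * x ^ n)⁻¹) * (κ ^ n * κ * (κ⁻¹ * x ^ n * κ⁻¹⁻¹ * (x ^ n)⁻¹) *
              (κ ^ n * κ)⁻¹) := by
          rw [pow_succ, pow_succ, hκ]
          group
        rw [e]
        exact mul_mem ih (BTwo.conj_mem_of_normalizer (hO (K.Qk_le_B.trans K.X.le (mul_mem (pow_mem hκQ n) hκQ))) h2)
    obtain ⟨m, hm⟩ := K.X.isP ⟨u, hu⟩
    have hm' : u ^ 2 ^ m = 1 := by simpa using congrArg Subtype.val hm
    have hxm : x ^ 2 ^ m = 1 := by rw [hx, conj_pow, hm', mul_one, mul_inv_cancel]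
    have h3 := hpow (2 ^ m)
    rw [hxm, mul_one, mul_one, mul_inv_cancel, one_mul] at h3
    have h4 : κ ^ 2 ^ m ∈ U := (mem_inf.1 (inv_mem_iff.1 h3)).1
    exact mem_inf.2 ⟨Zero.mem_U_of_two K.X.norm K.X.index (K.Qk_le_B hκQ) h4, hκQ⟩
  exact fun x hx => (h1 hx).2

/-- `Q ≤ Q' O` from `U ≤ Q' (Q ⊓ Qk B Px)` -/
theorem perf_O [Finite G] (hg : QGen U Px Q) (h : U ≤ ⁅Q, Q⁆ ⊔ (Q ⊓ Qk B Px)) :
    Q ≤ ⁅Q, Q⁆ ⊔ (U ⊓ Qk B Px) := by
  have hO := K.O_norm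
  have hPQ := K.PnQ
  have hPC : Px ≤ normalizer ((⁅Q, Q⁆ : Subgroup G) : Set G) := by
    intro x hx
    rw [← cj_eq_self_iff]
    have h1 := cj_eq_self_iff.2 (hPQ hx)
    conv_rhs => rw [← h1]
    exact map_commutator Q Q _
  have hPn : Px ≤ normalizer ((⁅Q, Q⁆ ⊔ (U ⊓ Qk B Px) : Subgroup G) : Set G) := by
    intro x hx
    rw [← cj_eq_self_iff, cj_sup, cj_eq_self_iff.2 (hPC hx), cj_eq_self_iff.2 (hO hx)]
  have hCP : ⁅Q, Q⁆ ≤ Q := by
    rw [commutator_le]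
    intro x hx x' hx'
    rw [commutatorElement_def]
    exact mul_mem (mul_mem (mul_mem hx hx') (inv_mem hx)) (inv_mem hx')
  refine hg.gen _ fun g hg' u hu => BTwo.conj_mem_of_normalizer (hPn hg') ?_
  -- `u = c κ`
  have h1 : u ∈ ((⁅Q, Q⁆ ⊔ (Q ⊓ Qk B Px) : Subgroup G) : Set G) := h hu
  rw [coe_mul_of_right_le_normalizer_left _ _ (inf_le_left.trans (K.QP.trans hPC))] at h1
  obtain ⟨c, hc, κ, hκ, e⟩ := h1
  have e' : c * κ = u := e
  have hκQ : κ ∈ Qk B Px := (mem_inf.1 hκ).2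
  have hκQ' : κ ∈ Q := (mem_inf.1 hκ).1
  set n := U.relIndex B with hn
  have hκn : κ ^ n ∈ U ⊓ Qk B Px :=
    mem_inf.2 ⟨Hall.pow_relIndex_mem K.X.norm (K.Qk_le_B hκQ), pow_mem hκQ n⟩
  have hCn : Q ≤ normalizer ((⁅Q, Q⁆ : Subgroup G) : Set G) := K.QP.trans hPC
  have hun : ∀ n : ℕ, (κ ^ n)⁻¹ * u ^ n ∈ ⁅Q, Q⁆ := by
    intro n
    refine Apt.pow_coset (hCn hκQ') ?_ n
    rw [← e', ← mul_assoc]
    exact BTwo.conj_inv_mem_of_normalizer (hCn hκQ') hc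
  have h2 : u ^ n ∈ ⁅Q, Q⁆ ⊔ (U ⊓ Qk B Px) := by
    have h3 := mul_mem ((le_sup_right : _ ≤ ⁅Q, Q⁆ ⊔ (U ⊓ Qk B Px)) hκn)
      ((le_sup_left : _ ≤ ⁅Q, Q⁆ ⊔ (U ⊓ Qk B Px)) (hun n))
    rwa [mul_inv_cancel_left] at h3
  obtain ⟨m, hm⟩ := K.X.isP ⟨u, hu⟩
  have hm' : u ^ 2 ^ m = 1 := by simpa using congrArg Subtype.val hm
  have hco : Nat.Coprime n (2 ^ m) := (K.X.index.symm).pow_right m
  exact Hall.mem_of_pow_mem_of_coprime (a := n) (b := 2 ^ m) h2 (by rw [hm']; exact one_mem _) hco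

end QPx

/-- `[z², w] ∈ O` implies `[z, w] ∈ O` for `z ∈ N(O)` of odd order -/
theorem comm_of_sq_O {G : Type u} [Group G] {O : Subgroup G} {z w : G} (hz : z ∈ normalizer (O : Set G))
    (ho : Odd (orderOf z)) (h : z * z * w * (z * z)⁻¹ * w⁻¹ ∈ O) : z * w * z⁻¹ * w⁻¹ ∈ O := by
  let H : Subgroup G :=
    { carrier := {g | g ∈ normalizer (O : Set G) ∧ g * w * g⁻¹ * w⁻¹ ∈ O}
      one_mem' := ⟨one_mem _, by rw [one_mul, inv_one, mul_one, mul_inv_cancel]; exact one_mem _⟩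
      mul_mem' := by
        rintro g g' ⟨h1, h2⟩ ⟨h3, h4⟩
        refine ⟨mul_mem h1 h3, ?_⟩
        have e : g * g' * w * (g * g')⁻¹ * w⁻¹ = (g * (g' * w * g'⁻¹ * w⁻¹) * g⁻¹) * (g * w * g⁻¹ * w⁻¹) := by group
        rw [e]
        exact mul_mem (BTwo.conj_mem_of_normalizer h1 h4) h2
      inv_mem' := by
        rintro g ⟨h1, h2⟩
        refine ⟨inv_mem h1, ?_⟩
        have e : g⁻¹ * w * g⁻¹⁻¹ * w⁻¹ = g⁻¹ * (g * w * g⁻¹ * w⁻¹)⁻¹ * g := by group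
        rw [e]
        exact BTwo.conj_inv_mem_of_normalizer h1 (inv_mem h2) }
  have h1 : z * z ∈ H := ⟨mul_mem hz hz, h⟩
  obtain ⟨j, hj⟩ := ho
  have h2 : z = (z * z) ^ (j + 1) := by
    rw [← sq, ← pow_mul, show 2 * (j + 1) = (2 * j + 1) + 1 by ring, ← hj, pow_succ, pow_orderOf_eq_one, one_mul]
  have h3 : z ∈ H := by
    rw [h2]
    exact pow_mem h1 _
  exact h3.2

end grp

section mod

variable {G : Type u} [Group G] {ι : Type w} {V : Subgroup G} {R : ι → Subgroup G} {i j : ι} {F : Type v}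
  [Field F] {v : F → F → G} {w1 w2 : F → G} {M E : Type u} [AddCommGroup M] [AddCommGroup E]
  [DistribMulAction (NR R i) M] [DistribMulAction (NR R i) E] [Module F M] {p : G → M} {r : G → E}
  {f : M →+ M →+ E} {φ : M →ₗ[F] M →ₗ[F] F} {s : NR R i → (F ≃+* F)} [CharP F 2]
  [Finite G] [Finite F] {h : FMod V R i j v w1 w2 M E p r f φ s} {t : F → G} {τ : Lie.TorD V R i j v t}
  {N : Type u} [AddCommGroup N] [Module F N] {P1 P2 : G → N} {y : YPair V R i j w1 w2 N P1 P2}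
  {n : N →ₗ[F] M} {sf : N →ₗ[F] N →ₗ[F] M} {q : N → N →ₗ[F] F}
  {B U Px Q : Subgroup G} {k : N} {g : Eig h τ y n sf q}

namespace QOut

variable (O : QOut g k Q)
include O

/-- the swap -/
theorem exists_swap : ∃ (m : NR R i) (β γ : F), SwapM h n sf k m β γ ∧ (m : G) ∈ Q := by
  obtain ⟨m, hm, β, γ, hβ, hγ, hme, hmn⟩ := O.swap
  exact ⟨m, β, γ, ⟨O.QR hm, hme, hmn, hβ, hγ, O.QN m hm, fun x hx => O.QN m⁻¹ (inv_mem hm) x hx⟩, hm⟩

variable (K : QPx V R i B U Px Q) (hg : QGen U Px Q)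
include K

/-- the elements of `U` fix `e` -/
theorem U_e {x : NR R i} (hx : (x : G) ∈ U) : x • p (v 0 1) = p (v 0 1) := by
  have _ := O
  obtain ⟨w, hw, hc⟩ := K.dat.UC _ hx
  have hwN : w ∈ NR R i := h.bt.W_le_N i hw
  have hv : v 0 1 ∈ V := h.co.v_mem _ _
  have h1 : ((⟨w, hwN⟩ : NR R i)⁻¹ * x) • p (v 0 1) = p (v 0 1) := by
    rw [h.fr.p_act _ _ (V_le_WW V (R i) hv)]
    have h2 : (((⟨w, hwN⟩ : NR R i)⁻¹ * x : NR R i) : G) = w⁻¹ * x := rfl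
    rw [h2, ← mem_centralizer_iff.1 hc _ hv, mul_inv_cancel_right]
  rw [mul_smul, inv_smul_eq_iff, h.fr.W_act h.bt (h := ⟨w, hwN⟩) hw] at h1
  exact h1

include hg

theorem O_le_Q : U ⊓ Qk B Px ≤ Q := by
  have _ := O
  exact inf_le_left.trans hg.UQ

/-- `O` is trivial on `N_k` -/
theorem O_le_cmod : U ⊓ Qk B Px ≤ cmod (R i) ((gfr_of g).SG k) := by
  intro o ho
  have hoQ : o ∈ Q := hg.UQ (mem_inf.1 ho).1
  have hoN : o ∈ NR R i := centralizer_le_normalizer _ (O.QR hoQ)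
  refine (mem_cmod_iff g (k := k) (x := ⟨o, hoN⟩)).2 fun m hm => ?_
  have h1 : ∀ m ∈ Submodule.span F {m | ∃ x : NR R i, (x : G) ∈ Q ∧ m = x • p (v 0 1)},
      (⟨o, hoN⟩ : NR R i) • m = m := by
    intro m hm
    refine Submodule.span_induction (p := fun m _ => (⟨o, hoN⟩ : NR R i) • m = m) ?_ ?_ ?_ ?_ hm
    · rintro _ ⟨x, hx, rfl⟩
      have h2 : (x : G)⁻¹ * o * x ∈ U ⊓ Qk B Px := BTwo.conj_inv_mem_of_normalizer (K.O_norm (K.QP hx)) ho
      have h3 := O.U_e K (x := x⁻¹ * ⟨o, hoN⟩ * x) (mem_inf.1 h2).1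
      rw [mul_smul, mul_smul, inv_smul_eq_iff] at h3
      exact h3
    · exact smul_zero _
    · intro a b _ _ ha hb
      rw [smul_add, ha, hb]
    · intro c a _ ha
      rw [h.lin_cen (g := ⟨o, hoN⟩) (O.QR hoQ), ha]
  exact h1 m (O.span hm)

omit hg in
/-- the kernel of `Q` on `N_k` is in the kernel of the panel -/
theorem KN_le_Qk (hQ : QQ (R i) = WW V (R i)) : Q ⊓ cmod (R i) ((gfr_of g).SG k) ≤ Qk B Px := by
  rintro x hx
  obtain ⟨hxQ, hxc⟩ := mem_inf.1 hx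
  have hxN : x ∈ NR R i := centralizer_le_normalizer _ (O.QR hxQ)
  exact mem_Qk_of_scalar h K.X (O.PN K hQ) e_mem_Ng (z := ⟨x, hxN⟩) (K.QP hxQ) (d := 1) fun m hm => by
    rw [one_smul]
    exact (mem_cmod_iff g (k := k) (x := ⟨x, hxN⟩)).1 hxc m hm

/-- **lift**: an element of `N(Q) ∩ N(O)` trivial on `Q` modulo the kernel on `N_k` is trivial modulo `O` -/
theorem lift (hQ : QQ (R i) = WW V (R i)) {c : G} (hcQ : c ∈ normalizer (Q : Set G))
    (hcO : c ∈ normalizer ((U ⊓ Qk B Px : Subgroup G) : Set G))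
    (hc : ∀ x ∈ Q, c * x * c⁻¹ * x⁻¹ ∈ cmod (R i) ((gfr_of g).SG k)) :
    ∀ x ∈ Q, c * x * c⁻¹ * x⁻¹ ∈ U ⊓ Qk B Px :=
  K.hom hg hcO fun x hx => O.KN_le_Qk K hQ
    (mem_inf.2 ⟨mul_mem (BTwo.conj_mem_of_normalizer hcQ hx) (inv_mem hx), hc x hx⟩)

omit hg in
theorem t_mem (a : Fˣ) : t a ∈ Px := K.X.le (Zero.t_mem_B h.bt K.dat τ a.ne_zero)

omit K hg in
/-- `z z^m` is trivial on `N_k`, so `[z z^m, Q] ≤ cmod` -/
theorem tt_cmod {m : NR R i} {β γ : F} (sw : SwapM h n sf k m β γ) (a : Fˣ) {x : G} (hx : x ∈ Q) :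
    (t a * ((m : G) * t a * (m : G)⁻¹)) * x * (t a * ((m : G) * t a * (m : G)⁻¹))⁻¹ * x⁻¹ ∈
      cmod (R i) ((gfr_of g).SG k) := by
  have hxN : x ∈ NR R i := centralizer_le_normalizer _ (O.QR hx)
  have dz := diag_t g k a
  have dζ := sw.diag g O.ne a
  have h1 := dz.mul dζ
  rw [inv_mul_cancel₀ a.ne_zero, mul_inv_cancel₀ a.ne_zero] at h1
  set X : NR R i := tT τ a * (m * tT τ a * m⁻¹) with hX
  have h2 : (X * ⟨x, hxN⟩ * X⁻¹ * (⟨x, hxN⟩ : NR R i)⁻¹ : NR R i) = X * ⟨x, hxN⟩ * X⁻¹ * (⟨x, hxN⟩ : NR R i)⁻¹ := rfl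
  have h3 : ((X * ⟨x, hxN⟩ * X⁻¹ * (⟨x, hxN⟩ : NR R i)⁻¹ : NR R i) : G) ∈ cmod (R i) ((gfr_of g).SG k) := by
    refine (mem_cmod_iff g (k := k)).2 fun m' hm' => ?_
    have h4 : (⟨x, hxN⟩ : NR R i)⁻¹ • m' ∈ NK p v n sf k := O.QN _ (inv_mem hx) m' hm'
    have h5 : X⁻¹ • ((⟨x, hxN⟩ : NR R i)⁻¹ • m') = (⟨x, hxN⟩ : NR R i)⁻¹ • m' := by
      rw [inv_smul_eq_iff]
      exact (h1.act h4).symm
    rw [mul_smul, mul_smul, mul_smul, h5, smul_inv_smul]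
    exact h1.act hm'
  exact h3

/-- **`[t, t^m] ∈ O`** -/
theorem comm_O (hQ : QQ (R i) = WW V (R i)) {m : NR R i} {β γ : F} (sw : SwapM h n sf k m β γ) (hm : (m : G) ∈ Q)
    (a : Fˣ) : t a * ((m : G) * t a * (m : G)⁻¹) * (t a)⁻¹ * ((m : G) * t a * (m : G)⁻¹)⁻¹ ∈ U ⊓ Qk B Px := by
  have hz := O.t_mem K a
  have hzQ := K.PnQ hz
  have hmP := K.QP hm
  set z := t a with hzd
  set ζ := (m : G) * z * (m : G)⁻¹ with hζ
  have hζP : ζ ∈ Px := mul_mem (mul_mem hmP hz) (inv_mem hmP)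
  set w := ζ * z⁻¹ with hw
  have hwQ : w ∈ Q := by
    have e : w = (m : G) * (z * (m : G)⁻¹ * z⁻¹) := by rw [hw, hζ]; group
    rw [e]
    exact mul_mem hm (BTwo.conj_mem_of_normalizer hzQ (inv_mem hm))
  have hcP : z * ζ ∈ Px := mul_mem hz hζP
  have h1 := O.lift K hg hQ (c := z * ζ) (K.PnQ hcP) (K.O_norm hcP) (fun x hx => O.tt_cmod sw a hx)
    (z⁻¹ * w * z) (BTwo.conj_inv_mem_of_normalizer hzQ hwQ)
  have h2 := BTwo.conj_mem_of_normalizer (K.O_norm hz) h1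
  have e1 : z * (z * ζ * (z⁻¹ * w * z) * (z * ζ)⁻¹ * (z⁻¹ * w * z)⁻¹) * z⁻¹ = z * z * w * (z * z)⁻¹ * w⁻¹ := by
    have e2 : ζ = w * z := by rw [hw]; group
    rw [e2]
    group
  rw [e1] at h2
  have h3 := comm_of_sq_O (K.O_norm hz) (τ.odd a a.ne_zero) h2
  have e3 : z * ζ * z⁻¹ * ζ⁻¹ = z * w * z⁻¹ * w⁻¹ := by
    have e2 : ζ = w * z := by rw [hw]; group
    rw [e2]
    group
  rw [e3]
  exact h3

omit hg in
/-- `U_j` covers `U` modulo the kernel of the panel -/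
theorem cov {u : G} (hu : u ∈ U) : ∃ x ∈ UU V R j, x⁻¹ * u ∈ Qk B Px := by
  obtain ⟨m, β, γ, sw, hm⟩ := O.exists_swap
  have hmP := K.QP hm
  have hmB := O.swap_notMem K sw.β0 sw.me
  have huP : u ∈ Px := K.X.le (K.dat.UB hu)
  obtain ⟨x, hx, h1⟩ := O.tr1 K hmP sw.β0 sw.me sw.cen (u * m) (mul_mem huP hmP) fun h0 => hmB (by
    have := mul_mem (inv_mem (K.dat.UB hu)) h0
    rwa [inv_mul_cancel_left] at this)
  refine ⟨x, hx, ?_⟩
  have hxU : x ∈ U := ((UU_le_YY j).trans K.X.YU) hx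
  refine K.X.reg (x⁻¹ * u) (mul_mem (inv_mem hxU) hu) m hmP hmB ?_
  rwa [show (m : G)⁻¹ * (x⁻¹ * u) * m = (x * (m : G))⁻¹ * (u * m) by group]

omit hg in
/-- `U_j ≤ Q' (Q ∩ Q_x)` -/
theorem Uj_le (hQ : QQ (R i) = WW V (R i)) : UU V R j ≤ ⁅Q, Q⁆ ⊔ (Q ⊓ Qk B Px) := by
  obtain ⟨m, β, γ, sw, hm⟩ := O.exists_swap
  obtain ⟨a, ha⟩ := h.exists_unit
  have hz := O.t_mem K a
  have hzQ := K.PnQ hz
  have hmP := K.QP hm
  set z := t a with hzd
  set ζ := (m : G) * z * (m : G)⁻¹ with hζ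
  have hζP : ζ ∈ Px := mul_mem (mul_mem hmP hz) (inv_mem hmP)
  have hC : ∀ x ∈ Q, ∀ x' ∈ Q, x * x' * x⁻¹ * x'⁻¹ ∈ ⁅Q, Q⁆ := fun x hx x' hx' =>
    commutator_mem_commutator hx hx'
  have hzC : ∀ x ∈ ⁅Q, Q⁆, z * x * z⁻¹ ∈ ⁅Q, Q⁆ := by
    intro x hx
    have h1 := cj_eq_self_iff.2 hzQ
    have h2 : cj z ⁅Q, Q⁆ = ⁅Q, Q⁆ := by
      conv_rhs => rw [← h1]
      exact map_commutator Q Q _
    rw [← h2]
    exact conj_mem_cj hx
  have hzK : ∀ x ∈ Q ⊓ Qk B Px, z * x * z⁻¹ ∈ Q ⊓ Qk B Px := fun x hx =>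
    mem_inf.2 ⟨BTwo.conj_mem_of_normalizer hzQ (mem_inf.1 hx).1, Qk_conj' (mem_inf.1 hx).2 hz⟩
  -- `z² u z⁻² u⁻¹ ∈ Q₁`
  have key : ∀ u ∈ UU V R j, z * z * u * (z * z)⁻¹ * u⁻¹ ∈ ⁅Q, Q⁆ ⊔ (Q ⊓ Qk B Px) := by
    intro u hu
    have huQ := O.UQ hu
    set w := z⁻¹ * u * z with hw
    have hwQ : w ∈ Q := BTwo.conj_inv_mem_of_normalizer hzQ huQ
    set x0 := (m : G) * u * (m : G)⁻¹ with hx0
    have hx0Q : x0 ∈ Q := mul_mem (mul_mem hm huQ) (inv_mem hm)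
    have e0 : ζ⁻¹ * x0 * ζ = (m : G) * w * (m : G)⁻¹ := by rw [hζ, hx0, hw]; group
    have hmwQ : (m : G) * w * (m : G)⁻¹ ∈ Q := mul_mem (mul_mem hm hwQ) (inv_mem hm)
    have h1 : z * x0 * z⁻¹ * ((m : G) * w * (m : G)⁻¹)⁻¹ ∈ Q ⊓ Qk B Px := by
      have h2 := O.tt_cmod sw a hmwQ
      have e1 : (t a * ((m : G) * t a * (m : G)⁻¹)) * ((m : G) * w * (m : G)⁻¹) *
          (t a * ((m : G) * t a * (m : G)⁻¹))⁻¹ * ((m : G) * w * (m : G)⁻¹)⁻¹ =
          z * x0 * z⁻¹ * ((m : G) * w * (m : G)⁻¹)⁻¹ := by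
        rw [hw, hx0, ← hzd]
        group
      rw [e1] at h2
      have h3 : z * x0 * z⁻¹ * ((m : G) * w * (m : G)⁻¹)⁻¹ ∈ Q :=
        mul_mem (BTwo.conj_mem_of_normalizer hzQ hx0Q) (inv_mem hmwQ)
      exact mem_inf.2 ⟨h3, O.KN_le_Qk K hQ (mem_inf.2 ⟨h3, h2⟩)⟩
    have h2 : z * (x0 * u⁻¹)⁻¹ * z⁻¹ ∈ ⁅Q, Q⁆ := hzC _ (inv_mem (hC _ hm _ huQ))
    have h3 : (m : G) * w * (m : G)⁻¹ * w⁻¹ ∈ ⁅Q, Q⁆ := hC _ hm _ hwQ
    have e2 : z * z * u * (z * z)⁻¹ * u⁻¹ =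
        (z * (z * (x0 * u⁻¹)⁻¹ * z⁻¹) * z⁻¹) * (z * (z * x0 * z⁻¹ * ((m : G) * w * (m : G)⁻¹)⁻¹) * z⁻¹) *
          (z * ((m : G) * w * (m : G)⁻¹ * w⁻¹) * z⁻¹) := by
      rw [hw]
      group
    rw [e2]
    exact mul_mem (mul_mem ((le_sup_left : _ ≤ ⁅Q, Q⁆ ⊔ (Q ⊓ Qk B Px)) (hzC _ h2))
      ((le_sup_right : _ ≤ ⁅Q, Q⁆ ⊔ (Q ⊓ Qk B Px)) (hzK _ h1)))
      ((le_sup_left : _ ≤ ⁅Q, Q⁆ ⊔ (Q ⊓ Qk B Px)) (hzC _ h3))
  intro u' hu'
  have ha2 : (a : F)⁻¹ * (a : F)⁻¹ - 1 ≠ 0 := by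
    intro h0
    refine h.sub_inv_ne (inv_ne_zero a.ne_zero) (fun h1 => ha (inv_eq_one.1 h1)) ?_
    rw [inv_inv]
    have h1 : (a : F)⁻¹ * (a : F)⁻¹ = 1 := sub_eq_zero.1 h0
    have h2 : (a : F)⁻¹ = a := by
      have h3 : (a : F)⁻¹ * (a : F)⁻¹ * a = 1 * a := by rw [h1]
      rw [mul_assoc, inv_mul_cancel₀ a.ne_zero, mul_one, one_mul] at h3
      exact h3
    rw [h2, sub_self]
  obtain ⟨u, hu, hu2⟩ := exists_ak h y (((a : F)⁻¹ * (a : F)⁻¹ - 1)⁻¹ • P2 u')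
  have huY := UU_le_YY j hu
  have hXX := τ.memX a a.ne_zero
  have hYn : ∀ x ∈ YY V R, z * x * z⁻¹ ∈ YY V R := fun x hx =>
    BTwo.conj_mem_of_normalizer (h.bt.NV_le_NY (h.bt.X_le_NV hXX)) hx
  have hzU : ∀ x ∈ UU V R j, z * x * z⁻¹ ∈ UU V R j := by
    intro x hx
    rw [← h.bt.cj_UU (h.bt.X_le_NV hXX) (cj_eq_self_iff.2 (τ.normR' a.ne_zero))]
    exact conj_mem_cj hx
  set c := z * z * (u : G) * (z * z)⁻¹ * (u : G)⁻¹ with hc
  have ec : c = (z * (z * (u : G) * z⁻¹) * z⁻¹) * (u : G)⁻¹ := by rw [hc]; group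
  have hcU : c ∈ UU V R j := by
    rw [ec]
    exact mul_mem (hzU _ (hzU _ hu)) (inv_mem hu)
  have hP2 : P2 c = P2 u' := by
    have h1 := (YPair.tor τ y h.co h.btc a.ne_zero huY).2
    have h2 := (YPair.tor τ y h.co h.btc a.ne_zero (hYn _ huY)).2
    rw [ec, y.mul2 _ (hYn _ (hYn _ huY)) _ (inv_mem huY), h2, h1, y.inv2 huY, hu2, smul_smul, smul_smul, ← sub_eq_add_neg,
      ← sub_smul]
    have e3 : (a : F)⁻¹ * (a : F)⁻¹ * ((a : F)⁻¹ * (a : F)⁻¹ - 1)⁻¹ - ((a : F)⁻¹ * (a : F)⁻¹ - 1)⁻¹ =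
        ((a : F)⁻¹ * (a : F)⁻¹ - 1) * ((a : F)⁻¹ * (a : F)⁻¹ - 1)⁻¹ := by ring
    rw [e3, mul_inv_cancel₀ ha2, one_smul]
  have hcY := UU_le_YY j hcU
  have hu'Y := UU_le_YY j hu'
  have hD : c⁻¹ * u' ∈ DD V R := by
    have h1 : c⁻¹ * u' ∈ YY V R := mul_mem (inv_mem hcY) hu'Y
    rw [y.mem_D _ h1]
    refine ⟨?_, ?_⟩
    · exact (y.mem_U2 _ h1).1 (mul_mem (inv_mem hcU) hu')
    · rw [y.mul2 _ (inv_mem hcY) _ hu'Y, y.inv2 hcY, hP2, neg_add_cancel]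
  have h4 : c⁻¹ * u' ∈ Q ⊓ Qk B Px := by
    refine mem_inf.2 ⟨O.UQ (mul_mem (inv_mem hcU) hu'), ?_⟩
    have h5 := W_le_Qx (P := fun _ : Unit => Px) (x := ()) K.dat K.X
    exact h5 (D_le_W V R i hD)
  have h5 := mul_mem (key u hu) ((le_sup_right : _ ≤ ⁅Q, Q⁆ ⊔ (Q ⊓ Qk B Px)) h4)
  rw [← hc, mul_inv_cancel_left] at h5
  exact h5

/-- **`Q ≤ Q' O`** -/
theorem perf (hQ : QQ (R i) = WW V (R i)) : Q ≤ ⁅Q, Q⁆ ⊔ (U ⊓ Qk B Px) := by
  refine K.perf_O hg fun u hu => ?_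
  obtain ⟨x, hx, h1⟩ := O.cov K hu
  have h2 : x⁻¹ * u ∈ Q ⊓ Qk B Px := mem_inf.2 ⟨mul_mem (inv_mem (O.UQ hx)) (hg.UQ hu), h1⟩
  have h3 := mul_mem (O.Uj_le K hQ hx) ((le_sup_right : _ ≤ ⁅Q, Q⁆ ⊔ (Q ⊓ Qk B Px)) h2)
  rwa [mul_inv_cancel_left] at h3

end QOut

end mod

end Cfsg.Agent.Omega.Lie.Nodes

end

section


/-!
# II.0h1, split, `q ≥ 4`: the kernel of `P_W` on the node is central modulo `O = P_W ∩ U ∩ Q_x`

`K : QPx V R i B U Px P`, `P` the group of the node (`P = Px ∩ C(R i)`), `Q = PW V R i P`, `O = Q ⊓ (U ⊓ Qk B Px)`.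

* `QGn`: `Q` is generated by the conjugates of `U0 ≤ U` under `Px`; `lift`, `perf` in this generality;
* `Sc.qpx_PW`, `Nd.qgn_PW`;
* `Sc.OKH` : all facts together: `OP, OK, PO, PxO, OT, two, perf, lift`.
-/

set_option autoImplicit false
set_option linter.unusedSectionVars false

namespace Cfsg.Agent.Omega.HOneQ

open Subgroup Cfsg.Agent.Omega.BTwo Cfsg.Agent.ParSys
open Cfsg.Agent.Omega.Lie (TorD)
open Cfsg.Agent.Omega.Lie.Nodes (cmod NodeX QPx comm_of_sq_O)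
open Cfsg.Agent.Omega.Lie.End

universe u v w

namespace KerO

variable {G : Type u} [Group G] {ι : Type w} {V : Subgroup G} {R : ι → Subgroup G} {i j : ι} {B U U0 Px Q : Subgroup G}

/-- `Q` is generated by the conjugates of `U0 ≤ U` under `Px` -/
structure QGn (U0 U Px Q : Subgroup G) : Prop where
  U0U : U0 ≤ U
  U0Q : U0 ≤ Q
  gen : ∀ H : Subgroup G, (∀ g ∈ Px, ∀ u ∈ U0, g * u * g⁻¹ ∈ H) → Q ≤ H

variable (K : QPx V R i B U Px Q) (hg : QGn U0 U Px Q)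
include K

/-- `O = Q ∩ U ∩ Q_x` -/
theorem PxO [Finite G] : Px ≤ normalizer ((Q ⊓ (U ⊓ Qk B Px) : Subgroup G) : Set G) := by
  intro g hg'
  rw [← cj_eq_self_iff, cj_inf, cj_eq_self_iff.2 (K.PnQ hg'), cj_eq_self_iff.2 (K.O_norm hg')]

theorem O_two : IsPGroup 2 (Q ⊓ (U ⊓ Qk B Px) : Subgroup G) := K.O_two.to_le inf_le_right

include hg

/-- `[Qk B Px, Q] ≤ O` -/
theorem cen [Finite G] {z x : G} (hz : z ∈ Qk B Px) (hx : x ∈ Q) : z * x * z⁻¹ * x⁻¹ ∈ U ⊓ Qk B Px := by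
  have hO := K.O_norm
  let H : Subgroup G :=
    { carrier := {x | x ∈ Px ∧ ∀ z ∈ Qk B Px, z * x * z⁻¹ * x⁻¹ ∈ U ⊓ Qk B Px}
      one_mem' := ⟨one_mem _, fun z _ => by
        rw [mul_one, mul_inv_cancel, one_mul, inv_one]; exact one_mem _⟩
      mul_mem' := by
        rintro x x' ⟨hx, h1⟩ ⟨hx', h2⟩
        refine ⟨mul_mem hx hx', fun z hz => ?_⟩
        have e : z * (x * x') * z⁻¹ * (x * x')⁻¹ = (z * x * z⁻¹ * x⁻¹) * (x * (z * x' * z⁻¹ * x'⁻¹) * x⁻¹) := by group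
        rw [e]
        exact mul_mem (h1 z hz) (BTwo.conj_mem_of_normalizer (hO hx) (h2 z hz))
      inv_mem' := by
        rintro x ⟨hx, h1⟩
        refine ⟨inv_mem hx, fun z hz => ?_⟩
        have e : z * x⁻¹ * z⁻¹ * x⁻¹⁻¹ = x⁻¹ * (z * x * z⁻¹ * x⁻¹)⁻¹ * x := by group
        rw [e]
        exact BTwo.conj_inv_mem_of_normalizer (hO hx) (inv_mem (h1 z hz)) }
  have h1 : Q ≤ H := by
    refine hg.gen H fun g hg' u hu => ⟨mul_mem (mul_mem hg' (K.X.le (K.dat.UB (hg.U0U hu)))) (inv_mem hg'),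
      fun z hz => ?_⟩
    have e : z * (g * u * g⁻¹) * z⁻¹ * (g * u * g⁻¹)⁻¹ =
        g * ((g⁻¹ * z * g) * u * (g⁻¹ * z * g)⁻¹ * u⁻¹) * g⁻¹ := by group
    rw [e]
    exact BTwo.conj_mem_of_normalizer (hO hg') (K.comm_U (Qk_conj hz hg') (hg.U0U hu))
  exact (h1 hx).2 z hz

/-- `[τ, Q] ≤ Qk B Px` implies `[τ, Q] ≤ U ⊓ Qk B Px` -/
theorem hom [Finite G] {τ : G} (hτ : ∀ x ∈ Q, τ * x * τ⁻¹ * x⁻¹ ∈ Qk B Px) :
    ∀ x ∈ Q, τ * x * τ⁻¹ * x⁻¹ ∈ U ⊓ Qk B Px := by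
  have hO := K.O_norm
  have hQO : Q ≤ normalizer ((U ⊓ Qk B Px : Subgroup G) : Set G) := K.QP.trans hO
  let H : Subgroup G :=
    { carrier := {x | x ∈ Q ∧ τ * x * τ⁻¹ * x⁻¹ ∈ U ⊓ Qk B Px}
      one_mem' := ⟨one_mem _, by
        rw [mul_one, mul_inv_cancel, one_mul, inv_one]; exact one_mem _⟩
      mul_mem' := by
        rintro x x' ⟨hx, h1⟩ ⟨hx', h2⟩
        refine ⟨mul_mem hx hx', ?_⟩
        have e : τ * (x * x') * τ⁻¹ * (x * x')⁻¹ = (τ * x * τ⁻¹ * x⁻¹) * (x * (τ * x' * τ⁻¹ * x'⁻¹) * x⁻¹) := by group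
        rw [e]
        exact mul_mem h1 (BTwo.conj_mem_of_normalizer (hQO hx) h2)
      inv_mem' := by
        rintro x ⟨hx, h1⟩
        refine ⟨inv_mem hx, ?_⟩
        have e : τ * x⁻¹ * τ⁻¹ * x⁻¹⁻¹ = x⁻¹ * (τ * x * τ⁻¹ * x⁻¹)⁻¹ * x := by group
        rw [e]
        exact BTwo.conj_inv_mem_of_normalizer (hQO hx) (inv_mem h1) }
  have h1 : Q ≤ H := by
    refine hg.gen H fun g hg' u hu => ?_
    set x := g * u * g⁻¹ with hx
    have hxQ : x ∈ Q := BTwo.conj_mem_of_normalizer (K.PnQ hg') (hg.U0Q hu)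
    refine ⟨hxQ, ?_⟩
    set κ := τ * x * τ⁻¹ * x⁻¹ with hκ
    have hκQ : κ ∈ Qk B Px := hτ x hxQ
    -- `τ x^n τ⁻¹ ∈ O κ^n x^n`
    have hpow : ∀ n : ℕ, τ * x ^ n * τ⁻¹ * (κ ^ n * x ^ n)⁻¹ ∈ U ⊓ Qk B Px := by
      intro n
      induction n with
      | zero => simp
      | succ n ih =>
        have h2 : κ⁻¹ * x ^ n * κ⁻¹⁻¹ * (x ^ n)⁻¹ ∈ U ⊓ Qk B Px := cen K hg (inv_mem hκQ) (pow_mem hxQ n)
        have e : τ * x ^ (n + 1) * τ⁻¹ * (κ ^ (n + 1) * x ^ (n + 1))⁻¹ =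
            (τ * x ^ n * τ⁻¹ * (κ ^ n * x ^ n)⁻¹) * (κ ^ n * κ * (κ⁻¹ * x ^ n * κ⁻¹⁻¹ * (x ^ n)⁻¹) *
              (κ ^ n * κ)⁻¹) := by
          rw [pow_succ, pow_succ, hκ]
          group
        rw [e]
        exact mul_mem ih (BTwo.conj_mem_of_normalizer (hO (K.Qk_le_B.trans K.X.le (mul_mem (pow_mem hκQ n) hκQ))) h2)
    obtain ⟨m, hm⟩ := K.X.isP ⟨u, hg.U0U hu⟩
    have hm' : u ^ 2 ^ m = 1 := by simpa using congrArg Subtype.val hm
    have hxm : x ^ 2 ^ m = 1 := by rw [hx, conj_pow, hm', mul_one, mul_inv_cancel]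
    have h3 := hpow (2 ^ m)
    rw [hxm, mul_one, mul_one, mul_inv_cancel, one_mul] at h3
    have h4 : κ ^ 2 ^ m ∈ U := (mem_inf.1 (inv_mem_iff.1 h3)).1
    exact mem_inf.2 ⟨Lie.Zero.mem_U_of_two K.X.norm K.X.index (K.Qk_le_B hκQ) h4, hκQ⟩
  exact fun x hx => (h1 hx).2

/-- **lift** -/
theorem lift [Finite G] {c : G} (hcQ : c ∈ normalizer (Q : Set G)) (hc : ∀ x ∈ Q, c * x * c⁻¹ * x⁻¹ ∈ Qk B Px) :
    ∀ x ∈ Q, c * x * c⁻¹ * x⁻¹ ∈ Q ⊓ (U ⊓ Qk B Px) := fun x hx =>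
  mem_inf.2 ⟨mul_mem (BTwo.conj_mem_of_normalizer hcQ hx) (inv_mem hx), hom K hg hc x hx⟩

/-- `Q ≤ Q' O` from `U0 ≤ Q' (Q ⊓ Qk B Px)` -/
theorem perf_O [Finite G] (h : U0 ≤ ⁅Q, Q⁆ ⊔ (Q ⊓ Qk B Px)) : Q ≤ ⁅Q, Q⁆ ⊔ (Q ⊓ (U ⊓ Qk B Px)) := by
  have hO := PxO K
  have hPQ := K.PnQ
  have hPC : Px ≤ normalizer ((⁅Q, Q⁆ : Subgroup G) : Set G) := by
    intro x hx
    rw [← cj_eq_self_iff]
    have h1 := cj_eq_self_iff.2 (hPQ hx)
    conv_rhs => rw [← h1]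
    exact map_commutator Q Q _
  have hPn : Px ≤ normalizer ((⁅Q, Q⁆ ⊔ (Q ⊓ (U ⊓ Qk B Px)) : Subgroup G) : Set G) := by
    intro x hx
    rw [← cj_eq_self_iff, cj_sup, cj_eq_self_iff.2 (hPC hx), cj_eq_self_iff.2 (hO hx)]
  refine hg.gen _ fun g hg' u hu => BTwo.conj_mem_of_normalizer (hPn hg') ?_
  -- `u = c κ`
  have h1 : u ∈ ((⁅Q, Q⁆ ⊔ (Q ⊓ Qk B Px) : Subgroup G) : Set G) := h hu
  rw [coe_mul_of_right_le_normalizer_left _ _ (inf_le_left.trans (K.QP.trans hPC))] at h1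
  obtain ⟨c, hc, κ, hκ, e⟩ := h1
  have e' : c * κ = u := e
  have hκQ : κ ∈ Qk B Px := (mem_inf.1 hκ).2
  have hκQ' : κ ∈ Q := (mem_inf.1 hκ).1
  set n := U.relIndex B with hn
  have hκn : κ ^ n ∈ Q ⊓ (U ⊓ Qk B Px) :=
    mem_inf.2 ⟨pow_mem hκQ' n, mem_inf.2 ⟨Hall.pow_relIndex_mem K.X.norm (K.Qk_le_B hκQ), pow_mem hκQ n⟩⟩
  have hCn : Q ≤ normalizer ((⁅Q, Q⁆ : Subgroup G) : Set G) := K.QP.trans hPC
  have hun : ∀ n : ℕ, (κ ^ n)⁻¹ * u ^ n ∈ ⁅Q, Q⁆ := by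
    intro n
    refine Lie.Nodes.Apt.pow_coset (hCn hκQ') ?_ n
    rw [← e', ← mul_assoc]
    exact BTwo.conj_inv_mem_of_normalizer (hCn hκQ') hc
  have h2 : u ^ n ∈ ⁅Q, Q⁆ ⊔ (Q ⊓ (U ⊓ Qk B Px)) := by
    have h3 := mul_mem ((le_sup_right : _ ≤ ⁅Q, Q⁆ ⊔ (Q ⊓ (U ⊓ Qk B Px))) hκn)
      ((le_sup_left : _ ≤ ⁅Q, Q⁆ ⊔ (Q ⊓ (U ⊓ Qk B Px))) (hun n))
    rwa [mul_inv_cancel_left] at h3
  obtain ⟨m, hm⟩ := K.X.isP ⟨u, hg.U0U hu⟩
  have hm' : u ^ 2 ^ m = 1 := by simpa using congrArg Subtype.val hm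
  have hco : Nat.Coprime n (2 ^ m) := (K.X.index.symm).pow_right m
  exact Hall.mem_of_pow_mem_of_coprime (a := n) (b := 2 ^ m) h2 (by rw [hm']; exact one_mem _) hco

omit hg in
/-- `[z², u] ∈ Q' (Q ∩ Q_x)` if `z z^m` centralises `Q` modulo the kernel of the panel, `m ∈ Q` -/
theorem sq_comm {z m : G} (hz : z ∈ Px) (hm : m ∈ Q)
    (hc : ∀ x ∈ Q, (z * (m * z * m⁻¹)) * x * (z * (m * z * m⁻¹))⁻¹ * x⁻¹ ∈ Qk B Px) {u : G} (hu : u ∈ Q) :
    z * z * u * (z * z)⁻¹ * u⁻¹ ∈ ⁅Q, Q⁆ ⊔ (Q ⊓ Qk B Px) := by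
  have hzQ := K.PnQ hz
  have hC : ∀ x ∈ Q, ∀ x' ∈ Q, x * x' * x⁻¹ * x'⁻¹ ∈ ⁅Q, Q⁆ := fun x hx x' hx' =>
    commutator_mem_commutator hx hx'
  have hzC : ∀ x ∈ ⁅Q, Q⁆, z * x * z⁻¹ ∈ ⁅Q, Q⁆ := by
    intro x hx
    have h1 := cj_eq_self_iff.2 hzQ
    have h2 : cj z ⁅Q, Q⁆ = ⁅Q, Q⁆ := by
      conv_rhs => rw [← h1]
      exact map_commutator Q Q _
    rw [← h2]
    exact conj_mem_cj hx
  have hzK : ∀ x ∈ Q ⊓ Qk B Px, z * x * z⁻¹ ∈ Q ⊓ Qk B Px := fun x hx =>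
    mem_inf.2 ⟨BTwo.conj_mem_of_normalizer hzQ (mem_inf.1 hx).1, Qk_conj' (mem_inf.1 hx).2 hz⟩
  set w := z⁻¹ * u * z with hw
  have hwQ : w ∈ Q := BTwo.conj_inv_mem_of_normalizer hzQ hu
  set x0 := m * u * m⁻¹ with hx0
  have hx0Q : x0 ∈ Q := mul_mem (mul_mem hm hu) (inv_mem hm)
  have hmwQ : m * w * m⁻¹ ∈ Q := mul_mem (mul_mem hm hwQ) (inv_mem hm)
  have h1 : z * x0 * z⁻¹ * (m * w * m⁻¹)⁻¹ ∈ Q ⊓ Qk B Px := by
    have h2 := hc _ hmwQ
    have e1 : (z * (m * z * m⁻¹)) * (m * w * m⁻¹) * (z * (m * z * m⁻¹))⁻¹ * (m * w * m⁻¹)⁻¹ =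
        z * x0 * z⁻¹ * (m * w * m⁻¹)⁻¹ := by
      rw [hw, hx0]
      group
    rw [e1] at h2
    exact mem_inf.2 ⟨mul_mem (BTwo.conj_mem_of_normalizer hzQ hx0Q) (inv_mem hmwQ), h2⟩
  have h2 : z * (x0 * u⁻¹)⁻¹ * z⁻¹ ∈ ⁅Q, Q⁆ := hzC _ (inv_mem (hC _ hm _ hu))
  have h3 : m * w * m⁻¹ * w⁻¹ ∈ ⁅Q, Q⁆ := hC _ hm _ hwQ
  have e2 : z * z * u * (z * z)⁻¹ * u⁻¹ =
      (z * (z * (x0 * u⁻¹)⁻¹ * z⁻¹) * z⁻¹) * (z * (z * x0 * z⁻¹ * (m * w * m⁻¹)⁻¹) * z⁻¹) *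
        (z * (m * w * m⁻¹ * w⁻¹) * z⁻¹) := by
    rw [hw]
    group
  rw [e2]
  exact mul_mem (mul_mem ((le_sup_left : _ ≤ ⁅Q, Q⁆ ⊔ (Q ⊓ Qk B Px)) (hzC _ h2))
    ((le_sup_right : _ ≤ ⁅Q, Q⁆ ⊔ (Q ⊓ Qk B Px)) (hzK _ h1)))
    ((le_sup_left : _ ≤ ⁅Q, Q⁆ ⊔ (Q ⊓ Qk B Px)) (hzC _ h3))

end KerO

variable {G : Type u} [Group G] {ι : Type w} {V : Subgroup G} {R : ι → Subgroup G} {i j : ι} {P B U Px : Subgroup G}
  {F : Type v} [Field F] {vv : F → F → G} {t : F → G} {w1 w2 : F → G}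

/-- `[w, v] ∈ R i` for `w ∈ U`, `v ∈ V` -/
theorem U_V (b : BT V R) (hd : Lie.Zero.Dat V R i B U) {u x : G} (hu : u ∈ U) (hx : x ∈ V) :
    u * x * u⁻¹ * x⁻¹ ∈ R i := by
  obtain ⟨w, hw, hc⟩ := hd.UC u hu
  have h1 := mem_centralizer_iff.1 hc x hx
  have e : u * x * u⁻¹ * x⁻¹ = w * x * w⁻¹ * x⁻¹ := by
    have e1 : u * x * u⁻¹ * x⁻¹ = w * ((w⁻¹ * u) * x) * (w⁻¹ * u)⁻¹ * w⁻¹ * x⁻¹ := by group
    rw [e1, ← h1]; group
  rw [e]
  exact b.WW_comm i hw (V_le_WW V (R i) hx)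

namespace Nd

variable [Finite G] (n : Nd V R i j P) (b : BTS V R) (K : QPx V R i B U Px P)
include n b K

/-- `QPx` for `P_W` -/
theorem qpx_PW : QPx V R i B U Px (PW V R i P) where
  dat := K.dat
  X := K.X
  QP := (n.PW_le b.toBT).trans K.QP
  BQ := fun x hx => norm_PW (K.BQ hx) (b.toBT.NV_le_NY (K.dat.BV hx)) (normalizer_le_WW V (R i) (K.dat.BR hx))
  PQ := by
    have hB : B ≤ normalizer (PW V R i P : Set G) := fun x hx =>
      norm_PW (K.BQ hx) (b.toBT.NV_le_NY (K.dat.BV hx)) (normalizer_le_WW V (R i) (K.dat.BR hx))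
    intro x hx
    obtain ⟨z, hz, hzx⟩ := K.exists_mul hx
    obtain ⟨q, hq, e⟩ := n.exists_PW hz
    have h1 : q⁻¹ * z ∈ B := by
      refine K.X.PV (mem_inf.2 ⟨mul_mem (inv_mem (K.QP (n.PW_le b.toBT hq))) (K.QP hz), ?_⟩)
      rw [← cj_eq_self_iff, cj_mul, ← e, cj_inv_cj]
    have e2 : x = q * ((q⁻¹ * z) * (z⁻¹ * x)) := by group
    rw [e2]
    exact mul_mem (mem_sup_left hq) (mem_sup_right (mul_mem h1 hzx))

theorem qgn_PW : KerO.QGn (YY V R ⊔ WW V (R i)) U Px (PW V R i P) where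
  U0U := sup_le K.X.YU K.dat.WU
  U0Q := YW_le_PW
  gen := fun H hH => by
    have _ := n
    have _ := b
    refine iSup_le fun p => ?_
    rw [cj_le_iff]
    exact fun u hu => hH p (K.QP p.2) u hu

/-- the kernel of `P_W` on `W_N / (W_N ∩ Z_i)` is in the kernel of the panel -/
theorem KN_le_Qk {x : G} (hx : x ∈ PW V R i P) (hxc : ∀ y ∈ WN V P, x * y * x⁻¹ * y⁻¹ ∈ ZZ V R i) :
    x ∈ Qk B Px := by
  have hPW := n.PW_le b.toBT
  have K' := n.qpx_PW b K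
  rw [mem_Qk]
  intro g hg
  obtain ⟨q, hq, hqg⟩ := K'.exists_mul hg
  have h1 : cj (x * q) V = cj q V := by
    refine n.inj b (mul_mem (hPW hx) (hPW hq)) (hPW hq) ?_
    rw [cj_mul, cj_le_iff]
    intro y hy
    have e : x * y * x⁻¹ = (x * y * x⁻¹ * y⁻¹) * y := by group
    rw [e]
    exact mul_mem ((le_sup_right : ZZ V R i ≤ _) (hxc y (line_le_WN (hPW hq) hy))) ((le_sup_left : cj q V ≤ _) hy)
  have h2 : q⁻¹ * x * q ∈ B := by
    refine K.X.PV (mem_inf.2 ⟨?_, ?_⟩)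
    · exact mul_mem (mul_mem (inv_mem (K'.QP hq)) (K'.QP hx)) (K'.QP hq)
    · rw [← cj_eq_self_iff, show q⁻¹ * x * q = q⁻¹ * (x * q) by group, cj_mul, h1, cj_inv_cj]
  have e : g⁻¹ * x * g = (q⁻¹ * g)⁻¹ * (q⁻¹ * x * q) * (q⁻¹ * g) := by group
  rw [e]
  exact mul_mem (mul_mem (inv_mem hqg) h2) hqg

/-- `U ∩ Q_x` is trivial on `W_N / R i` -/
theorem O_le_cmod (hcomm : ∀ x ∈ WN V P, ∀ y ∈ WN V P, x * y = y * x) :
    PW V R i P ⊓ (U ⊓ Qk B Px) ≤ cmod (R i) (WN V P) := by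
  intro o ho
  have hoP : o ∈ P := n.PW_le b.toBT ho.1
  have hoN : o ∈ normalizer (R i : Set G) := n.P_le_N hoP
  refine ⟨hoN, ?_⟩
  have hA : ∀ x ∈ WN V P, o * x * o⁻¹ ∈ WN V P := fun x hx => BTwo.conj_mem_of_normalizer (P_norm_WN hoP) hx
  have h1 : WN V P ≤ KerO.fx (WN V P) (R i) hcomm o hA := by
    refine WN_le fun p hp => ?_
    rw [cj_le_iff]
    intro x hx
    refine ⟨line_le_WN hp (conj_mem_cj hx), ?_⟩
    have h2 : p⁻¹ * o * p ∈ U ⊓ Qk B Px := BTwo.conj_inv_mem_of_normalizer (K.O_norm (K.QP hp)) ho.2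
    have h3 := U_V b.toBT K.dat h2.1 hx
    have h4 := n.conj_R hp h3
    have e : o * (p * x * p⁻¹) * o⁻¹ * (p * x * p⁻¹)⁻¹ =
        p * ((p⁻¹ * o * p) * x * (p⁻¹ * o * p)⁻¹ * x⁻¹) * p⁻¹ := by group
    rw [e, h4]
    exact h3
  exact fun y hy => (h1 hy).2

end Nd

/-- **the facts on `O = P_W ∩ U ∩ Q_x`** -/
structure OKH (V : Subgroup G) (R : ι → Subgroup G) (i : ι) (P B U Px : Subgroup G) (t : F → G) : Prop where
  OP : PW V R i P ⊓ (U ⊓ Qk B Px) ≤ PW V R i P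
  OK : PW V R i P ⊓ (U ⊓ Qk B Px) ≤ cmod (R i) (WN V P)
  PO : PW V R i P ≤ normalizer ((PW V R i P ⊓ (U ⊓ Qk B Px) : Subgroup G) : Set G)
  PxO : Px ≤ normalizer ((PW V R i P ⊓ (U ⊓ Qk B Px) : Subgroup G) : Set G)
  OT : ∀ a : F, a ≠ 0 → t a ∈ normalizer ((PW V R i P ⊓ (U ⊓ Qk B Px) : Subgroup G) : Set G)
  two : IsPGroup 2 (PW V R i P ⊓ (U ⊓ Qk B Px) : Subgroup G)
  perf : PW V R i P ≤ ⁅PW V R i P, PW V R i P⁆ ⊔ (PW V R i P ⊓ (U ⊓ Qk B Px))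
  lift : ∀ c : G, c ∈ normalizer (PW V R i P : Set G) → (∀ x ∈ PW V R i P, c * x * c⁻¹ * x⁻¹ ∈ cmod (SN V R i P) (WN V P)) →
    ∀ x ∈ PW V R i P, c * x * c⁻¹ * x⁻¹ ∈ PW V R i P ⊓ (U ⊓ Qk B Px)

namespace Sc

variable {p' : G} (s : Sc V R i j vv t P p') (b : BTS V R) (τ : TorD V R i j vv t) (c : Coord V R i j vv w1 w2)
  (K : QPx V R i B U Px P)
include s b

theorem sc_lift [Finite G] (K : QPx V R i B U Px P) {g : G} (hgQ : g ∈ normalizer (PW V R i P : Set G))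
    (hg : ∀ x ∈ PW V R i P, g * x * g⁻¹ * x⁻¹ ∈ cmod (SN V R i P) (WN V P)) :
    ∀ x ∈ PW V R i P, g * x * g⁻¹ * x⁻¹ ∈ PW V R i P ⊓ (U ⊓ Qk B Px) := by
  refine KerO.lift (s.toNd.qpx_PW b K) (s.toNd.qgn_PW b K) hgQ fun x hx => ?_
  exact s.toNd.KN_le_Qk b K (mul_mem (BTwo.conj_mem_of_normalizer hgQ hx) (inv_mem hx)) fun y hy => ((hg x hx).2 y hy).2

include τ c K

/-- **the facts on `O`** -/
theorem okh [Finite G] [CharP F 2] (hF : ∃ a : F, a ≠ 0 ∧ a ≠ 1) : OKH V R i P B U Px t := by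
  have K' := s.toNd.qpx_PW b K
  have hgn := s.toNd.qgn_PW b K
  have hPxO := KerO.PxO K'
  have htP : ∀ a, a ≠ 0 → t a ∈ Px := fun a ha => K.X.le (Lie.Zero.t_mem_B b.toBT K.dat τ ha)
  refine
    { OP := inf_le_left
      OK := s.toNd.O_le_cmod b K fun x hx y hy => s.WN_comm b hx hy
      PO := K'.QP.trans hPxO
      PxO := hPxO
      OT := fun a ha => hPxO (htP a ha)
      two := KerO.O_two K'
      perf := ?_
      lift := fun g hgQ hg => s.sc_lift b K hgQ hg }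
  refine KerO.perf_O K' hgn ?_
  obtain ⟨m0, hm0, h1, h2⟩ := s.toNd.exists_swap b.toBT s.mem
  have hm0P := s.PW_le b.toBT hm0
  have hWQ : WW V (R i) ≤ PW V R i P ⊓ Qk B Px :=
    le_inf WW_le_PW (Lie.Nodes.W_le_Qx (P := fun _ : Unit => Px) (x := ()) K.dat K.X)
  -- `U_j ≤ Q' (Q ∩ Q_x)`
  have hUj : UU V R j ≤ ⁅PW V R i P, PW V R i P⁆ ⊔ (PW V R i P ⊓ Qk B Px) := by
    obtain ⟨a, ha, ha1⟩ := hF
    have ha' : a⁻¹ ≠ 0 := inv_ne_zero ha
    set z := t a⁻¹ with hz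
    have hzPx := htP _ ha'
    have hzP : z ∈ normalizer (P : Set G) := s.tP _ ha'
    have hzN : z ∈ normalizer (PW V R i P : Set G) := K'.PnQ hzPx
    -- `z z^{m₀}` centralises `P_W` modulo the kernel
    have hc : ∀ x ∈ PW V R i P, (z * (m0 * z * m0⁻¹)) * x * (z * (m0 * z * m0⁻¹))⁻¹ * x⁻¹ ∈ Qk B Px := by
      intro x hx
      have hcm := s.tt_cmod b τ c hm0P h1 h2 ha'
      rw [← hz] at hcm
      have hxP := s.PW_le b.toBT hx
      have hgN : z * (m0 * z * m0⁻¹) ∈ normalizer (PW V R i P : Set G) :=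
        mul_mem hzN (mul_mem (mul_mem (le_normalizer hm0) hzN) (inv_mem (le_normalizer hm0)))
      refine s.toNd.KN_le_Qk b K (mul_mem (BTwo.conj_mem_of_normalizer hgN hx) (inv_mem hx)) ?_
      -- `cmod` is normalised by `x`
      have h3 : x * (z * (m0 * z * m0⁻¹))⁻¹ * x⁻¹ ∈ cmod (SN V R i P) (WN V P) :=
        BTwo.conj_mem_of_normalizer (Lie.Nodes.norm_cmod (s.toNd.P_norm_SN hxP) (P_norm_WN hxP)) (inv_mem hcm)
      intro y hy
      have h4 := mul_mem hcm h3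
      have e : (z * (m0 * z * m0⁻¹)) * x * (z * (m0 * z * m0⁻¹))⁻¹ * x⁻¹ =
          (z * (m0 * z * m0⁻¹)) * (x * (z * (m0 * z * m0⁻¹))⁻¹ * x⁻¹) := by group
      rw [e]
      exact (h4.2 y hy).2
    intro u' hu'
    -- `c = a² + 1`
    have hc2 : a * a + 1 ≠ 0 := by
      intro h
      have h3 : (a + 1) * (a + 1) = 0 := by
        have : (2 : F) = 0 := CharP.cast_eq_zero F 2
        linear_combination h + a * this
      have h4 := mul_self_eq_zero.1 h3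
      exact ha1 (by
        have h5 : a = -1 := eq_neg_of_add_eq_zero_left h4
        rw [h5, CharTwo.neg_eq])
    set u := t (a * a + 1) * u' * (t (a * a + 1))⁻¹ with hu
    have hNU : ∀ a, a ≠ 0 → ∀ x ∈ UU V R j, t a * x * (t a)⁻¹ ∈ UU V R j := by
      intro a ha x hx
      rw [← b.toBT.cj_UU (b.toBT.X_le_NV (τ.memX a ha)) (cj_eq_self_iff.2 (τ.normR' ha))]
      exact conj_mem_cj hx
    have huU : u ∈ UU V R j := hNU _ hc2 u' hu'
    have h3 := τ.wU' (a * a) 1 (mul_ne_zero ha ha) one_ne_zero hc2 u huU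
    have e1 : (t (a * a + 1))⁻¹ * u * t (a * a + 1) = u' := by rw [hu]; group
    have e2 : (t (a * a))⁻¹ = z * z := by
      rw [τ.mul a a ha ha, hz, τ.inv ha]; group
    have e3 : t (a * a) = (z * z)⁻¹ := by rw [← e2, inv_inv]
    rw [e1, e2, e3, τ.one, inv_one, one_mul, mul_one] at h3
    -- `h3 : u' (z z u (z z)⁻¹ u)⁻¹ ∈ D`
    have huQ : u ∈ PW V R i P := UU_le_PW j huU
    have h4 := KerO.sq_comm K' hzPx hm0 hc huQ
    have hDW : DD V R ≤ ⁅PW V R i P, PW V R i P⁆ ⊔ (PW V R i P ⊓ Qk B Px) :=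
      (D_le_W V R i).trans (hWQ.trans le_sup_right)
    have hu2 : u * u ∈ DD V R := V_le_D V R (b.R_le j (b.W_sq j (UU_le_WW j huU)))
    have e4 : u' = (u' * (z * z * u * (z * z)⁻¹ * u)⁻¹) * ((z * z * u * (z * z)⁻¹ * u⁻¹) * (u * u)) := by group
    rw [e4]
    exact mul_mem (hDW h3) (mul_mem h4 (hDW hu2))
  rw [b.toBT.Y_eq s.hij]
  exact sup_le (sup_le ((UU_le_WW i).trans (hWQ.trans le_sup_right)) hUj) (hWQ.trans le_sup_right)

end Sc

end Cfsg.Agent.Omega.HOneQ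

end

end
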